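import Cfsg.Agent.Lib.BinAff.Field
import Mathlib.GroupTheory.GroupAction.Primitive
import Mathlib.GroupTheory.Perm.Cycle.Type

/-!
# Binary affine groups: the translation group

A primitive group with an abelian normal subgroup is a semidirect product of its translations by a point
stabiliser, and the binary property becomes the orbit property of differences.
-/

set_option autoImplicit false
set_option linter.unusedSectionVars false
set_option linter.style.haveILetI false

namespace Cfsg.Agent.BinAff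

open MulAction

universe u w

/-- The coordinates of a primitive group of affine type at a point. -/
structure Coord (G : Type u) (Ω : Type w) [Group G] [MulAction G Ω] where
  /-- the vector group -/
  V : Type u
  [grpV : AddCommGroup V]
  [finV : Finite V]
  /-- the base point -/
  base : Ω
  [act : DistribMulAction ↥(stabilizer G base) V]
  [faith : FaithfulSMul ↥(stabilizer G base) V]
  /-- the translations -/
  tr : V → G
  /-- the coordinates -/
  pt : V ≃ Ω
  tr_pt : ∀ u v : V, tr u • pt v = pt (u + v)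
  smul_pt : ∀ (h : ↥(stabilizer G base)) (v : V), (h : G) • pt v = pt (h • v)
  /-- a prime -/
  p : ℕ
  prime : p.Prime
  hyp : Hyp V ↥(stabilizer G base) p
  irr : ∀ W : AddSubgroup V, (∀ h : ↥(stabilizer G base), ∀ w ∈ W, h • w ∈ W) → W = ⊥ ∨ W = ⊤
  pt_zero : pt 0 = base
  nontriv : ∃ v : V, v ≠ 0

attribute [instance] Coord.grpV Coord.finV Coord.act Coord.faith

variable {G : Type u} {Ω : Type w} [Group G] [MulAction G Ω] [FaithfulSMul G Ω]

/-- Coordinates exist. -/
theorem exists_coord [Finite G] (hprim : MulAction.IsPreprimitive G Ω)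
    (haff : ∃ N : Subgroup G, N.Normal ∧ N ≠ ⊥ ∧ IsMulCommutative ↥N)
    (hbin : ∀ (n : ℕ) (I J : Fin n → Ω), 2 ≤ n →
      (∀ i j : Fin n, i ≠ j → ∃ g : G, g • I i = J i ∧ g • I j = J j) → ∃ g : G, ∀ i, g • I i = J i) :
    Nonempty (Coord G Ω) := by
  classical
  obtain ⟨N, hNn, hN1, hNc⟩ := haff
  haveI := hNn
  have hcomm : ∀ x ∈ N, ∀ y ∈ N, x * y = y * x := fun x hx y hy =>
    congrArg Subtype.val (hNc.is_comm.comm (⟨x, hx⟩ : N) ⟨y, hy⟩)
  have hfix : ∀ M : Subgroup G, M ≠ ⊥ → fixedPoints M Ω ≠ Set.univ := fun M hM h => hM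
    ((Subgroup.eq_bot_iff_forall _).2 fun x hx => eq_of_smul_eq_smul fun ω : Ω => by
      rw [one_smul]
      exact (show ω ∈ fixedPoints M Ω from h ▸ Set.mem_univ ω) ⟨x, hx⟩)
  obtain ⟨a, -⟩ := Set.ne_univ_iff_exists_notMem _ |>.1 (hfix N hN1)
  have htrans : ∀ M : Subgroup G, M.Normal → M ≠ ⊥ → ∀ ω : Ω, ∃ m ∈ M, m • a = ω := by
    intro M hM hM1 ω
    haveI := hM
    haveI := IsQuasiPreprimitive.isPretransitive_of_normal (G := G) (X := Ω) (hfix M hM1)
    obtain ⟨⟨m, hm⟩, e⟩ := MulAction.exists_smul_eq M a ω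
    exact ⟨m, hm, e⟩
  have hfree : ∀ n ∈ N, n • a = a → n = 1 := fun n hn h => eq_of_smul_eq_smul fun ω : Ω => by
    obtain ⟨m, hm, rfl⟩ := htrans N hNn hN1 ω
    rw [one_smul, ← mul_smul, hcomm n hn m hm, mul_smul, h]
  letI : CommGroup N := { mul_comm := hNc.is_comm.comm }
  let V := Additive N
  have hbij : Function.Bijective fun v : V => ((Additive.toMul v : N) : G) • a := by
    refine ⟨fun v w h => ?_, fun ω => ?_⟩
    · refine Additive.toMul.injective (Subtype.ext (inv_mul_eq_one.1 (hfree _ (mul_mem (inv_mem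
        (Additive.toMul v).2) (Additive.toMul w).2) ?_)))
      rw [mul_smul, ← show ((Additive.toMul v : N) : G) • a = ((Additive.toMul w : N) : G) • a from h, inv_smul_smul]
    · obtain ⟨m, hm, e⟩ := htrans N hNn hN1 ω
      exact ⟨Additive.ofMul ⟨m, hm⟩, e⟩
  let pt : V ≃ Ω := Equiv.ofBijective _ hbij
  haveI : Finite V := inferInstanceAs (Finite N)
  letI act : DistribMulAction ↥(stabilizer G a) V :=
    { smul := fun h v => Additive.ofMul (MulAut.conjNormal (h : G) (Additive.toMul v))
      one_smul := fun v => by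
        show Additive.ofMul (MulAut.conjNormal ((1 : stabilizer G a) : G) (Additive.toMul v)) = v
        simp
      mul_smul := fun g h v => by
        show Additive.ofMul (MulAut.conjNormal ((g * h : stabilizer G a) : G) (Additive.toMul v)) =
          Additive.ofMul (MulAut.conjNormal (g : G) (MulAut.conjNormal (h : G) (Additive.toMul v)))
        simp [map_mul]
      smul_zero := fun h => by
        show Additive.ofMul (MulAut.conjNormal (h : G) 1) = 0
        simp
      smul_add := fun h v w => by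
        show Additive.ofMul (MulAut.conjNormal (h : G) (Additive.toMul v * Additive.toMul w)) = _
        rw [map_mul]
        rfl }
  have hsmul : ∀ (h : ↥(stabilizer G a)) (v : V), (h : G) • pt v = pt (h • v) := fun h v => by
    show (h : G) • ((Additive.toMul v : N) : G) • a =
      ((MulAut.conjNormal (h : G) (Additive.toMul v) : N) : G) • a
    rw [MulAut.conjNormal_apply, mul_smul ((h : G) * _), mul_smul, inv_smul_eq_iff.2 h.2.symm]
  haveI faith : FaithfulSMul ↥(stabilizer G a) V := ⟨fun {g g'} h => Subtype.ext (eq_of_smul_eq_smul fun ω : Ω => by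
    obtain ⟨v, rfl⟩ := pt.surjective ω
    rw [hsmul, hsmul, h v])⟩
  have hadd : ∀ u v : V, ((Additive.toMul u : N) : G) • pt v = pt (u + v) := fun u v => (mul_smul _ _ a).symm
  -- irreducibility
  have hirr : ∀ W : AddSubgroup V, (∀ h : ↥(stabilizer G a), ∀ w ∈ W, h • w ∈ W) → W = ⊥ ∨ W = ⊤ := by
    intro W hW
    let M : Subgroup G := (AddSubgroup.toSubgroup' W : Subgroup N).map N.subtype
    have hM : M.Normal := ⟨fun x hx g => by
      obtain ⟨⟨y, hy⟩, hyW, rfl⟩ := hx
      obtain ⟨m, hm, hma⟩ := htrans N hNn hN1 (g • a)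
      have hs : m⁻¹ * g ∈ stabilizer G a := by
        rw [mem_stabilizer_iff, mul_smul, ← hma, inv_smul_smul]
      refine ⟨Additive.toMul ((⟨_, hs⟩ : stabilizer G a) • Additive.ofMul (⟨y, hy⟩ : N)),
        hW ⟨_, hs⟩ _ hyW, ?_⟩
      show ((MulAut.conjNormal (m⁻¹ * g) (⟨y, hy⟩ : N) : N) : G) = g * y * g⁻¹
      rw [MulAut.conjNormal_apply]
      have hg : g * y * g⁻¹ ∈ N := hNn.conj_mem y hy g
      calc m⁻¹ * g * y * (m⁻¹ * g)⁻¹ = m⁻¹ * (g * y * g⁻¹) * m := by group
        _ = g * y * g⁻¹ := by rw [hcomm _ (inv_mem hm) _ hg, inv_mul_cancel_right]⟩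
    by_cases hM1 : M = ⊥
    · refine Or.inl ((AddSubgroup.eq_bot_iff_forall _).2 fun v hv => ?_)
      have h1 : ((Additive.toMul v : N) : G) ∈ M := ⟨_, hv, rfl⟩
      rw [hM1, Subgroup.mem_bot] at h1
      exact Additive.toMul.injective (Subtype.ext h1)
    · refine Or.inr (eq_top_iff.2 fun v _ => ?_)
      obtain ⟨_, ⟨y, hy, rfl⟩, hxa⟩ := htrans M hM hM1 (pt v)
      rw [show v = Additive.ofMul y from pt.injective hxa.symm]
      exact hy
  have hnt : ∃ v : V, v ≠ 0 := by
    obtain ⟨x, hx, hx1⟩ := (Subgroup.bot_or_exists_ne_one N).resolve_left hN1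
    exact ⟨Additive.ofMul ⟨x, hx⟩, fun h => hx1 (congrArg (fun z : V => ((Additive.toMul z : N) : G)) h)⟩
  -- the exponent
  obtain ⟨v₁, hv₁⟩ := hnt
  obtain ⟨p, hp, hpd⟩ := Nat.exists_prime_and_dvd (n := Nat.card N) (fun h => hN1 (Subgroup.card_eq_one.1 h))
  haveI := Fact.mk hp
  have htor : ∀ v : V, p • v = 0 := by
    let W : AddSubgroup V := (nsmulAddMonoidHom (α := V) p).ker
    rcases hirr W (fun h w (hw : p • w = 0) => show p • (h • w) = 0 by rw [← smul_comm, hw, smul_zero])
      with hW | hW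
    · obtain ⟨x, hx⟩ := exists_prime_orderOf_dvd_card' (G := N) p hpd
      have hxW : Additive.ofMul x ∈ W := by
        show p • Additive.ofMul x = 0
        rw [← ofMul_pow, ← hx, pow_orderOf_eq_one]
        rfl
      rw [hW, AddSubgroup.mem_bot] at hxW
      rw [show x = 1 from hxW, orderOf_one] at hx
      exact absurd hx.symm hp.ne_one
    · exact fun v => (hW ▸ AddSubgroup.mem_top v : v ∈ W)
  -- the orbit property
  have hyp : Hyp V ↥(stabilizer G a) p := by
    refine ⟨htor, fun S f hf hS => ?_⟩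
    haveI := Fintype.ofFinite S
    let en : Fin (Fintype.card S) ≃ S := (Fintype.equivFin S).symm
    let φ : Fin (Fintype.card S + 2) → Option S := Fin.cons none (Fin.cons none fun i => some (en i))
    let X : Option S → V := fun o => o.elim 0 fun s => (s : V)
    let Y : Option S → V := fun o => o.elim 0 fun s => f s
    have hrel : ∀ o o', Rel ↥(stabilizer G a) (X o - X o') (Y o - Y o') := by
      rintro (_ | s) (_ | s')
      · simpa [X, Y] using Rel.refl (H := ↥(stabilizer G a)) (0 : V)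
      · simpa [X, Y] using (hf s' s'.2).neg
      · simpa [X, Y] using hf s s.2
      · exact hS s s.2 s' s'.2
    obtain ⟨g, hg⟩ := hbin _ (fun i => pt (X (φ i))) (fun i => pt (Y (φ i))) (Nat.le_add_left 2 _) fun i j _ => by
      obtain ⟨h, hh⟩ := hrel (φ j) (φ i)
      refine ⟨((Additive.toMul (Y (φ i)) : N) : G) * h * ((Additive.toMul (-X (φ i)) : N) : G), ?_, ?_⟩
      · rw [mul_smul, mul_smul, hadd, neg_add_cancel, hsmul, smul_zero, hadd, add_zero]
      · rw [mul_smul, mul_smul, hadd, hsmul, hadd, show -X (φ i) + X (φ j) = X (φ j) - X (φ i) by abel, hh]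
        congr 1
        abel
    have h0 : g • a = a := by
      have h := hg 0
      simp only [φ, Fin.cons_zero, X, Y, Option.elim] at h
      rwa [show pt 0 = a from one_smul G a] at h
    refine ⟨⟨g, h0⟩, fun x hx => pt.injective ?_⟩
    rw [← hsmul]
    have h := hg (Fin.succ (Fin.succ (en.symm ⟨x, hx⟩)))
    simp only [φ, Fin.cons_succ, X, Y, Option.elim, Equiv.apply_symm_apply] at h
    exact h
  exact ⟨{
    V := V, base := a, tr := fun v => ((Additive.toMul v : N) : G), pt := pt, tr_pt := hadd,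
    smul_pt := hsmul, p := p, prime := hp, hyp := hyp, irr := hirr, pt_zero := one_smul G a,
    nontriv := ⟨v₁, hv₁⟩ }⟩

namespace Coord

variable (K : Coord G Ω)

/-- Every element is a translation after an element fixing the base point. -/
theorem decomp (g : G) : ∃ (v : K.V) (h : ↥(stabilizer G K.base)), ∀ u : K.V, g • K.pt u = K.pt (v + h • u) := by
  obtain ⟨v, hv⟩ := K.pt.surjective (g • K.base)
  have hs : (K.tr v)⁻¹ * g ∈ stabilizer G K.base := by
    rw [mem_stabilizer_iff, mul_smul, inv_smul_eq_iff, ← hv]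
    conv_rhs => rw [← K.pt_zero, K.tr_pt, add_zero]
  refine ⟨v, ⟨_, hs⟩, fun u => ?_⟩
  rw [← K.tr_pt, ← K.smul_pt, ← mul_smul, mul_inv_cancel_left]

/-- If every element of the stabiliser is an involution, the degree is prime. -/
theorem of_exponent_two [Fintype Ω] (h2 : ∀ h : ↥(stabilizer G K.base), h * h = 1) :
    (Fintype.card Ω).Prime ∧ ∀ ω : Ω, Nat.card ↥(stabilizer G ω) ≤ 2 := by
  classical
  haveI : Finite ↥(stabilizer G K.base) := Finite.of_injective
    (fun (h : ↥(stabilizer G K.base)) (v : K.V) => h • v) fun g h e => eq_of_smul_eq_smul fun v : K.V => congrFun e v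
  have hcomm : ∀ g h : ↥(stabilizer G K.base), g * h = h * g := fun g h => by
    have := h2 (g * h)
    calc g * h = g * (g * h * (g * h)) * h := by rw [this, mul_one]
      _ = (g * g) * (h * g) * (h * h) := by group
      _ = h * g := by rw [h2, h2, one_mul, mul_one]
  have hdich : ∀ h : ↥(stabilizer G K.base), h = 1 ∨ ∀ v : K.V, h • v = -v := by
    intro h
    rcases K.irr (Fx K.V h) (fun g v hv => smul_mem_Fx_of_commute (hcomm g h) hv) with e | e
    · refine Or.inr fun v => eq_neg_of_add_eq_zero_left ?_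
      refine AddSubgroup.mem_bot.1 (e ▸ mem_Fx.2 ?_)
      rw [smul_add, ← mul_smul, h2, one_smul, add_comm]
    · exact Or.inl ((eq_one_iff_smul (V := K.V)).2 fun v => mem_Fx.1 (e ▸ AddSubgroup.mem_top v))
  obtain ⟨v, hv⟩ := K.nontriv
  have htop : AddSubgroup.zmultiples v = ⊤ := (K.irr (AddSubgroup.zmultiples v) (fun h w hw => by
    rcases hdich h with rfl | hh
    · rwa [one_smul]
    · rw [hh]; exact neg_mem hw)).resolve_left fun e => hv (AddSubgroup.mem_bot.1 (e ▸ AddSubgroup.mem_zmultiples v))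
  haveI := Fact.mk K.prime
  have hcard : Fintype.card Ω = K.p := by
    rw [← Nat.card_eq_fintype_card, ← Nat.card_congr K.pt, ← AddSubgroup.card_top (G := K.V), ← htop,
      Nat.card_zmultiples]
    exact addOrderOf_eq_prime (K.hyp.tor v) hv
  refine ⟨hcard ▸ K.prime, fun ω => ?_⟩
  obtain ⟨u, rfl⟩ := K.pt.surjective ω
  have hu : K.pt u = K.tr u • K.base := by
    conv_rhs => rw [← K.pt_zero, K.tr_pt, add_zero]
  rw [hu, MulAction.stabilizer_smul_eq_stabilizer_map_conj,
    Subgroup.card_map_of_injective (MulEquiv.injective _)]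
  let f : ↥(stabilizer G K.base) → Bool := fun h => decide (h = 1)
  refine (Nat.card_le_card_of_injective f fun g h e => ?_).trans (by simp)
  by_cases hg : g = 1
  · subst hg
    simpa [f, eq_comm] using e
  · have hh : h ≠ 1 := by simpa [f, hg] using e
    exact eq_of_smul_eq_smul fun v : K.V => by rw [(hdich g).resolve_left hg, (hdich h).resolve_left hh]

/-- From the endgame data to the statement. -/
theorem of_field {k : ℕ} (D : FieldHyp K.V ↥(stabilizer G K.base) K.p k) :
    ∃ (F E : Type) (_ : Field F) (_ : Fintype F) (_ : Field E) (_ : Fintype E) (_ : Algebra F E) (e : Ω ≃ E),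
      Module.finrank F E = 2 ∧
        ∀ σ : Equiv.Perm Ω, σ ∈ (MulAction.toPermHom G Ω).range ↔
          ∃ (a b : E) (φ : E ≃ₐ[F] E), Algebra.norm F a = 1 ∧ ∀ ω : Ω, e (σ ω) = a * φ (e ω) + b := by
  haveI := Fact.mk K.prime
  haveI : Finite ↥(stabilizer G K.base) := Finite.of_injective
    (fun (h : ↥(stabilizer G K.base)) (v : K.V) => h • v) fun g h e => eq_of_smul_eq_smul fun v : K.V => congrFun e v
  obtain ⟨F, E, i1, i2, i3, i4, i5, e, hfr, hiff⟩ := D.field K.hyp
  refine ⟨F, E, i1, i2, i3, i4, i5, K.pt.symm.trans e.toEquiv, hfr, fun σ => ⟨?_, ?_⟩⟩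
  · rintro ⟨g, rfl⟩
    obtain ⟨v, h, hg⟩ := K.decomp g
    obtain ⟨a, φ, ha, hs⟩ := (hiff fun u => h • u).1 ⟨h, fun _ => rfl⟩
    refine ⟨a, e v, φ, ha, fun ω => ?_⟩
    obtain ⟨u, rfl⟩ := K.pt.surjective ω
    show e (K.pt.symm (g • K.pt u)) = a * φ (e (K.pt.symm (K.pt u))) + e v
    rw [hg, Equiv.symm_apply_apply, Equiv.symm_apply_apply, map_add, hs, add_comm]
  · rintro ⟨a, b, φ, ha, hσ⟩
    obtain ⟨h, hh⟩ := (hiff fun u => e.symm (a * φ (e u))).2 ⟨a, φ, ha, fun u => e.apply_symm_apply _⟩
    refine ⟨K.tr (e.symm b) * h, Equiv.ext fun ω => (K.pt.symm.trans e.toEquiv).injective ?_⟩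
    rw [hσ]
    obtain ⟨u, rfl⟩ := K.pt.surjective ω
    show e (K.pt.symm ((K.tr (e.symm b) * (h : G)) • K.pt u)) = a * φ (e (K.pt.symm (K.pt u))) + b
    rw [mul_smul, K.smul_pt, K.tr_pt, Equiv.symm_apply_apply, Equiv.symm_apply_apply, map_add, ← hh u,
      AddEquiv.apply_symm_apply, AddEquiv.apply_symm_apply, add_comm]

end Coord

end Cfsg.Agent.BinAff
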