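import Mathlib.GroupTheory.GroupAction.FixingSubgroup
import Mathlib.GroupTheory.SpecificGroups.Cyclic
import Mathlib.GroupTheory.OrderOfElement
import Mathlib.GroupTheory.Index
import Mathlib.Algebra.CharP.Lemmas
import Mathlib.GroupTheory.Perm.Cycle.Type
import Mathlib.Tactic.Abel
import Mathlib.Tactic.Ring

/-!
# Binary affine groups: first witnesses

`H` acts additively on a finite elementary abelian group `V`, and a partial map of `V` is induced by an
element of `H` as soon as it keeps the `H`-orbit of each point and of each difference of two points.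
-/

set_option autoImplicit false
set_option linter.unusedSectionVars false

namespace Cfsg.Agent.BinAff

variable {V : Type*} [AddCommGroup V] [Finite V] {H : Type*} [Group H] [Finite H] [DistribMulAction H V]
  [FaithfulSMul H V]

variable (H) in
/-- Same orbit. -/
def Rel (x y : V) : Prop := ∃ h : H, h • x = y

theorem Rel.refl (x : V) : Rel H x x := ⟨1, one_smul _ _⟩

theorem Rel.symm {x y : V} (h : Rel H x y) : Rel H y x := by
  obtain ⟨g, rfl⟩ := h
  exact ⟨g⁻¹, inv_smul_smul g x⟩

theorem Rel.neg {x y : V} (h : Rel H x y) : Rel H (-x) (-y) := by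
  obtain ⟨g, rfl⟩ := h
  exact ⟨g, smul_neg g x⟩

theorem Rel.sub_flip {x y x' y' : V} (h : Rel H (x - y) (x' - y')) : Rel H (y - x) (y' - x') := by
  simpa using h.neg

variable (p : ℕ)

variable (V H) in
/-- The hypotheses: exponent `p` and the binary property. -/
structure Hyp : Prop where
  tor : ∀ v : V, p • v = 0
  bin : ∀ (S : Set V) (f : V → V), (∀ x ∈ S, Rel H x (f x)) →
    (∀ x ∈ S, ∀ y ∈ S, Rel H (x - y) (f x - f y)) → ∃ h : H, ∀ x ∈ S, h • x = f x

variable {p}

/-- One moved point. -/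
theorem Hyp.point (hh : Hyp V H p) (S : Set V) {v w : V} (h0 : Rel H v w)
    (hS : ∀ s ∈ S, Rel H (v - s) (w - s)) : ∃ h ∈ fixingSubgroup H S, h • v = w := by
  classical
  by_cases hvS : v ∈ S
  · obtain ⟨g, hg⟩ := hS v hvS
    rw [sub_self, smul_zero] at hg
    exact ⟨1, one_mem _, by rw [one_smul]; exact (sub_eq_zero.1 hg.symm).symm⟩
  · have hf : ∀ s ∈ S, (Function.update id v w) s = s := fun s hs =>
      Function.update_of_ne (fun (e : s = v) => hvS (e ▸ hs)) _ _
    obtain ⟨h, hh'⟩ := hh.bin (insert v S) (Function.update id v w) (by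
        rintro x (rfl | hx)
        · simpa using h0
        · rw [hf x hx]; exact Rel.refl x)
      (by
        rintro x (rfl | hx) y (rfl | hy)
        · simpa using Rel.refl (0 : V)
        · rw [hf y hy, Function.update_self]; exact hS y hy
        · rw [hf x hx, Function.update_self]; exact (hS x hx).sub_flip
        · rw [hf x hx, hf y hy]; exact Rel.refl _)
    refine ⟨h, (mem_fixingSubgroup_iff H).2 fun s hs => ?_, ?_⟩
    · rw [hh' s (Set.mem_insert_of_mem _ hs), hf s hs]
    · rw [hh' v (Set.mem_insert _ _), Function.update_self]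

/-- Stabilisers of sets are generously transitive on their orbits. -/
theorem Hyp.swap (hh : Hyp V H p) (S : Set V) {g : H} (hg : g ∈ fixingSubgroup H S) (v : V) :
    ∃ σ ∈ fixingSubgroup H S, σ • v = g • v ∧ σ • (g • v) = v := by
  set w := g • v
  obtain ⟨σ, hσ, hσv⟩ := hh.point (insert (v + w) S) (v := v) (w := w) ⟨g, rfl⟩ (by
    rintro s (rfl | hs)
    · obtain ⟨k, hk⟩ := (Rel.symm (⟨g, rfl⟩ : Rel H v w)).neg
      exact ⟨k, by rw [show v - (v + w) = -w by abel, hk]; abel⟩
    · exact ⟨g, by rw [smul_sub, (mem_fixingSubgroup_iff H).1 hg s hs]⟩)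
  rw [mem_fixingSubgroup_iff] at hσ
  refine ⟨σ, (mem_fixingSubgroup_iff H).2 fun s hs => hσ s (Set.mem_insert_of_mem _ hs), hσv, ?_⟩
  have h1 := hσ _ (Set.mem_insert (v + w) S)
  rw [smul_add, hσv, add_comm v w] at h1
  exact add_left_cancel h1

/-- Points fixed by the stabiliser of a set are rigid. -/
theorem Hyp.rigid (hh : Hyp V H p) (S : Set V) {z z' : V}
    (hz : ∀ h ∈ fixingSubgroup H S, h • z = z) (h0 : Rel H z z') (hS : ∀ s ∈ S, Rel H (z - s) (z' - s)) :
    z' = z := by
  obtain ⟨h, hh', rfl⟩ := hh.point S h0 hS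
  exact hz h hh'

/-- A stabiliser with a regular point has exponent two. -/
theorem Hyp.sq_of_regular (hh : Hyp V H p) (S : Set V) {v : V}
    (hv : ∀ g ∈ fixingSubgroup H S, g • v = v → g = 1) {g : H} (hg : g ∈ fixingSubgroup H S) :
    g * g = 1 := by
  obtain ⟨σ, hσ, h1, h2⟩ := hh.swap S hg v
  have e : g⁻¹ * σ = 1 := hv _ (mul_mem (inv_mem hg) hσ) (by rw [mul_smul, h1, inv_smul_smul])
  rw [inv_mul_eq_one] at e
  exact hv _ (mul_mem hg hg) (by rw [mul_smul]; exact (congrArg (· • (g • v)) e).trans h2)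

section Unipotent

variable [hp : Fact p.Prime]

theorem Hyp.two_nsmul_half (hh : Hyp V H p) (h2 : p ≠ 2) (v : V) :
    ((p + 1) / 2) • v + ((p + 1) / 2) • v = v := by
  have ho : Odd p := hp.out.odd_of_ne_two h2
  obtain ⟨k, hk⟩ := ho
  rw [← add_nsmul, show (p + 1) / 2 + (p + 1) / 2 = p + 1 by omega, succ_nsmul, hh.tor, zero_add]

theorem Hyp.eq_zero_of_add_self (hh : Hyp V H p) (h2 : p ≠ 2) {v : V} (h : v + v = 0) : v = 0 := by
  have := hh.two_nsmul_half h2 v
  rw [← nsmul_add, h, nsmul_zero] at this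
  exact this.symm

/-- For odd `p` no element has a fixed image of `g - 1`. -/
theorem Hyp.no_step_odd (hh : Hyp V H p) (h2 : p ≠ 2) {g : H} {b s : V} (hb : g • b = b + s)
    (hs : g • s = s) : s = 0 := by
  have hpow : ∀ k : ℕ, (g ^ k) • b = b + k • s := by
    intro k
    induction k with
    | zero => simp
    | succ k ih =>
      rw [pow_succ', mul_smul, ih, smul_add, hb, succ_nsmul, smul_comm g k s, hs]
      abel
  have e := hh.rigid {b} (z := b + b) (z' := b + b + s) (fun h h' => by
      rw [smul_add, (mem_fixingSubgroup_iff H).1 h' b rfl])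
    ⟨g ^ ((p + 1) / 2), by
      have key : ((p + 1) / 2) • s + ((p + 1) / 2) • s = s := hh.two_nsmul_half h2 s
      rw [smul_add, hpow]
      calc b + ((p + 1) / 2) • s + (b + ((p + 1) / 2) • s)
          = b + b + (((p + 1) / 2) • s + ((p + 1) / 2) • s) := by abel
        _ = b + b + s := by rw [key]⟩
    (by
      rintro x rfl
      exact ⟨g, by rw [show x + x - x = x by abel, hb]; abel⟩)
  simpa using e

/-- For `p = 2` no element has a fixed non-zero image of `(g - 1)^2`. -/
theorem Hyp.no_step_two (hh : Hyp V H p) (h2 : p = 2) {g : H} {b d s : V} (hb : g • b = b + d)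
    (hd : g • d = d + s) (hs : g • s = s) : s = 0 := by
  have htwo : ∀ x : V, x + x = 0 := fun x => by rw [← two_nsmul, ← h2]; exact hh.tor x
  have hg2b : (g * g) • b = b + s := by
    rw [mul_smul, hb, smul_add, hb, hd]
    calc b + d + (d + s) = b + (d + d) + s := by abel
      _ = b + s := by rw [htwo, add_zero]
  have hg2d : (g * g) • d = d := by
    rw [mul_smul, hd, smul_add, hd, hs, add_assoc, htwo, add_zero]
  have e := hh.rigid {b, d} (z := b + d) (z' := b + d + s) (fun h h' => by
      rw [smul_add, (mem_fixingSubgroup_iff H).1 h' b (by simp),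
        (mem_fixingSubgroup_iff H).1 h' d (by simp)])
    ⟨g * g, by rw [smul_add, hg2b, hg2d]; abel⟩
    (by
      rintro x (rfl | rfl)
      · exact ⟨g, by rw [show x + d - x = d by abel, hd]; abel⟩
      · exact ⟨g * g, by rw [show b + x - x = b by abel, hg2b]; abel⟩)
  simpa using e

end Unipotent

section Diff

variable (V) in
/-- The map `v ↦ g • v - v`. -/
def dl (g : H) : V →+ V where
  toFun v := g • v - v
  map_zero' := by simp
  map_add' a b := by rw [smul_add]; abel

@[simp] theorem dl_apply (g : H) (v : V) : dl V g v = g • v - v := rfl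

variable (V) in
/-- Fixed points of an element. -/
def Fx (g : H) : AddSubgroup V := (dl V g).ker

variable (V) in
/-- The image of `g - 1`. -/
def Rg (g : H) : AddSubgroup V := (dl V g).range

theorem mem_Fx {g : H} {v : V} : v ∈ Fx V g ↔ g • v = v := by
  rw [Fx, AddMonoidHom.mem_ker, dl_apply, sub_eq_zero]

theorem dl_mem_Rg (g : H) (v : V) : g • v - v ∈ Rg V g := ⟨v, rfl⟩

theorem card_Fx_mul_Rg (g : H) : Nat.card (Fx V g) * Nat.card (Rg V g) = Nat.card V := by
  rw [Rg, ← Nat.card_congr (QuotientAddGroup.quotientKerEquivRange (dl V g)).toEquiv, mul_comm]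
  exact (AddSubgroup.card_eq_card_quotient_mul_card_addSubgroup (Fx V g)).symm

theorem eq_one_iff_smul {g : H} : g = 1 ↔ ∀ v : V, g • v = v :=
  ⟨fun h v => by rw [h, one_smul], fun h => eq_of_smul_eq_smul fun v : V => by rw [h, one_smul]⟩

theorem Fx_ne_top {g : H} (hg : g ≠ 1) : Fx V g ≠ ⊤ := fun e =>
  hg ((eq_one_iff_smul (V := V)).2 fun v => mem_Fx.1 (e ▸ AddSubgroup.mem_top v))

theorem Fx_conj {g k : H} {v : V} : v ∈ Fx V (k * g * k⁻¹) ↔ k⁻¹ • v ∈ Fx V g := by
  rw [mem_Fx, mem_Fx, mul_smul, mul_smul, smul_eq_iff_eq_inv_smul]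

theorem Rg_conj {g k : H} {v : V} : v ∈ Rg V (k * g * k⁻¹) ↔ k⁻¹ • v ∈ Rg V g := by
  constructor
  · rintro ⟨w, rfl⟩
    exact ⟨k⁻¹ • w, by simp [smul_sub, mul_smul]⟩
  · rintro ⟨w, hw⟩
    refine ⟨k • w, ?_⟩
    rw [dl_apply] at hw ⊢
    rw [mul_smul, mul_smul, inv_smul_smul, ← smul_sub, hw, smul_inv_smul]

/-- A commuting element keeps fixed points and image. -/
theorem smul_mem_Fx_of_commute {g k : H} (h : Commute k g) {v : V} (hv : v ∈ Fx V g) : k • v ∈ Fx V g := by
  rw [mem_Fx] at hv ⊢
  rw [← mul_smul, ← h.eq, mul_smul, hv]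

theorem smul_mem_Rg_of_commute {g k : H} (h : Commute k g) {v : V} (hv : v ∈ Rg V g) : k • v ∈ Rg V g := by
  obtain ⟨w, rfl⟩ := hv
  exact ⟨k • w, by rw [dl_apply, dl_apply, smul_sub, ← mul_smul, ← mul_smul, h.eq]⟩

variable (hh : Hyp V H p)
include hh

/-- The fixed space and image of an element of order prime to `p` meet trivially. -/
theorem Hyp.disjoint_of_coprime {g : H} (hg : (orderOf g).Coprime p) {v : V} (h1 : v ∈ Fx V g)
    (h2 : v ∈ Rg V g) : v = 0 := by
  obtain ⟨w, hw⟩ := h2
  rw [dl_apply, sub_eq_iff_eq_add'] at hw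
  rw [mem_Fx] at h1
  have hpow : ∀ k : ℕ, (g ^ k) • w = w + k • v := by
    intro k
    induction k with
    | zero => simp
    | succ k ih =>
      rw [pow_succ', mul_smul, ih, smul_add, hw, succ_nsmul, smul_comm g k v, h1]
      abel
  have h3 := hpow (orderOf g)
  rw [pow_orderOf_eq_one, one_smul, left_eq_add] at h3
  have h4 : addOrderOf v ∣ Nat.gcd (orderOf g) p :=
    Nat.dvd_gcd (addOrderOf_dvd_iff_nsmul_eq_zero.2 h3) (addOrderOf_dvd_iff_nsmul_eq_zero.2 (hh.tor v))
  rw [hg.gcd_eq_one, Nat.dvd_one, AddMonoid.addOrderOf_eq_one_iff] at h4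
  exact h4

theorem Hyp.exists_split {g : H} (hg : (orderOf g).Coprime p) (v : V) :
    ∃ a ∈ Fx V g, ∃ m ∈ Rg V g, v = a + m := by
  let f : Fx V g × Rg V g →+ V := (Fx V g).subtype.coprod (Rg V g).subtype
  have hinj : Function.Injective f := by
    rw [injective_iff_map_eq_zero]
    rintro ⟨⟨a, ha⟩, ⟨m, hm⟩⟩ e
    have e' : a + m = 0 := e
    have h0 := hh.disjoint_of_coprime hg ha
      (by rw [eq_neg_of_add_eq_zero_left e']; exact neg_mem hm)
    subst h0
    rw [zero_add] at e'
    subst e'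
    rfl
  have hbij := (Nat.bijective_iff_injective_and_card f).2
    ⟨hinj, by rw [Nat.card_prod, card_Fx_mul_Rg]⟩
  obtain ⟨⟨a, m⟩, rfl⟩ := hbij.2 v
  exact ⟨a, a.2, m, m.2, rfl⟩

variable [hp : Fact p.Prime]

/-- For odd `p` there is no element of order `p`. -/
theorem Hyp.eq_one_of_pow_prime (h2 : p ≠ 2) {g : H} (hg : g ^ p = 1) : g = 1 := by
  have hker : ∀ v : V, dl V g (dl V g v) = 0 → dl V g v = 0 := fun v hv =>
    hh.no_step_odd h2 (g := g) (b := v) (s := dl V g v) (by simp)
      (sub_eq_zero.1 (by simpa using hv))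
  let φ : AddMonoid.End V := DistribMulAction.toAddMonoidEnd H V g
  let N : AddMonoid.End V := dl V g
  have hN : φ = N + 1 := by
    refine AddMonoidHom.ext fun v => ?_
    show g • v = g • v - v + v
    abel
  obtain ⟨r, hr⟩ := Commute.exists_add_pow_prime_eq hp.out (Commute.one_right N)
  rw [← hN, ← map_pow, hg, map_one, one_pow] at hr
  have h0 : ∀ v : V, (N ^ p) v = 0 := by
    intro v
    have e : v = (N ^ p) v + v + ((p : AddMonoid.End V) * N * 1 * r) v := DFunLike.congr_fun hr v
    rw [mul_assoc, mul_assoc] at e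
    rw [show ((p : AddMonoid.End V) * (N * (1 * r))) v = p • ((N * (1 * r)) v) from
      AddMonoid.End.natCast_apply p _, hh.tor, add_zero] at e
    exact add_eq_right.1 e.symm
  have hdown : ∀ k : ℕ, ∀ v : V, (N ^ (k + 1)) v = 0 → N v = 0 := by
    intro k
    induction k with
    | zero => intro v hv; rwa [pow_one] at hv
    | succ k ih =>
      intro v hv
      refine hker v ?_
      refine ih (N v) ?_
      rw [pow_succ] at hv
      exact hv
  refine (eq_one_iff_smul (V := V)).2 fun v => sub_eq_zero.1 ?_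
  exact hdown (p - 1) v (by rw [Nat.sub_add_cancel hp.out.one_le]; exact h0 v)

/-- For odd `p` the order of `H` is prime to `p`. -/
theorem Hyp.coprime_odd (h2 : p ≠ 2) (g : H) : (orderOf g).Coprime p := by
  refine Nat.Coprime.symm ((Nat.Prime.coprime_iff_not_dvd hp.out).2 fun hd => ?_)
  have h1 := hh.eq_one_of_pow_prime h2 (g := g ^ (orderOf g / p))
    (by rw [← pow_mul, Nat.div_mul_cancel hd, pow_orderOf_eq_one])
  have h3 := Nat.le_of_dvd (Nat.div_pos (Nat.le_of_dvd (orderOf_pos g) hd) hp.out.pos)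
    (orderOf_dvd_of_pow_eq_one h1)
  have h4 : orderOf g / p < orderOf g := Nat.div_lt_self (orderOf_pos g) hp.out.one_lt
  omega

/-- For `p = 2` elements of order dividing four are involutions or trivial. -/
theorem Hyp.sq_of_pow_four (h2 : p = 2) {g : H} (hg : g ^ 4 = 1) : g * g = 1 := by
  have htwo : ∀ x : V, x + x = 0 := fun x => by rw [← two_nsmul, ← h2]; exact hh.tor x
  have hN4 : ∀ b : V, dl V g (dl V g (dl V g (dl V g b))) = 0 := by
    intro b
    have e : (g ^ 4) • b = b := by rw [hg, one_smul]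
    simp only [dl_apply, smul_sub]
    rw [pow_succ', pow_succ', pow_succ', pow_one, mul_smul, mul_smul, mul_smul] at e
    rw [e]
    set b1 := g • b
    set b2 := g • b1
    set b3 := g • b2
    calc b - b3 - (b3 - b2) - (b3 - b2 - (b2 - b1)) - (b3 - b2 - (b2 - b1) - (b2 - b1 - (b1 - b)))
        = b + b - (b3 + b3) - (b3 + b3) + (b2 + b2) + (b2 + b2) + (b2 + b2) - (b1 + b1) - (b1 + b1) := by
          abel
      _ = 0 := by simp [htwo]
  have hN3 : ∀ b : V, dl V g (dl V g (dl V g b)) = 0 := fun b =>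
    hh.no_step_two h2 (g := g) (b := dl V g b) (d := dl V g (dl V g b)) (by simp) (by simp)
      (sub_eq_zero.1 (by simpa using hN4 b))
  refine (eq_one_iff_smul (V := V)).2 fun b => ?_
  have h3 := hh.no_step_two h2 (g := g) (b := b) (d := dl V g b) (s := dl V g (dl V g b)) (by simp) (by simp)
    (sub_eq_zero.1 (by simpa using hN3 b))
  simp only [dl_apply, smul_sub] at h3
  rw [mul_smul]
  calc g • g • b = (g • g • b - g • b - (g • b - b)) + (g • b + g • b) - b := by abel
    _ = b + 0 := by rw [h3, htwo, zero_add, zero_sub, add_zero, neg_eq_of_add_eq_zero_left (htwo b)]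
    _ = b := add_zero b

/-- For `p = 2` the `2`-elements are involutions or trivial. -/
theorem Hyp.sq_of_two_pow (h2 : p = 2) {g : H} {k : ℕ} (hg : g ^ 2 ^ k = 1) : g * g = 1 := by
  induction k with
  | zero => rw [pow_zero, pow_one] at hg; rw [hg, one_mul]
  | succ k ih =>
    rcases k with _ | k
    · rw [← pow_two]; simpa using hg
    · refine ih ?_
      have h4 : (g ^ 2 ^ k) ^ 4 = 1 := by
        rw [← pow_mul, show 2 ^ k * 4 = 2 ^ (k + 1 + 1) by ring]
        exact hg
      rw [pow_succ, pow_mul, pow_two]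
      exact hh.sq_of_pow_four h2 h4

end Diff

end Cfsg.Agent.BinAff
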