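import Cfsg.Agent.Lib.BinAff.Move

/-!
# Binary affine groups: no configuration in characteristic two
-/

set_option autoImplicit false
set_option linter.unusedSectionVars false

namespace Cfsg.Agent.BinAff

variable {V : Type*} [AddCommGroup V] [Finite V] {H : Type*} [Group H] [Finite H] [DistribMulAction H V]
  [FaithfulSMul H V] {p : ℕ} [Fact p.Prime]

/-- Rank and kernel of `g - 1` on a subgroup. -/
theorem card_inf_mul_map (x : H) (M : AddSubgroup V) :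
    Nat.card (Fx V x ⊓ M : AddSubgroup V) * Nat.card (M.map (dl V x)) = Nat.card M := by
  let f : M →+ V := (dl V x).comp M.subtype
  have h1 : Nat.card M = Nat.card f.range * Nat.card f.ker := by
    rw [← Nat.card_congr (QuotientAddGroup.quotientKerEquivRange f).toEquiv]
    exact AddSubgroup.card_eq_card_quotient_mul_card_addSubgroup f.ker
  have h2 : f.range = M.map (dl V x) := by
    rw [AddMonoidHom.range_comp, AddSubgroup.range_subtype]
  have h3 : Nat.card f.ker = Nat.card (Fx V x ⊓ M : AddSubgroup V) :=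
    Nat.card_congr
      { toFun := fun v => ⟨(v : M), AddSubgroup.mem_inf.2 ⟨v.2, (v : M).2⟩⟩
        invFun := fun v => ⟨⟨v, (AddSubgroup.mem_inf.1 v.2).2⟩, (AddSubgroup.mem_inf.1 v.2).1⟩
        left_inv := fun v => rfl
        right_inv := fun v => rfl }
  rw [h1, h2, h3, mul_comm]

namespace Conf

variable {T1 : AddSubgroup V} {x : H} {q : ℕ} (hh : Hyp V H p) (C : Conf H p T1 x q)
include hh C

/-- Stabilisers above the intersection at a root vector of the outside mirror have exponent two. -/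
theorem elem_two (h2 : p = 2) {u : V} (hu : u ∈ Rg V x) (huT : u ∉ Fx V x ⊓ T1) {g : H}
    (hg : Fx V x ⊓ T1 ≤ Fx V g) (hgu : g • u = u) : g * g = 1 := by
  by_contra hg2
  obtain ⟨T', hT', hle⟩ := exists_pencil (V := V) hg2
  obtain ⟨-, D'⟩ := C.all_pencils hh hT' (hg.trans hle)
  have huT' : u ∈ T' := hle (mem_Fx.2 hgu)
  have huW : u ∈ Fx V x := hh.Rg_le_Fx h2 (C.pm.mir.sq hh) hu
  have hu0 : u ≠ 0 := fun e => huT (e ▸ zero_mem _)
  have hxout : ¬ IsMem T' x := fun h => hu0 (D'.rg_T h hu huT')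
  by_cases hex : ∃ k, IsMem T' k ∧ ¬ Commute x k
  · obtain ⟨k, hk, hxk⟩ := hex
    have hsub : Fx V x ⊓ T1 ≤ Fx V x ⊓ T' := le_inf inf_le_left (hg.trans hle)
    have he := AddSubgroup.eq_of_le_of_card_ge hsub (C.max T' x k hT' C.pm hxout hk hxk)
    exact huT (he ▸ AddSubgroup.mem_inf.2 ⟨huW, huT'⟩)
  push Not at hex
  obtain ⟨hU, hM⟩ := D'.of_commute_all hh C.pm.mir hxout hex
  obtain ⟨k, hk, hL, -⟩ := C.exists_line hh
  obtain ⟨qL, DL⟩ := hL.data hh
  have hUT : Rg V x ⊓ (Fx V x ⊓ T1) = ⊥ := (AddSubgroup.eq_bot_iff_forall _).2 fun v hv => by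
    obtain ⟨h1, h3⟩ := AddSubgroup.mem_inf.1 hv
    exact DL.rg_T (x := x) ⟨C.pm.mir, inf_le_left⟩ h1
      (AddSubgroup.mem_inf.2 ⟨(AddSubgroup.mem_inf.1 h3).1, hk.2 (AddSubgroup.mem_inf.1 h3).2⟩)
  have i1 := card_prod_le (M := Fx V x ⊓ T') (le_inf (hh.Rg_le_Fx h2 (C.pm.mir.sq hh)) hU)
    (le_inf inf_le_left (hg.trans hle)) hUT
  have i2 := card_prod_le (M := Fx V x) hM (inf_le_left : Fx V x ⊓ T' ≤ Fx V x)
    ((AddSubgroup.eq_bot_iff_forall _).2 fun v hv => D'.mov_T (AddSubgroup.mem_inf.1 hv).1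
      (AddSubgroup.mem_inf.1 (AddSubgroup.mem_inf.1 hv).2).2)
  rw [(C.card_x hh).1] at i1
  rw [D'.card_Mov, (C.card_x hh).2] at i2
  have i3 : q * q * (q * Nat.card (Fx V x ⊓ T1 : AddSubgroup V)) ≤ Nat.card T1 * q :=
    (Nat.mul_le_mul_left _ i1).trans i2
  have i4 := Nat.mul_le_mul_right q (C.card_le_base hh)
  have ht : 0 < Nat.card (Fx V x ⊓ T1 : AddSubgroup V) := Nat.card_pos
  have hq := D'.one_lt
  nlinarith [Nat.mul_pos ht (Nat.mul_pos (by omega : 0 < q) (by omega : 0 < q))]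

/-- No configuration exists for `p = 2`. -/
theorem false_two (h2 : p = 2) : False := by
  obtain ⟨k, hk, hL, -⟩ := C.exists_line hh
  obtain ⟨qL, DL⟩ := hL.data hh
  obtain ⟨u, hu, hu0⟩ := (Rg V x).bot_or_exists_ne_zero.resolve_left (Rg_ne_bot C.pm.mir.ne_one)
  have huT : u ∉ Fx V x ⊓ T1 := fun h => hu0 (DL.rg_T (x := x) ⟨C.pm.mir, inf_le_left⟩ hu
    (AddSubgroup.mem_inf.2 ⟨(AddSubgroup.mem_inf.1 h).1, hk.2 (AddSubgroup.mem_inf.1 h).2⟩))
  obtain ⟨A, hA, -, hAn, hAS⟩ := hh.complement_two h2 C.pm.mir inf_le_left hu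
    fun g hg hgu => C.elem_two hh h2 hu huT hg hgu
  obtain ⟨h, h', hm, hm', hc⟩ := C.data.exists_noncomm
  have hTT : Fx V x ⊓ T1 ≤ T1 := inf_le_right
  have hgT : Fx V x ⊓ T1 ≤ Fx V (h * h') := hTT.trans ((le_inf hm.2 hm'.2).trans (Fx_inf_le h h'))
  obtain ⟨a, ha, s, hs, hsu, e⟩ := hAS _ hgT
  have hs2 : s * s = 1 := C.elem_two hh h2 hu huT hs hsu
  obtain ⟨g, hgdef⟩ : ∃ g, g = h * h' * (h * h') := ⟨_, rfl⟩
  have hgA : g ∈ A := by
    have e' : g = a * (s * a * s⁻¹) := by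
      rw [hgdef, e, inv_eq_of_mul_eq_one_right hs2]; group
    exact e' ▸ A.mul_mem ha (hAn s hs a ha)
  have hg1 : g ≠ 1 := fun e1 => hc ((hm.1.commute_iff hh hm'.1).1 (hgdef ▸ e1))
  have hgT1 : T1 ≤ Fx V g := by
    rw [hgdef]
    exact (le_inf ((le_inf hm.2 hm'.2).trans (Fx_inf_le h h'))
      ((le_inf hm.2 hm'.2).trans (Fx_inf_le h h'))).trans (Fx_inf_le _ _)
  obtain ⟨-, hxg, hgo⟩ := hA g hgA
  have hg2 : g * g ≠ 1 := fun e1 => hg1 (eq_one_of_sq_of_odd e1 hgo)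
  have hFg : Fx V g = T1 := C.pen.Fx_eq hgT1 hg2
  have hFg2 : Fx V (g * g) = T1 := C.pen.Fx_eq ((le_inf hgT1 hgT1).trans (Fx_inf_le g g)) fun e1 =>
    hg2 (eq_one_of_sq_of_odd e1 (hA (g * g) (A.mul_mem hgA hgA)).2.2)
  have hco := eq_neg_one_pow (p := p) hgo h2
  have hxx := C.pm.mir.sq hh
  have hinv : x * g = g⁻¹ * x := by rw [← hxg, mul_assoc (x * g), hxx, mul_one]
  have hxT : ∀ v ∈ T1, x • v ∈ T1 := fun v hv => by
    rw [← hFg] at hv ⊢
    rw [mem_Fx] at hv ⊢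
    have e2 : g * x = x * g⁻¹ := by
      rw [← hxg, ← mul_assoc, ← mul_assoc, hxx, one_mul]
    rw [← mul_smul, e2, mul_smul, inv_smul_eq_iff.2 hv.symm]
  have hconj : g * x * g⁻¹ * x = g * g := by
    rw [← hxg]
    calc g * x * (x * g * x) * x = g * (x * x) * g * (x * x) := by group
      _ = g * g := by rw [hxx, mul_one, mul_one]
  have hinter : (Fx V x ⊓ Rg V g) ⊓ tr V g (Fx V x ⊓ Rg V g) = ⊥ :=
    (AddSubgroup.eq_bot_iff_forall _).2 fun v hv => by
      obtain ⟨h1, h3⟩ := AddSubgroup.mem_inf.1 hv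
      obtain ⟨h1, hvM⟩ := AddSubgroup.mem_inf.1 h1
      have h4 : v ∈ Fx V (g * x * g⁻¹) := by
        rw [Fx_conj']; exact tr_mono inf_le_left h3
      have h5 : v ∈ Fx V (g * x * g⁻¹ * x) := Fx_inf_le _ _ (AddSubgroup.mem_inf.2 ⟨h4, h1⟩)
      rw [hconj, hFg2, ← hFg] at h5
      exact hh.disjoint_of_coprime hco h5 hvM
  have htr : tr V g (Fx V x ⊓ Rg V g) ≤ Rg V g := fun v hv => by
    have h6 := (AddSubgroup.mem_inf.1 (mem_tr.1 hv)).2
    have := smul_mem_Rg_of_commute (V := V) (Commute.refl g) h6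
    rwa [smul_inv_smul] at this
  have i1 := card_prod_le (inf_le_right : Fx V x ⊓ Rg V g ≤ Rg V g) htr hinter
  rw [card_tr] at i1
  have hM : Nat.card (Rg V g) = q * q := by
    have := card_Fx_mul_Rg (V := V) g
    rw [hFg, C.data.card] at this
    exact Nat.eq_of_mul_eq_mul_left Nat.card_pos this
  have hprod := card_inf_mul_map (V := V) x (Rg V g)
  have hle : (Rg V g).map (dl V x) ≤ Rg V x := by
    rintro - ⟨v, -, rfl⟩
    exact ⟨v, rfl⟩
  have i2 : Nat.card (Rg V x) ≤ Nat.card ((Rg V g).map (dl V x)) := by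
    rw [(C.card_x hh).1]
    rw [hM] at hprod i1
    by_contra hlt
    rw [not_le] at hlt
    have ha := Nat.mul_self_le_mul_self_iff.1 i1
    have hc0 : 0 < Nat.card ((Rg V g).map (dl V x)) := Nat.card_pos
    nlinarith
  have heq := AddSubgroup.eq_of_le_of_card_ge hle i2
  refine C.out ⟨C.pm.mir, fun v hv => mem_Fx.2 (sub_eq_zero.1 ?_)⟩
  have h7 : dl V x v ∈ Rg V g := by
    have h8 : dl V x v ∈ (Rg V g).map (dl V x) := heq ▸ ⟨v, rfl⟩
    obtain ⟨m, hm1, hm2⟩ := h8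
    rw [← hm2, dl_apply]
    exact sub_mem (smul_mem_Rg_of_inverts hinv hm1) hm1
  exact hh.disjoint_of_coprime hco (hFg.symm ▸ sub_mem (hxT v hv) hv) h7

end Conf

end Cfsg.Agent.BinAff
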