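import Cfsg.Agent.Lib.BinAff.Basic
import Mathlib.GroupTheory.GroupAction.Quotient
import Mathlib.FieldTheory.Finite.GaloisField
import Mathlib.FieldTheory.Fixed
import Mathlib.RingTheory.LittleWedderburn
import Mathlib.Algebra.Ring.Aut

/-!
# Binary affine groups: the plane over a field

When every non-zero point has a stabiliser of order two and the fixed spaces are halves, the group is the norm
one torus of a quadratic extension extended by the field automorphism.
-/

set_option autoImplicit false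
set_option linter.unusedSectionVars false
set_option linter.style.haveILetI false

namespace Cfsg.Agent.BinAff

variable {V : Type*} [AddCommGroup V] [Finite V] {H : Type*} [Group H] [Finite H] [DistribMulAction H V]
  [FaithfulSMul H V]

variable (V) in
/-- A non-trivial element with a non-zero fixed point. -/
def Mem (x : H) : Prop := x ≠ 1 ∧ ∃ v : V, v ≠ 0 ∧ x • v = v

theorem fix_of_not_mem {g : H} (hg : ¬ Mem V g) (h1 : g ≠ 1) {v : V} (hv : g • v = v) : v = 0 := by
  by_contra h
  exact hg ⟨h1, v, h, hv⟩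

/-- A fixed-point-free involution inverts every point. -/
theorem smul_eq_neg {g : H} (hg : ¬ Mem V g) (h1 : g ≠ 1) (h2 : g * g = 1) (v : V) : g • v = -v := by
  refine eq_neg_of_add_eq_zero_left (fix_of_not_mem hg h1 ?_)
  rw [smul_add, ← mul_smul, h2, one_smul, add_comm]

/-- The hypotheses of the endgame. -/
structure FieldHyp (V H : Type*) [AddCommGroup V] [Group H] [DistribMulAction H V] (p k : ℕ) : Prop where
  pos : 0 < k
  card : Nat.card V = p ^ (2 * k)
  stab : ∀ v : V, v ≠ 0 → ∃ x : H, x ≠ 1 ∧ x * x = 1 ∧ x • v = v ∧ ∀ g : H, g • v = v → g = 1 ∨ g = x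
  half : ∀ x : H, x ≠ 1 → (∃ v : V, v ≠ 0 ∧ x • v = v) → Nat.card (Fx V x) = p ^ k
  perp : ∀ x y z : H, x ≠ 1 → (∃ v : V, v ≠ 0 ∧ x • v = v) → y ≠ 1 → (∃ v : V, v ≠ 0 ∧ y • v = v) →
    z ≠ 1 → (∃ v : V, v ≠ 0 ∧ z • v = v) → x ≠ y → x ≠ z → Commute x y → Commute x z → y = z

variable {p k : ℕ} (D : FieldHyp V H p k)
include D

theorem FieldHyp.perp' {x y z : H} (hx : Mem V x) (hy : Mem V y) (hz : Mem V z) (hxy : x ≠ y) (hxz : x ≠ z)
    (c1 : Commute x y) (c2 : Commute x z) : y = z :=
  D.perp x y z hx.1 hx.2 hy.1 hy.2 hz.1 hz.2 hxy hxz c1 c2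

theorem FieldHyp.mem_stab {x : H} (hx : Mem V x) {v : V} (hv : v ≠ 0) (hxv : x • v = v) {g : H}
    (hg : g • v = v) : g = 1 ∨ g = x := by
  obtain ⟨x', -, -, -, h⟩ := D.stab v hv
  rw [(h x hxv).resolve_left hx.1]
  exact h g hg

theorem FieldHyp.mem_sq {x : H} (hx : Mem V x) : x * x = 1 := by
  obtain ⟨v, hv, hxv⟩ := hx.2
  obtain ⟨x', -, h2, -, h⟩ := D.stab v hv
  rw [(h x hxv).resolve_left hx.1, h2]

theorem FieldHyp.mem_inv {x : H} (hx : Mem V x) : x⁻¹ = x := inv_eq_of_mul_eq_one_right (D.mem_sq hx)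

variable [hp : Fact p.Prime]

theorem FieldHyp.two_le : 2 ≤ p ^ k :=
  le_trans hp.out.two_le (Nat.le_self_pow D.pos.ne' p)

theorem FieldHyp.card_mem : Nat.card {x : H // Mem V x} = p ^ k + 1 := by
  classical
  haveI := Fintype.ofFinite H
  let f : (Σ x : {x : H // Mem V x}, {v : Fx V (x : H) // v ≠ 0}) → {v : V // v ≠ 0} := fun s =>
    ⟨((s.2 : Fx V (s.1 : H)) : V), fun h => s.2.2 (Subtype.ext h)⟩
  have hbij : Function.Bijective f := by
    constructor
    · rintro ⟨⟨x, hx⟩, ⟨v, hv⟩, hv0⟩ ⟨⟨y, hy⟩, ⟨w, hw⟩, hw0⟩ e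
      obtain rfl : v = w := congrArg Subtype.val e
      obtain rfl : y = x := (D.mem_stab hx (fun h => hv0 (Subtype.ext h)) (mem_Fx.1 hv)
        (mem_Fx.1 hw)).resolve_left hy.1
      rfl
    · rintro ⟨v, hv⟩
      obtain ⟨x, hx1, -, hxv, -⟩ := D.stab v hv
      exact ⟨⟨⟨x, hx1, v, hv, hxv⟩, ⟨v, mem_Fx.2 hxv⟩, fun h => hv (congrArg Subtype.val h)⟩, rfl⟩
  have hne : ∀ {M : Type _} [AddCommGroup M] [Finite M], Nat.card {v : M // v ≠ 0} + 1 = Nat.card M := by
    intro M _ _
    haveI := Fintype.ofFinite M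
    rw [Nat.card_eq_fintype_card, Nat.card_eq_fintype_card, Fintype.card_subtype_compl, Fintype.card_subtype_eq]
    have := Fintype.card_pos (α := M)
    omega
  have h := Nat.card_eq_of_bijective f hbij
  rw [Nat.card_sigma] at h
  have hfib : ∀ x : {x : H // Mem V x}, Nat.card {v : Fx V (x : H) // v ≠ 0} = p ^ k - 1 := fun x => by
    have := hne (M := Fx V (x : H))
    rw [D.half x x.2.1 x.2.2] at this
    omega
  simp only [hfib, Finset.sum_const, Finset.card_univ, smul_eq_mul, ← Nat.card_eq_fintype_card] at h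
  have hV := hne (M := V)
  rw [D.card, two_mul, pow_add, ← h] at hV
  obtain ⟨r, hr⟩ : ∃ r, p ^ k = r + 2 := ⟨p ^ k - 2, by have := D.two_le; omega⟩
  rw [hr, show r + 2 - 1 = r + 1 by omega] at hV
  rw [hr]
  nlinarith

/-- There are two further members. -/
theorem FieldHyp.exists_two (y : H) : ∃ x z : H, Mem V x ∧ Mem V z ∧ x ≠ y ∧ z ≠ y ∧ x ≠ z := by
  classical
  haveI := Fintype.ofFinite H
  set s := Finset.univ.filter fun x : H => Mem V x with hs
  have hc : 3 ≤ s.card := by
    have h := D.card_mem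
    rw [Nat.card_eq_fintype_card, Fintype.card_subtype] at h
    have := D.two_le
    rw [hs]
    omega
  have h2 : 1 < (s.erase y).card := by
    have := Finset.pred_card_le_card_erase (s := s) (a := y)
    omega
  obtain ⟨x, hx, z, hz, hxz⟩ := Finset.one_lt_card.1 h2
  simp only [hs, Finset.mem_erase, Finset.mem_filter, Finset.mem_univ, true_and] at hx hz
  exact ⟨x, z, hx.2, hz.2, hx.1, hz.1, hxz⟩

/-- No member commutes with all members. -/
theorem FieldHyp.not_central {y : H} (hy : Mem V y) (hc : ∀ x : H, Mem V x → x ≠ y → Commute y x) : False := by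
  obtain ⟨x, z, hx, hz, hxy, hzy, hxz⟩ := D.exists_two y
  exact hxz (D.perp' hy hx hz hxy.symm hzy.symm (hc x hx hxy) (hc z hz hzy))

variable (hh : Hyp V H p)
include hh

/-- Every member inverts every other element. -/
theorem FieldHyp.inverts {g : H} (hg : ¬ Mem V g) {x : H} (hx : Mem V x) : x * g * x = g⁻¹ := by
  by_cases h2 : g * g = 1
  · rw [inv_eq_of_mul_eq_one_right h2]
    rcases eq_or_ne g 1 with rfl | h1
    · rw [mul_one, D.mem_sq hx]
    · refine eq_of_smul_eq_smul fun v : V => ?_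
      rw [mul_smul, mul_smul, smul_eq_neg hg h1 h2, smul_eq_neg hg h1 h2, smul_neg, ← mul_smul, D.mem_sq hx,
        one_smul]
  have key : ∀ y : H, Mem V y → g * g = y ∨ y * g * y = g⁻¹ := by
    intro y hy
    obtain ⟨v, hv, hyv⟩ := hy.2
    obtain ⟨σ, -, s1, s2⟩ := hh.swap (∅ : Set V) (g := g)
      ((mem_fixingSubgroup_iff H).2 fun s hs => absurd hs (Set.notMem_empty s)) v
    rcases D.mem_stab hy hv hyv (g := g⁻¹ * σ) (by rw [mul_smul, s1, inv_smul_smul]) with e | e <;>
      rw [inv_mul_eq_iff_eq_mul] at e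
    · rw [mul_one] at e
      rw [e, ← mul_smul] at s2
      exact Or.inl ((D.mem_stab hy hv hyv s2).resolve_left h2)
    · rw [e, ← mul_smul] at s2
      rcases D.mem_stab hy hv hyv s2 with e' | e'
      · left
        have h3 : g * g = g * y⁻¹ * g⁻¹ * (g * y * g) := by group
        rw [D.mem_inv hy] at h3
        have h4 : y * g * g = 1 := by
          calc y * g * g = g⁻¹ * (g * y * g) * g := by group
            _ = 1 := by rw [e']; group
        rw [mul_assoc] at h4
        rw [← D.mem_inv hy]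
        exact (inv_eq_of_mul_eq_one_right h4).symm
      · right
        have h4 : g * y * g * y = 1 := by rw [e', D.mem_sq hy]
        refine (inv_eq_of_mul_eq_one_right ?_).symm
        simpa [mul_assoc] using h4
  refine (key x hx).resolve_left fun hgg => D.not_central hx fun y hy hne => ?_
  have hinv := (key y hy).resolve_left (by rw [hgg]; exact hne.symm)
  have : y * x * y⁻¹ = x := by
    rw [D.mem_inv hy, ← hgg]
    calc y * (g * g) * y = (y * g * y) * (y * g * y) := by
          rw [show (y * g * y) * (y * g * y) = y * g * (y * y) * g * y by group, D.mem_sq hy]; group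
      _ = (g * g)⁻¹ := by rw [hinv]; group
      _ = g * g := by rw [hgg, D.mem_inv hx]
  exact (mul_inv_eq_iff_eq_mul.1 this).symm

/-- The elements without fixed points. -/
def FieldHyp.torus : Subgroup H where
  carrier := {g | ¬ Mem V g}
  one_mem' := fun h => h.1 rfl
  mul_mem' := fun {g g'} hg hg' hm => by
    have e1 := D.inverts hh hg hm
    have e2 := D.inverts hh hg' hm
    have hm' : g' * g = g * g' := by
      have h1 : g⁻¹ * g'⁻¹ = g * g' := by
        rw [← e1, ← e2]
        calc g * g' * g * (g * g') * (g * g' * g' * (g * g')) = g * g' * g * ((g * g') * (g * g')) * g' * (g * g') := by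
              group
          _ = g * g' * g * 1 * g' * (g * g') := by rw [D.mem_sq hm]
          _ = g * g' * (g * g') * (g * g') := by group
          _ = g * g' := by rw [D.mem_sq hm, one_mul]
      calc g' * g = (g⁻¹ * g'⁻¹)⁻¹ := by group
        _ = g * g' := by rw [h1, D.mem_inv hm]
    refine D.not_central hm fun x hx _ => ?_
    have : x * (g * g') * x⁻¹ = g * g' := by
      rw [D.mem_inv hx]
      calc x * (g * g') * x = x * g * (x * x) * g' * x := by rw [D.mem_sq hx]; group
        _ = g⁻¹ * g'⁻¹ := by rw [← D.inverts hh hg hx, ← D.inverts hh hg' hx]; group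
        _ = (g' * g)⁻¹ := by group
        _ = g * g' := by rw [hm', D.mem_inv hm]
    exact (mul_inv_eq_iff_eq_mul.1 this).symm
  inv_mem' := fun {g} hg hm => hg (by
    have := D.mem_inv hm
    rw [inv_inv] at this
    exact this ▸ hm)

theorem FieldHyp.mem_torus {g : H} : g ∈ D.torus hh ↔ ¬ Mem V g := Iff.rfl

theorem FieldHyp.torus_comm {g g' : H} (hg : g ∈ D.torus hh) (hg' : g' ∈ D.torus hh) : g * g' = g' * g := by
  obtain ⟨x, z, hx, -⟩ := D.exists_two 1
  have h := D.inverts hh (mul_mem hg hg') hx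
  have h' : x * (g * g') * x = g⁻¹ * g'⁻¹ := by
    rw [← D.inverts hh hg hx, ← D.inverts hh hg' hx]
    calc x * (g * g') * x = x * g * (1 : H) * g' * x := by group
      _ = _ := by rw [← D.mem_sq hx]; group
  rw [h'] at h
  calc g * g' = ((g * g')⁻¹)⁻¹ := (inv_inv _).symm
    _ = g' * g := by rw [← h]; group

theorem FieldHyp.mul_mem_torus {x y : H} (hx : Mem V x) (hy : Mem V y) : x * y ∈ D.torus hh := by
  intro hm
  have hxy : x ≠ y := fun e => hm.1 (by rw [e, D.mem_sq hy])
  have hc : Commute x y := by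
    have h := D.mem_inv hm
    rw [mul_inv_rev, D.mem_inv hx, D.mem_inv hy] at h
    exact h.symm
  have e := D.perp' hx hy hm hxy (fun e => hy.1 (left_eq_mul.1 e)) hc ((Commute.refl x).mul_right hc)
  exact hx.1 (right_eq_mul.1 e)

theorem FieldHyp.card_torus : Nat.card (D.torus hh) = p ^ k + 1 := by
  obtain ⟨x, z, hx, -⟩ := D.exists_two 1
  rw [← D.card_mem]
  refine Nat.card_congr
    { toFun := fun g => ⟨x * g, by
        by_contra h
        have h1 := mul_mem ((D.mem_torus hh).2 h) (inv_mem g.2)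
        rw [mul_inv_cancel_right] at h1
        exact h1 hx⟩
      invFun := fun y => ⟨x * y, D.mul_mem_torus hh hx y.2⟩
      left_inv := fun g => Subtype.ext (show x * (x * g) = g by rw [← mul_assoc, D.mem_sq hx, one_mul])
      right_inv := fun y => Subtype.ext (show x * (x * y) = (y : H) by rw [← mul_assoc, D.mem_sq hx, one_mul]) }

/-- The torus is irreducible. -/
theorem FieldHyp.irreducible (W : AddSubgroup V) (hW : ∀ g ∈ D.torus hh, ∀ w ∈ W, g • w ∈ W) :
    W = ⊥ ∨ W = ⊤ := by
  classical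
  haveI := Fintype.ofFinite V
  obtain ⟨j, hj, hje⟩ := (Nat.dvd_prime_pow hp.out).1 (D.card ▸ AddSubgroup.card_addSubgroup_dvd_card W)
  rcases eq_or_lt_of_le hj with rfl | hlt
  · exact Or.inr (AddSubgroup.eq_top_of_card_eq W (hje.trans D.card.symm))
  refine Or.inl ?_
  let X := {w : W // w ≠ 0}
  letI : MulAction (D.torus hh) X :=
    { smul := fun g w => ⟨⟨(g : H) • ((w : W) : V), hW g g.2 _ (w : W).2⟩, fun h => w.2 (Subtype.ext (by
        have h' : (g : H) • ((w : W) : V) = 0 := congrArg Subtype.val h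
        exact smul_eq_zero_iff_eq (g : H) |>.1 h'))⟩
      one_smul := fun w => Subtype.ext (Subtype.ext (one_smul H ((w : W) : V)))
      mul_smul := fun g g' w => Subtype.ext (Subtype.ext (mul_smul (g : H) (g' : H) ((w : W) : V))) }
  have hfree : ∀ w : X, MulAction.stabilizer (D.torus hh) w = ⊥ := fun w =>
    (Subgroup.eq_bot_iff_forall _).2 fun g hg => Subtype.ext (by
      by_contra h
      exact w.2 (Subtype.ext (fix_of_not_mem g.2 h (congrArg (fun z : X => ((z : W) : V)) hg))))
  have hd : p ^ k + 1 ∣ Nat.card X := by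
    rw [Nat.card_congr (MulAction.selfEquivOrbitsQuotientProd hfree), Nat.card_prod, D.card_torus hh]
    exact dvd_mul_left _ _
  have hX : Nat.card X + 1 = p ^ j := by
    rw [← hje]
    haveI := Fintype.ofFinite W
    simp only [X]
    rw [Nat.card_eq_fintype_card, Nat.card_eq_fintype_card, Fintype.card_subtype_compl, Fintype.card_subtype_eq]
    have := Fintype.card_pos (α := W)
    omega
  suffices j = 0 by rw [this, pow_zero] at hje; exact AddSubgroup.eq_bot_of_card_eq W hje
  by_contra hj0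
  rcases lt_or_ge j k with h | h
  · have h1 := Nat.pow_le_pow_right hp.out.pos h.le
    have h2 : 2 ≤ p ^ j := le_trans hp.out.two_le (Nat.le_self_pow hj0 p)
    have := Nat.le_of_dvd (by omega) hd
    omega
  · obtain ⟨r, rfl⟩ : ∃ r, j = k + r := ⟨j - k, by omega⟩
    have h3 : p ^ k + 1 ∣ p ^ r + 1 := by
      have h4 : p ^ k + 1 ∣ p ^ r * (p ^ k + 1) := dvd_mul_left _ _
      have e : p ^ r * (p ^ k + 1) = Nat.card X + (p ^ r + 1) := by
        rw [mul_add, mul_one, ← pow_add, add_comm r k, ← hX]; ring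
      exact (Nat.dvd_add_right hd).1 (e ▸ h4)
    have := Nat.le_of_dvd (by omega) h3
    have h5 : p ^ r < p ^ k := Nat.pow_lt_pow_right hp.out.one_lt (by omega)
    omega

set_option maxHeartbeats 1000000 in
-- the construction of the field is one long proof
/-- **The plane over a field.** -/
theorem FieldHyp.field :
    ∃ (F E : Type) (_ : Field F) (_ : Fintype F) (_ : Field E) (_ : Fintype E) (_ : Algebra F E) (e : V ≃+ E),
      Module.finrank F E = 2 ∧ ∀ s : V → V, (∃ h : H, ∀ v, s v = h • v) ↔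
        ∃ (a : E) (φ : E ≃ₐ[F] E), Algebra.norm F a = 1 ∧ ∀ v, e (s v) = a * φ (e v) := by
  classical
  obtain ⟨x, z, hx, -⟩ := D.exists_two 1
  obtain ⟨v₀, hv₀, hxv⟩ := hx.2
  let ρ : H →* AddMonoid.End V := DistribMulAction.toAddMonoidEnd H V
  have hρ : ∀ (h : H) (v : V), ρ h v = h • v := fun _ _ => rfl
  have hρinj : Function.Injective ρ := fun g g' e =>
    eq_of_smul_eq_smul fun v : V => DFunLike.congr_fun e v
  let S : Set (AddMonoid.End V) := ρ '' (D.torus hh : Set H)
  let R : Subring (AddMonoid.End V) := Subring.closure S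
  have hSc : ∀ a ∈ S, ∀ b ∈ S, a * b = b * a := by
    rintro _ ⟨g, hg, rfl⟩ _ ⟨g', hg', rfl⟩
    rw [← map_mul, ← map_mul, D.torus_comm hh hg hg']
  letI : CommRing R := Subring.closureCommRingOfComm hSc
  have hcomm : ∀ r : R, ∀ g ∈ D.torus hh, ∀ v : V, (r : AddMonoid.End V) (g • v) = g • (r : AddMonoid.End V) v := by
    intro r g hg v
    have e := congrArg Subtype.val (mul_comm r ⟨ρ g, Subring.subset_closure ⟨g, hg, rfl⟩⟩)
    exact DFunLike.congr_fun e v
  have hinj : ∀ r : R, r ≠ 0 → ∀ v : V, (r : AddMonoid.End V) v = 0 → v = 0 := by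
    intro r hr v hv
    rcases D.irreducible hh (r : AddMonoid.End V).ker (fun g hg w hw => by
      show (r : AddMonoid.End V) (g • w) = 0
      rw [hcomm r g hg, show (r : AddMonoid.End V) w = 0 from hw, smul_zero]) with h | h
    · exact (AddSubgroup.mem_bot).1 (h ▸ (show v ∈ (r : AddMonoid.End V).ker from hv))
    · exact absurd (Subtype.ext (DFunLike.ext _ _ fun w => AddMonoidHom.mem_ker.1 (h ▸ AddSubgroup.mem_top w :
        w ∈ (r : AddMonoid.End V).ker))) hr
  let ev : R →+ V :=
    { toFun := fun r => (r : AddMonoid.End V) v₀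
      map_zero' := rfl
      map_add' := fun _ _ => rfl }
  have hev : Function.Bijective ev := by
    refine ⟨(injective_iff_map_eq_zero ev).2 fun r hr => ?_, fun v => ?_⟩
    · by_contra h
      exact hv₀ (hinj r h v₀ hr)
    · rcases D.irreducible hh ev.range (by
        rintro g hg _ ⟨r, rfl⟩
        exact ⟨⟨ρ g, Subring.subset_closure ⟨g, hg, rfl⟩⟩ * r, rfl⟩) with h | h
      · exact absurd ((AddSubgroup.mem_bot).1 (h ▸ (⟨1, rfl⟩ : v₀ ∈ ev.range))) hv₀
      · exact (h ▸ AddSubgroup.mem_top v : v ∈ ev.range)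
  haveI : Finite R := Finite.of_injective ev hev.1
  haveI : Nontrivial R := ⟨⟨1, 0, fun e => hv₀ (DFunLike.congr_fun (congrArg Subtype.val e) v₀)⟩⟩
  haveI : NoZeroDivisors R := ⟨fun {a b} hab => by
    by_cases ha : a = 0
    · exact Or.inl ha
    · refine Or.inr (hev.1 ?_)
      rw [map_zero]
      exact hinj a ha _ (DFunLike.congr_fun (congrArg Subtype.val hab) v₀)⟩
  haveI : IsDomain R := NoZeroDivisors.to_isDomain R
  letI : Field R := (Finite.isField_of_domain R).toField
  haveI := Fintype.ofFinite R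
  set n := 2 * k with hn
  have hn0 : n ≠ 0 := by have := D.pos; omega
  haveI : Fintype (GaloisField p n) := Fintype.ofFinite _
  have hcardR : Nat.card R = p ^ n := (Nat.card_eq_of_bijective ev hev).trans D.card
  let ι : GaloisField p n ≃+* R := FiniteField.ringEquivOfCardEq (by
    rw [← Nat.card_eq_fintype_card, ← Nat.card_eq_fintype_card, GaloisField.card p n hn0, hcardR])
  let e : V ≃+ GaloisField p n := (AddEquiv.ofBijective ev hev).symm.trans ι.symm.toAddEquiv
  have he : ∀ v, ((ι (e v) : R) : AddMonoid.End V) v₀ = v := fun v => by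
    show ((ι (ι.symm ((AddEquiv.ofBijective ev hev).symm v)) : R) : AddMonoid.End V) v₀ = v
    rw [RingEquiv.apply_symm_apply]
    exact (AddEquiv.ofBijective ev hev).apply_symm_apply v
  -- the image of the torus
  let tor : D.torus hh → GaloisField p n := fun g => ι.symm ⟨ρ g, Subring.subset_closure ⟨g, g.2, rfl⟩⟩
  have htor : ∀ (g : D.torus hh) (v : V), e ((g : H) • v) = tor g * e v := fun g v => by
    have h1 : ev (ι (tor g * e v)) = (g : H) • v := by
      rw [map_mul, RingEquiv.apply_symm_apply]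
      exact congrArg ((g : H) • ·) (he v)
    rw [← h1]
    show ι.symm ((AddEquiv.ofBijective ev hev).symm (ev _)) = _
    rw [show (AddEquiv.ofBijective ev hev).symm (ev (ι (tor g * e v))) = ι (tor g * e v) from
      (AddEquiv.ofBijective ev hev).symm_apply_apply _, RingEquiv.symm_apply_apply]
  have htor_inj : Function.Injective tor := fun g g' h =>
    Subtype.ext (hρinj (congrArg Subtype.val (ι.symm.injective h)))
  have htor_pow : ∀ g : D.torus hh, tor g ^ (p ^ k + 1) = 1 := fun g => by
    apply ι.injective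
    rw [map_pow, RingEquiv.apply_symm_apply, map_one]
    refine Subtype.ext ?_
    show ρ g ^ (p ^ k + 1) = 1
    rw [← map_pow]
    have := congrArg Subtype.val (pow_card_eq_one' (x := g))
    rw [D.card_torus hh] at this
    rw [show ((g : H) ^ (p ^ k + 1)) = 1 from this, map_one]
  -- the member induces an automorphism
  let c : AddMonoid.End V →+* AddMonoid.End V :=
    { toFun := fun r => ρ x * r * ρ x
      map_one' := by rw [mul_one, ← map_mul, D.mem_sq hx, map_one]
      map_mul' := fun r r' => by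
        rw [show ρ x * r * ρ x * (ρ x * r' * ρ x) = ρ x * r * (ρ x * ρ x) * r' * ρ x by simp only [mul_assoc],
          ← map_mul, D.mem_sq hx, map_one, mul_one]
        simp only [mul_assoc]
      map_zero' := by simp
      map_add' := fun r r' => by rw [mul_add, add_mul] }
  have hcR : ∀ r ∈ R, c r ∈ R := by
    intro r hr
    refine Subring.mem_comap.1 ((Subring.closure_le (t := R.comap c)).2 ?_ hr)
    rintro _ ⟨g, hg, rfl⟩
    refine Subring.subset_closure ⟨g⁻¹, inv_mem hg, ?_⟩
    show ρ g⁻¹ = ρ x * ρ g * ρ x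
    rw [← map_mul, ← map_mul, D.inverts hh hg hx]
  have hcc : ∀ r, c (c r) = r := fun r => by
    show ρ x * (ρ x * r * ρ x) * ρ x = r
    rw [show ρ x * (ρ x * r * ρ x) * ρ x = ρ x * ρ x * r * (ρ x * ρ x) by simp only [mul_assoc],
      ← map_mul, D.mem_sq hx, map_one, one_mul, mul_one]
  let cR : R →+* R := c.restrict R R hcR
  have hcRc : cR.comp cR = RingHom.id R := RingHom.ext fun r => Subtype.ext (hcc r)
  let τR : R ≃+* R := RingEquiv.ofRingHom cR cR hcRc hcRc
  let τ : RingAut (GaloisField p n) := (ι.trans τR).trans ι.symm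
  have hτx : ∀ v, e (x • v) = τ (e v) := fun v => by
    have h1 : ev (ι (τ (e v))) = x • v := by
      show ev (ι (ι.symm (τR (ι (e v))))) = x • v
      rw [RingEquiv.apply_symm_apply]
      show x • ((ι (e v) : R) : AddMonoid.End V) (x • v₀) = x • v
      rw [hxv, he]
    rw [← h1]
    show ι.symm ((AddEquiv.ofBijective ev hev).symm (ev _)) = _
    rw [show (AddEquiv.ofBijective ev hev).symm (ev (ι (τ (e v)))) = ι (τ (e v)) from
      (AddEquiv.ofBijective ev hev).symm_apply_apply _, RingEquiv.symm_apply_apply]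
  have hτ2 : τ ^ 2 = 1 := RingEquiv.ext fun a => by
    obtain ⟨v, rfl⟩ := e.surjective a
    rw [pow_two]
    show τ (τ (e v)) = e v
    rw [← hτx, ← hτx, ← mul_smul, D.mem_sq hx, one_smul]
  have hτ1 : τ ≠ 1 := fun h => hx.1 ((eq_one_iff_smul (V := V)).2 fun v => e.injective (by
    rw [hτx, h]; rfl))
  haveI : Finite (RingAut (GaloisField p n)) :=
    Finite.of_injective (fun f : RingAut (GaloisField p n) => (f : GaloisField p n → GaloisField p n))
      DFunLike.coe_injective
  let Γ : Subgroup (RingAut (GaloisField p n)) := Subgroup.zpowers τ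
  have hΓ : Nat.card Γ = 2 := by rw [Nat.card_zpowers, orderOf_eq_prime hτ2 hτ1]
  have hΓmem : ∀ γ ∈ Γ, γ = 1 ∨ γ = τ := fun γ hγ => by
    obtain ⟨m, rfl⟩ := hγ
    show τ ^ m = 1 ∨ τ ^ m = τ
    rw [zpow_eq_zpow_emod' (n := 2) m hτ2]
    rcases (Int.emod_two_eq m) with h | h <;> simp [h]
  haveI : Fintype Γ := Fintype.ofFinite _
  let F := FixedPoints.subfield Γ (GaloisField p n)
  haveI : Fintype F := Fintype.ofFinite _
  have hfr : Module.finrank F (GaloisField p n) = 2 := by
    show Module.finrank (FixedPoints.subfield Γ (GaloisField p n)) (GaloisField p n) = 2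
    rw [FixedPoints.finrank_eq_card, ← Nat.card_eq_fintype_card, hΓ]
  have hEc : Nat.card (GaloisField p n) = p ^ k * p ^ k :=
    (GaloisField.card p n hn0).trans (by rw [← pow_add, ← two_mul])
  have hFc : Nat.card F = p ^ k := by
    have h := Module.natCard_eq_pow_finrank (K := F) (V := GaloisField p n)
    rw [hEc, hfr, pow_two] at h
    exact (Nat.mul_self_inj.1 h).symm
  have hnorm : ∀ a : GaloisField p n, Algebra.norm F a = 1 ↔ a ^ (p ^ k + 1) = 1 := fun a => by
    rw [← (algebraMap F (GaloisField p n)).injective.eq_iff, FiniteField.algebraMap_norm_eq_pow, map_one,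
      hEc, hFc]
    have := D.two_le
    rw [show (p ^ k * p ^ k - 1) / (p ^ k - 1) = p ^ k + 1 from Nat.div_eq_of_eq_mul_left (by omega)
      (by rw [← Nat.sq_sub_sq]; simp [pow_two])]
  have hsurj : ∀ a : GaloisField p n, a ^ (p ^ k + 1) = 1 → ∃ g : D.torus hh, tor g = a := by
    intro a ha
    haveI : Fintype (D.torus hh) := Fintype.ofFinite _
    have hsub : Finset.univ.image tor ⊆ (Polynomial.nthRoots (p ^ k + 1) (1 : GaloisField p n)).toFinset := by
      intro b hb
      obtain ⟨g, -, rfl⟩ := Finset.mem_image.1 hb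
      rw [Multiset.mem_toFinset, Polynomial.mem_nthRoots (Nat.succ_pos _)]
      exact htor_pow g
    have hle : (Polynomial.nthRoots (p ^ k + 1) (1 : GaloisField p n)).toFinset.card ≤
        (Finset.univ.image tor).card := by
      rw [Finset.card_image_of_injective _ htor_inj, Finset.card_univ, ← Nat.card_eq_fintype_card, D.card_torus hh]
      exact (Multiset.toFinset_card_le _).trans (Polynomial.card_nthRoots _ _)
    have hmem : a ∈ Finset.univ.image tor := by
      rw [Finset.eq_of_subset_of_card_le hsub hle, Multiset.mem_toFinset,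
        Polynomial.mem_nthRoots (Nat.succ_pos _)]
      exact ha
    obtain ⟨g, -, hg⟩ := Finset.mem_image.1 hmem
    exact ⟨g, hg⟩
  have hauto : ∀ φ : GaloisField p n ≃ₐ[F] GaloisField p n,
      (∀ a, φ a = a) ∨ ∀ a, φ a = τ a := fun φ => by
    obtain ⟨γ, rfl⟩ := (FixedPoints.toAlgAutMulEquiv Γ (GaloisField p n)).surjective φ
    rcases hΓmem γ γ.2 with h | h
    · exact Or.inl fun a => show (γ : RingAut (GaloisField p n)) a = a by rw [h]; rfl
    · exact Or.inr fun a => show (γ : RingAut (GaloisField p n)) a = τ a by rw [h]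
  refine ⟨F, GaloisField p n, inferInstance, inferInstance, inferInstance, inferInstance, inferInstance, e,
    hfr, fun s => ⟨?_, ?_⟩⟩
  · rintro ⟨h, hs⟩
    by_cases hm : Mem V h
    · refine ⟨tor ⟨h * x, D.mul_mem_torus hh hm hx⟩,
        FixedPoints.toAlgAutMulEquiv Γ (GaloisField p n) ⟨τ, Subgroup.mem_zpowers τ⟩,
        (hnorm _).2 (htor_pow _), fun v => ?_⟩
      show e (s v) = tor _ * τ (e v)
      rw [← hτx, ← htor, hs]
      show e (h • v) = e ((h * x) • x • v)
      rw [← mul_smul, mul_assoc, D.mem_sq hx, mul_one]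
    · exact ⟨tor ⟨h, hm⟩, AlgEquiv.refl, (hnorm _).2 (htor_pow _), fun v => by
        rw [AlgEquiv.coe_refl, id, hs]; exact htor ⟨h, hm⟩ v⟩
  · rintro ⟨a, φ, ha, hs⟩
    obtain ⟨g, rfl⟩ := hsurj a ((hnorm a).1 ha)
    rcases hauto φ with hφ | hφ
    · refine ⟨(g : H), fun v => e.injective ?_⟩
      rw [hs, hφ, htor]
    · refine ⟨(g : H) * x, fun v => e.injective ?_⟩
      rw [hs, hφ, mul_smul, htor, hτx]

omit D hh in
/-- **The plane over a field**, from the hypotheses spelled out. -/
theorem Hyp.field (hh : Hyp V H p) {k : ℕ} (hk : 0 < k) (hV : Nat.card V = p ^ (2 * k))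
    (hstab : ∀ v : V, v ≠ 0 → ∃ x : H, x ≠ 1 ∧ x * x = 1 ∧ x • v = v ∧ ∀ g : H, g • v = v → g = 1 ∨ g = x)
    (hW : ∀ x : H, x ≠ 1 → (∃ v : V, v ≠ 0 ∧ x • v = v) → Nat.card (Fx V x) = p ^ k)
    (hperp : ∀ x y z : H, x ≠ 1 → (∃ v : V, v ≠ 0 ∧ x • v = v) → y ≠ 1 → (∃ v : V, v ≠ 0 ∧ y • v = v) →
      z ≠ 1 → (∃ v : V, v ≠ 0 ∧ z • v = v) → x ≠ y → x ≠ z → Commute x y → Commute x z → y = z) :
    ∃ (F E : Type) (_ : Field F) (_ : Fintype F) (_ : Field E) (_ : Fintype E) (_ : Algebra F E) (e : V ≃+ E),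
      Module.finrank F E = 2 ∧ ∀ s : V → V, (∃ h : H, ∀ v, s v = h • v) ↔
        ∃ (a : E) (φ : E ≃ₐ[F] E), Algebra.norm F a = 1 ∧ ∀ v, e (s v) = a * φ (e v) :=
  (FieldHyp.mk hk hV hstab hW hperp).field hh

end Cfsg.Agent.BinAff
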