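import Mathlib.LinearAlgebra.Matrix.Charpoly.FiniteField
import Mathlib.Data.ZMod.Basic

/-!
A polarity without absolute points of a projective plane whose order is divisible by a prime is impossible.
-/

set_option autoImplicit false

namespace Cfsg.Agent.BinAff

open Matrix Finset

/-- No symmetric irreflexive relation has, modulo `p`, all valencies one, all pairs of distinct points with one
common neighbour and one point in all. -/
theorem no_polarity {α : Type*} [Fintype α] [DecidableEq α] (p : ℕ) [hp : Fact p.Prime] (R : α → α → Prop)
    [DecidableRel R] (hsymm : ∀ x y, R x y → R y x) (hirr : ∀ x, ¬ R x x)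
    (hdeg : ∀ x, ((univ.filter fun z => R x z).card : ZMod p) = 1)
    (hpair : ∀ x y, x ≠ y → ((univ.filter fun z => R x z ∧ R y z).card : ZMod p) = 1)
    (hcard : (Fintype.card α : ZMod p) = 1) : False := by
  let A : Matrix α α (ZMod p) := Matrix.of fun x y => if R x y then 1 else 0
  let J : Matrix α α (ZMod p) := Matrix.of fun _ _ => 1
  have hAA : A * A = J := by
    ext x y
    have e : (A * A) x y = ((univ.filter fun z => R x z ∧ R y z).card : ZMod p) := by
      rw [Matrix.mul_apply, Finset.natCast_card_filter]
      refine Finset.sum_congr rfl fun z _ => ?_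
      by_cases h1 : R x z <;> by_cases h2 : R y z <;> simp [A, h1, h2]
      · exact hsymm _ _ h2
      · exact fun h => h2 (hsymm _ _ h)
    show (A * A) x y = 1
    rw [e]
    rcases eq_or_ne x y with rfl | hne
    · simpa using hdeg x
    · exact hpair x y hne
  have hAJ : A * J = J := by
    ext x y
    show (A * J) x y = 1
    rw [Matrix.mul_apply, ← hdeg x, Finset.natCast_card_filter]
    exact Finset.sum_congr rfl fun z _ => by simp [A, J]
  have hpow : ∀ n, A ^ (n + 2) = J := by
    intro n
    induction n with
    | zero => rw [pow_two, hAA]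
    | succ n ih => rw [pow_succ', ih, hAJ]
  have htA : A.trace = 0 := by simp [Matrix.trace, A, hirr]
  have htJ : J.trace = 1 := by simp [Matrix.trace, J, hcard]
  have h := ZMod.trace_pow_card (p := p) A
  obtain ⟨n, hn⟩ : ∃ n, p = n + 2 := ⟨p - 2, by have := hp.out.two_le; omega⟩
  rw [show A ^ p = J from (congrArg (A ^ ·) hn).trans (hpow n), htJ, htA, zero_pow hp.out.ne_zero] at h
  exact one_ne_zero h

end Cfsg.Agent.BinAff
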