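import Cfsg.Agent.Lib.BinAff.Pair
import Mathlib.LinearAlgebra.Dimension.Finite
import Mathlib.Algebra.Module.ZMod
import Mathlib.Algebra.Field.ZMod
import Mathlib.FieldTheory.Finiteness

/-!
# Binary affine groups: counting subgroups inside a space
-/

set_option autoImplicit false
set_option linter.unusedSectionVars false

namespace Cfsg.Agent.BinAff

open Finset

variable {V : Type*} [AddCommGroup V] [Finite V] {H : Type*} [Group H] [Finite H] [DistribMulAction H V]
  [FaithfulSMul H V] {p : ℕ}

theorem Hyp.card_pow [Fact p.Prime] (hh : Hyp V H p) (W : AddSubgroup V) : ∃ k, Nat.card W = p ^ k := by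
  letI : Module (ZMod p) W := AddCommGroup.zmodModule fun w => Subtype.ext (by simpa using hh.tor (w : V))
  exact ⟨Module.finrank (ZMod p) W, by rw [Module.natCard_eq_pow_finrank (K := ZMod p), Nat.card_zmod]⟩

/-- Subgroups above `T` inside `W` meeting pairwise in `T`. -/
theorem slot_bound {T W : AddSubgroup V} (hTW : T ≤ W) (S : Finset (AddSubgroup V))
    (hS : ∀ X ∈ S, T ≤ X ∧ X ≤ W) (hmeet : ∀ X ∈ S, ∀ Y ∈ S, X ≠ Y → X ⊓ Y ≤ T) :
    ∑ X ∈ S, (Nat.card X - Nat.card T) ≤ Nat.card W - Nat.card T := by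
  classical
  have : Fintype V := Fintype.ofFinite V
  have hc : ∀ X : AddSubgroup V, Nat.card X = (univ.filter (· ∈ X)).card := fun X => by
    rw [Nat.card_eq_fintype_card, Fintype.card_subtype]
  have hd : ∀ X : AddSubgroup V, T ≤ X →
      Nat.card X - Nat.card T = (univ.filter fun v => v ∈ X ∧ v ∉ T).card := fun X hX => by
    rw [hc, hc, ← card_sdiff_of_subset (fun v hv => by simpa using hX (by simpa using hv))]
    congr 1
    ext v
    simp
  rw [hd W hTW, sum_congr rfl fun X hX => hd X (hS X hX).1]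
  rw [← card_biUnion]
  · refine card_le_card fun v hv => ?_
    simp only [mem_biUnion, mem_filter, mem_univ, true_and] at hv ⊢
    obtain ⟨X, hX, hvX, hvT⟩ := hv
    exact ⟨(hS X hX).2 hvX, hvT⟩
  · intro X hX Y hY hne
    rw [Function.onFun, disjoint_left]
    intro v hv hv'
    simp only [mem_filter, mem_univ, true_and] at hv hv'
    exact hv.2 (hmeet X hX Y hY hne (AddSubgroup.mem_inf.2 ⟨hv.1, hv'.1⟩))

end Cfsg.Agent.BinAff
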