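import Cfsg.Agent.Lib.BinAff.Move
import Cfsg.Agent.Lib.BinAff.Slots
import Cfsg.Agent.Lib.BinAff.Polarity

/-!
# Binary affine groups: the plane above a maximal intersection
-/

set_option autoImplicit false
set_option linter.unusedSectionVars false

namespace Cfsg.Agent.BinAff

open Finset

attribute [local instance] Classical.propDecidable

variable {V : Type*} [AddCommGroup V] [Finite V] {H : Type*} [Group H] [Finite H] [DistribMulAction H V]
  [FaithfulSMul H V] {p : ℕ} [Fact p.Prime]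

/-- A member of a pencil above `T`. -/
def Pt (T : AddSubgroup V) (z : H) : Prop := ∃ L : AddSubgroup V, Pencil H L ∧ T ≤ L ∧ IsMem L z

/-- Two members of one pencil above `T`. -/
def Coll (T : AddSubgroup V) (y z : H) : Prop :=
  ∃ L : AddSubgroup V, Pencil H L ∧ T ≤ L ∧ IsMem L y ∧ IsMem L z

/-- The plane formed by the pencils above `T`. -/
structure Geo (H : Type*) [Group H] [DistribMulAction H V] (p : ℕ) (T : AddSubgroup V) (q : ℕ) : Prop where
  odd : p ≠ 2
  three : 3 ≤ q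
  dvd : p ∣ q
  lineD : ∀ L : AddSubgroup V, Pencil H L → T ≤ L → Nat.card L = Nat.card T * q ∧ PData H p L q
  slot : ∀ (L : AddSubgroup V) (z : H), Pencil H L → T ≤ L → Pt T z → ¬ IsMem L z → Fx V z ⊓ L = T
  coll : ∀ y z : H, Pt T y → Pt T z → ¬ Commute y z → Pencil H (Fx V y ⊓ Fx V z)
  outside : ∃ (L : AddSubgroup V) (z k : H), Pencil H L ∧ T ≤ L ∧ Pt T z ∧ ¬ IsMem L z ∧ IsMem L k ∧
    ¬ Commute z k

variable [Fintype H] [Fintype (AddSubgroup V)]

variable (H) in
/-- The members of a pencil. -/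
noncomputable def mems (L : AddSubgroup V) : Finset H := univ.filter (IsMem L)

variable (H) in
/-- The points. -/
noncomputable def pts (T : AddSubgroup V) : Finset H := univ.filter (Pt T)

/-- The pencils through a point. -/
noncomputable def lns (T : AddSubgroup V) (z : H) : Finset (AddSubgroup V) :=
  univ.filter fun L => Pencil H L ∧ T ≤ L ∧ IsMem L z

theorem mem_mems {L : AddSubgroup V} {z : H} : z ∈ mems H L ↔ IsMem L z := by simp [mems]

theorem mem_pts {T : AddSubgroup V} {z : H} : z ∈ pts H T ↔ Pt T z := by simp [pts]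

theorem mem_lns {T L : AddSubgroup V} {z : H} : L ∈ lns T z ↔ Pencil H L ∧ T ≤ L ∧ IsMem L z := by
  simp [lns]

namespace Geo

variable {T : AddSubgroup V} {q : ℕ} (hh : Hyp V H p) (G : Geo H p T q)
include hh G

theorem card_mems {L : AddSubgroup V} (hL : Pencil H L) (hTL : T ≤ L) : (mems H L).card = q + 1 := by
  rw [← (G.lineD L hL hTL).2.count, Nat.card_eq_fintype_card, Fintype.card_subtype]
  rfl

theorem ptD {z : H} (hz : Pt T z) : IsMir V z ∧ T ≤ Fx V z ∧ Nat.card (Rg V z) = q ∧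
    Nat.card (Fx V z) = Nat.card T * q * q ∧ Rg V z ⊓ T = ⊥ := by
  obtain ⟨L, hL, hTL, hzL⟩ := hz
  obtain ⟨hc, D⟩ := G.lineD L hL hTL
  exact ⟨hzL.1, hTL.trans hzL.2, D.rg z hzL, by rw [D.fx z hzL, hc], (AddSubgroup.eq_bot_iff_forall _).2
    fun v hv => D.rg_T hzL (AddSubgroup.mem_inf.1 hv).1 (hTL (AddSubgroup.mem_inf.1 hv).2)⟩

theorem eq_of_two {L L' : AddSubgroup V} (hL : Pencil H L) (hTL : T ≤ L) (hL' : Pencil H L') (hTL' : T ≤ L')
    {y z : H} (h1 : IsMem L y) (h2 : IsMem L z) (h3 : IsMem L' y) (h4 : IsMem L' z) (hne : y ≠ z) :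
    L = L' := by
  rw [← (G.lineD L hL hTL).2.meet y z h1 h2 hne, (G.lineD L' hL' hTL').2.meet y z h3 h4 hne]

theorem coll_of {y z : H} (hy : Pt T y) (hz : Pt T z) (hc : ¬ Commute y z) : Coll T y z :=
  ⟨_, G.coll y z hy hz hc, le_inf (G.ptD hh hy).2.1 (G.ptD hh hz).2.1,
    ⟨(G.ptD hh hy).1, inf_le_left⟩, ⟨(G.ptD hh hz).1, inf_le_right⟩⟩

/-- A point commuting with all of a pencil determines it. -/
theorem pole {L : AddSubgroup V} {z : H} (hL : Pencil H L) (hTL : T ≤ L) (hz : Pt T z) (hnot : ¬ IsMem L z)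
    (hall : ∀ k, IsMem L k → Commute z k) : L = T ⊔ Rg V z ∧ Fx V z = T ⊔ Mov V H L := by
  obtain ⟨hm, hTz, hr, hf, hd⟩ := G.ptD hh hz
  obtain ⟨hc, D⟩ := G.lineD L hL hTL
  obtain ⟨h1, h2⟩ := D.of_commute_all hh hm hnot hall
  refine ⟨(AddSubgroup.eq_of_le_of_card_ge (sup_le hTL h1) ?_).symm,
    (AddSubgroup.eq_of_le_of_card_ge (sup_le hTz h2) ?_).symm⟩
  · have := card_prod_le (M := T ⊔ Rg V z) le_sup_left le_sup_right (by rw [inf_comm]; exact hd)
    rw [hr] at this
    exact hc ▸ this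
  · have := card_prod_le (M := T ⊔ Mov V H L) le_sup_left le_sup_right
      ((AddSubgroup.eq_bot_iff_forall _).2 fun v hv => D.mov_T (AddSubgroup.mem_inf.1 hv).2
        (hTL (AddSubgroup.mem_inf.1 hv).1))
    rw [D.card_Mov, ← mul_assoc] at this
    exact hf ▸ this

theorem pole_unique {L : AddSubgroup V} {z z' : H} (hL : Pencil H L) (hTL : T ≤ L) (hz : Pt T z)
    (hz' : Pt T z') (hn : ¬ IsMem L z) (hn' : ¬ IsMem L z') (ha : ∀ k, IsMem L k → Commute z k)
    (ha' : ∀ k, IsMem L k → Commute z' k) : z = z' := by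
  by_contra hne
  have heq : Fx V z = Fx V z' := by
    rw [(G.pole hh hL hTL hz hn ha).2, (G.pole hh hL hTL hz' hn' ha').2]
  obtain ⟨L', hL', hTL', hzL'⟩ := hz
  have hm := (G.lineD L' hL' hTL').2.meet z z' hzL' ⟨(G.ptD hh hz').1, heq ▸ hzL'.2⟩ hne
  rw [heq, inf_idem] at hm
  have h1 := (G.ptD hh hz').2.2.2.1
  rw [hm, (G.lineD L' hL' hTL').1] at h1
  have h3 := G.three
  have h4 : 0 < Nat.card T := Nat.card_pos
  nlinarith [Nat.mul_pos h4 (by omega : 0 < q)]

/-- A point outside a pencil that is not its pole commutes with at most one member. -/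
theorem comm_unique {L : AddSubgroup V} {z k k' l : H} (hL : Pencil H L) (hTL : T ≤ L) (hz : Pt T z)
    (hnot : ¬ IsMem L z) (hl : IsMem L l) (hzl : ¬ Commute z l) (hk : IsMem L k) (hk' : IsMem L k')
    (c : Commute z k) (c' : Commute z k') : k = k' := by
  by_contra hne
  obtain ⟨-, D⟩ := G.lineD L hL hTL
  have hm := (G.ptD hh hz).1
  have hzk : z ≠ k := fun e => hnot (e ▸ hk)
  have hzk' : z ≠ k' := fun e => hnot (e ▸ hk')
  have hU : Rg V z ≤ L := by
    rw [← D.meet k k' hk hk' hne]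
    exact le_inf (hm.comm_le hh hk.1 c hzk) (hm.comm_le hh hk'.1 c' hzk')
  have hM : Mov V H L ≤ Fx V z := by
    rw [D.Mov_eq hk hk' hne]
    exact sup_le (hk.1.comm_le hh hm c.symm hzk.symm) (hk'.1.comm_le hh hm c'.symm hzk'.symm)
  exact hzl (commute_of_le (hU.trans hl.2) ((Rg_le_Mov hl).trans hM))

/-- The pencils through a point inside the members they join to an outside pencil. -/
theorem lns_lower {L : AddSubgroup V} {z : H} (hL : Pencil H L) (hTL : T ≤ L) (hz : Pt T z)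
    (hnot : ¬ IsMem L z) : ((mems H L).filter fun k => Coll T z k).card ≤ (lns T z).card := by
  have hch : ∀ k : H, ∃ M : AddSubgroup V, Coll T z k → Pencil H M ∧ T ≤ M ∧ IsMem M z ∧ IsMem M k := fun k => by
    by_cases h : Coll T z k
    · obtain ⟨M, hM⟩ := h
      exact ⟨M, fun _ => hM⟩
    · exact ⟨⊥, fun h' => absurd h' h⟩
  choose f hf using hch
  refine card_le_card_of_injOn f (fun k hk => ?_) fun k hk k' hk' e => ?_
  · rw [mem_coe, mem_filter] at hk
    obtain ⟨h1, h2, h3, -⟩ := hf k hk.2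
    exact mem_coe.2 (mem_lns.2 ⟨h1, h2, h3⟩)
  · rw [mem_coe, mem_filter, mem_mems] at hk hk'
    obtain ⟨h1, h2, h3, h4⟩ := hf k hk.2
    obtain ⟨-, -, -, h5⟩ := hf k' hk'.2
    rw [← e] at h5
    by_contra hne
    exact hnot (G.eq_of_two hh h1 h2 hL hTL h4 h5 hk.1 hk'.1 hne ▸ h3)

theorem lns_ge_q {L : AddSubgroup V} {z l : H} (hL : Pencil H L) (hTL : T ≤ L) (hz : Pt T z)
    (hnot : ¬ IsMem L z) (hl : IsMem L l) (hzl : ¬ Commute z l) : q ≤ (lns T z).card := by
  refine le_trans ?_ (G.lns_lower hh hL hTL hz hnot)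
  have h1 : ((mems H L).filter fun k => Commute z k).card ≤ 1 := card_le_one.2 fun a ha b hb => by
    rw [mem_filter, mem_mems] at ha hb
    exact G.comm_unique hh hL hTL hz hnot hl hzl ha.1 hb.1 ha.2 hb.2
  have h2 : ((mems H L).filter fun k => ¬ Commute z k).card ≤ ((mems H L).filter fun k => Coll T z k).card :=
    card_le_card fun k hk => by
      rw [mem_filter, mem_mems] at hk ⊢
      exact ⟨hk.1, G.coll_of hh hz ⟨L, hL, hTL, hk.1⟩ hk.2⟩
  have h3 := card_filter_add_card_filter_not (s := mems H L) (fun k => Commute z k)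
  rw [G.card_mems hh hL hTL] at h3
  omega

/-- Every point has at least `q` pencils. -/
theorem lns_ge {z : H} (hz : Pt T z) : q ≤ (lns T z).card := by
  obtain ⟨L0, x, k0, hL0, hT0, hx, hx0, hk0, hxk⟩ := G.outside
  by_cases hzx : z = x
  · exact hzx ▸ G.lns_ge_q hh hL0 hT0 hx hx0 hk0 hxk
  have hq := G.lns_ge_q hh hL0 hT0 hx hx0 hk0 hxk
  have h1 : ((lns T x).filter fun L => IsMem L z).card ≤ 1 := card_le_one.2 fun a ha b hb => by
    rw [mem_filter, mem_lns] at ha hb
    exact G.eq_of_two hh ha.1.1 ha.1.2.1 hb.1.1 hb.1.2.1 ha.2 ha.1.2.2 hb.2 hb.1.2.2 hzx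
  have h3 := card_filter_add_card_filter_not (s := lns T x) (fun L => IsMem L z)
  have h4 := G.three
  obtain ⟨A, hA, B, hB, hAB⟩ := one_lt_card.1 (show 1 < ((lns T x).filter fun L => ¬ IsMem L z).card by omega)
  rw [mem_filter, mem_lns] at hA hB
  by_cases hallA : ∀ k, IsMem A k → Commute z k
  · by_cases hallB : ∀ k, IsMem B k → Commute z k
    · exact absurd ((G.pole hh hA.1.1 hA.1.2.1 hz hA.2 hallA).1.trans
        (G.pole hh hB.1.1 hB.1.2.1 hz hB.2 hallB).1.symm) hAB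
    · push Not at hallB
      obtain ⟨l, hl, hzl⟩ := hallB
      exact G.lns_ge_q hh hB.1.1 hB.1.2.1 hz hB.2 hl hzl
  · push Not at hallA
    obtain ⟨l, hl, hzl⟩ := hallA
    exact G.lns_ge_q hh hA.1.1 hA.1.2.1 hz hA.2 hl hzl

theorem lns_meet {z : H} (hz : Pt T z) {L L' : AddSubgroup V} (hL : L ∈ lns T z) (hL' : L' ∈ lns T z)
    (hne : L ≠ L') : L ⊓ L' ≤ T := by
  rw [mem_lns] at hL hL'
  obtain ⟨k, hk, hkz⟩ : ∃ k, IsMem L k ∧ k ≠ z := by
    by_contra! hc
    have : (mems H L).card ≤ 1 := card_le_one.2 fun a ha b hb => by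
      rw [mem_mems] at ha hb
      rw [hc a ha, hc b hb]
    rw [G.card_mems hh hL.1 hL.2.1] at this
    have := G.three
    omega
  rw [← G.slot L' k hL'.1 hL'.2.1 ⟨L, hL.1, hL.2.1, hk⟩
    fun h => hne (G.eq_of_two hh hL.1 hL.2.1 hL'.1 hL'.2.1 hk hL.2.2 h hL'.2.2 hkz)]
  exact inf_le_inf_right _ hk.2

/-- The pencils through a point, and the intersections with points not joined to it. -/
theorem slots {z : H} (hz : Pt T z) (S : Finset H) (hS : ∀ y ∈ S, Pt T y ∧ ¬ Coll T z y)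
    (hSS : ∀ y ∈ S, ∀ y' ∈ S, y ≠ y' → Fx V y ⊓ Fx V z ⊓ (Fx V y' ⊓ Fx V z) ≤ T) :
    (lns T z).card * (q - 1) * Nat.card T + ∑ y ∈ S, (Nat.card (Fx V y ⊓ Fx V z : AddSubgroup V) - Nat.card T)
      ≤ (q * q - 1) * Nat.card T ∧
    ∀ y ∈ S, Nat.card T * q ≤ Nat.card (Fx V y ⊓ Fx V z : AddSubgroup V) := by
  obtain ⟨-, hTz, -, hfz, -⟩ := G.ptD hh hz
  have hbig : ∀ y ∈ S, Nat.card T * q ≤ Nat.card (Fx V y ⊓ Fx V z : AddSubgroup V) := by
    intro y hy
    have h := card_sum_inter (A := Fx V y) (B := Fx V z) (M := (⊤ : AddSubgroup V)) le_top le_top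
    obtain ⟨L, hL, hTL, hyL⟩ := (hS y hy).1
    obtain ⟨hc, D⟩ := G.lineD L hL hTL
    rw [AddSubgroup.card_top, D.card, hc, (G.ptD hh (hS y hy).1).2.2.2.1, hfz] at h
    have h3 := G.three
    refine Nat.le_of_mul_le_mul_left (c := Nat.card T * q * (q * q)) ?_
      (Nat.mul_pos (Nat.mul_pos Nat.card_pos (by omega)) (Nat.mul_pos (by omega) (by omega)))
    calc Nat.card T * q * (q * q) * (Nat.card T * q) = Nat.card T * q * q * (Nat.card T * q * q) := by ring
      _ ≤ _ := h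
  have hT2 : ∀ y ∈ S, ∀ L ∈ lns T z, Fx V y ⊓ Fx V z ⊓ L ≤ T := by
    intro y hy L hL
    rw [mem_lns] at hL
    rw [← G.slot L y hL.1 hL.2.1 (hS y hy).1 fun h => (hS y hy).2 ⟨L, hL.1, hL.2.1, hL.2.2, h⟩]
    exact inf_le_inf_right _ inf_le_left
  have hlt : Nat.card T < Nat.card T * q := by
    have := G.three
    have : 0 < Nat.card T := Nat.card_pos
    nlinarith
  have hinj : Set.InjOn (fun y => Fx V y ⊓ Fx V z) (S : Set H) := by
    intro y hy y' hy' e
    by_contra hne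
    have h := hSS y hy y' hy' hne
    have e' : Fx V y ⊓ Fx V z = Fx V y' ⊓ Fx V z := e
    rw [← e', inf_idem] at h
    exact absurd ((hbig y hy).trans (AddSubgroup.card_le_of_le h)) (not_le.2 hlt)
  have hdisj : Disjoint (lns T z) (S.image fun y => Fx V y ⊓ Fx V z) := disjoint_left.2 fun L hL hL' => by
    obtain ⟨y, hy, rfl⟩ := mem_image.1 hL'
    have h := hT2 y hy _ hL
    rw [inf_idem] at h
    exact absurd ((hbig y hy).trans (AddSubgroup.card_le_of_le h)) (not_le.2 hlt)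
  have h := slot_bound hTz (lns T z ∪ S.image fun y => Fx V y ⊓ Fx V z) (fun X hX => by
      rcases mem_union.1 hX with h | h
      · rw [mem_lns] at h
        exact ⟨h.2.1, h.2.2.2⟩
      · obtain ⟨y, hy, rfl⟩ := mem_image.1 h
        exact ⟨le_inf (G.ptD hh (hS y hy).1).2.1 hTz, inf_le_right⟩)
    (fun X hX Y hY hne => by
      rcases mem_union.1 hX with h | h <;> rcases mem_union.1 hY with h' | h'
      · exact G.lns_meet hh hz h h' hne
      · obtain ⟨y, hy, rfl⟩ := mem_image.1 h'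
        rw [inf_comm]; exact hT2 y hy X h
      · obtain ⟨y, hy, rfl⟩ := mem_image.1 h
        exact hT2 y hy Y h'
      · obtain ⟨y, hy, rfl⟩ := mem_image.1 h
        obtain ⟨y', hy', rfl⟩ := mem_image.1 h'
        exact hSS y hy y' hy' fun e => hne (by rw [e]))
  have hsum : ∑ L ∈ lns T z, (Nat.card L - Nat.card T) = (lns T z).card * (Nat.card T * q - Nat.card T) := by
    refine (sum_congr rfl fun L hL => ?_).trans ((sum_const _).trans (smul_eq_mul _ _))
    rw [mem_lns] at hL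
    rw [(G.lineD L hL.1 hL.2.1).1]
  rw [sum_union hdisj, sum_image hinj, hsum, hfz] at h
  refine ⟨?_, hbig⟩
  have e1 : Nat.card T * q - Nat.card T = (q - 1) * Nat.card T := by
    rw [Nat.sub_mul, one_mul, mul_comm]
  have e2 : Nat.card T * q * q - Nat.card T = (q * q - 1) * Nat.card T := by
    rw [Nat.sub_mul, one_mul, mul_comm (q * q), ← mul_assoc]
  rw [e1, e2, ← mul_assoc] at h
  exact h

theorem lns_le {z : H} (hz : Pt T z) : (lns T z).card ≤ q + 1 := by
  obtain ⟨h, -⟩ := G.slots hh hz ∅ (fun y hy => absurd hy (notMem_empty y)) fun y hy => absurd hy (notMem_empty y)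
  rw [sum_empty, add_zero] at h
  have h3 := G.three
  have e : q * q - 1 = (q + 1) * (q - 1) := by
    obtain ⟨r, rfl⟩ : ∃ r, q = r + 1 := ⟨q - 1, by omega⟩
    rw [show (r + 1) * (r + 1) = (r + 1 + 1) * r + 1 by ring, Nat.add_sub_cancel, Nat.add_sub_cancel]
  rw [e] at h
  exact Nat.le_of_mul_le_mul_right (Nat.le_of_mul_le_mul_right h Nat.card_pos) (by omega)

/-- With `q + 1` pencils a point is joined to every point. -/
theorem coll_of_full {z : H} (hz : Pt T z) (hfull : (lns T z).card = q + 1) {y : H} (hy : Pt T y) :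
    Coll T z y := by
  by_contra hc
  obtain ⟨h, hb⟩ := G.slots hh hz {y} (fun w hw => by rw [mem_singleton.1 hw]; exact ⟨hy, hc⟩)
    fun w hw w' hw' hne => absurd ((mem_singleton.1 hw).trans (mem_singleton.1 hw').symm) hne
  have hb' := hb y (mem_singleton_self y)
  rw [sum_singleton, hfull] at h
  have h3 := G.three
  have ht : 0 < Nat.card T := Nat.card_pos
  obtain ⟨r, rfl⟩ : ∃ r, q = r + 1 := ⟨q - 1, by omega⟩
  rw [show (r + 1) * (r + 1) = (r + 1 + 1) * r + 1 by ring, Nat.add_sub_cancel, Nat.add_sub_cancel] at h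
  have : Nat.card T < Nat.card T * (r + 1) := by nlinarith
  omega

/-- With `q` pencils at most one point is not joined to a point. -/
theorem far_unique {z : H} (hz : Pt T z) (hq : (lns T z).card = q) {y y' : H} (hy : Pt T y) (hy' : Pt T y')
    (hc : ¬ Coll T z y) (hc' : ¬ Coll T z y') : y = y' := by
  by_contra hne
  have h3 := G.three
  have ht : 0 < Nat.card T := Nat.card_pos
  obtain ⟨r, hr⟩ : ∃ r, q = r + 1 := ⟨q - 1, by omega⟩
  have earith : (q * q - 1) * Nat.card T = q * (q - 1) * Nat.card T + (q - 1) * Nat.card T := by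
    subst hr
    rw [show (r + 1) * (r + 1) = (r + 1) * r + r + 1 by ring, Nat.add_sub_cancel, Nat.add_sub_cancel, add_mul]
  have hex : ∀ w, Pt T w → ¬ Coll T z w → Nat.card (Fx V w ⊓ Fx V z : AddSubgroup V) = Nat.card T * q := by
    intro w hw hcw
    obtain ⟨h, hb⟩ := G.slots hh hz {w} (fun a ha => by rw [mem_singleton.1 ha]; exact ⟨hw, hcw⟩)
      fun a ha b hb hab => absurd ((mem_singleton.1 ha).trans (mem_singleton.1 hb).symm) hab
    rw [sum_singleton, hq, earith] at h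
    have hb' := hb w (mem_singleton_self w)
    have e1 : (q - 1) * Nat.card T = Nat.card T * q - Nat.card T := by rw [Nat.sub_mul, one_mul, mul_comm]
    have : Nat.card T ≤ Nat.card T * q := Nat.le_mul_of_pos_right _ (by omega)
    generalize (q - 1) * Nat.card T = B at h e1
    generalize q * (q - 1) * Nat.card T = A at h
    omega
  have hcz : ∀ w, Pt T w → ¬ Coll T z w → Commute z w := fun w hw hcw => by
    by_contra h
    exact hcw (G.coll_of hh hz hw h)
  have hzy' : y' ≠ z := fun e => hc' (by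
    obtain ⟨L, hL, hTL, hzL⟩ := hz
    exact ⟨L, hL, hTL, hzL, e ▸ hzL⟩)
  have hmeet : Fx V y ⊓ Fx V z ⊓ (Fx V y' ⊓ Fx V z) ≤ T := by
    by_cases hcy : Commute y y'
    · obtain ⟨hym, hTy, -, -, -⟩ := G.ptD hh hy
      obtain ⟨hym', hTy', hry', -, hd'⟩ := G.ptD hh hy'
      obtain ⟨hzm, hTz, -, -, -⟩ := G.ptD hh hz
      have hX : Fx V y ⊓ Fx V z = T ⊔ Rg V y' := by
        refine (AddSubgroup.eq_of_le_of_card_ge (sup_le (le_inf hTy hTz) (le_inf
          (hym'.comm_le hh hym hcy.symm (Ne.symm hne)) (hym'.comm_le hh hzm (hcz y' hy' hc').symm hzy'))) ?_).symm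
        rw [hex y hy hc, ← hry']
        exact card_prod_le le_sup_left le_sup_right (by rw [inf_comm]; exact hd')
      intro v hv
      obtain ⟨h1, h2⟩ := AddSubgroup.mem_inf.1 hv
      rw [hX] at h1
      obtain ⟨a, ha, b, hb, rfl⟩ := AddSubgroup.mem_sup.1 h1
      rw [hh.disjoint_Fx_Rg G.odd (hym'.sq hh) ((add_mem_cancel_left (hTy' ha)).1 (AddSubgroup.mem_inf.1 h2).1) hb,
        add_zero]
      exact ha
    · obtain ⟨L, hL, hTL, hyL, hyL'⟩ := G.coll_of hh hy hy' hcy
      rw [← G.slot L z hL hTL hz fun h => hc ⟨L, hL, hTL, h, hyL⟩]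
      intro v hv
      obtain ⟨h1, h2⟩ := AddSubgroup.mem_inf.1 hv
      obtain ⟨h1, h4⟩ := AddSubgroup.mem_inf.1 h1
      refine AddSubgroup.mem_inf.2 ⟨h4, ?_⟩
      rw [← (G.lineD L hL hTL).2.meet y y' hyL hyL' hne]
      exact AddSubgroup.mem_inf.2 ⟨h1, (AddSubgroup.mem_inf.1 h2).1⟩
  obtain ⟨h, -⟩ := G.slots hh hz {y, y'} (fun w hw => by
      rcases mem_insert.1 hw with rfl | hw
      · exact ⟨hy, hc⟩
      · rw [mem_singleton.1 hw]; exact ⟨hy', hc'⟩)
    fun a ha b hb hab => by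
      rcases mem_insert.1 ha with ea | ea <;> rcases mem_insert.1 hb with eb | eb
      · exact absurd (ea.trans eb.symm) hab
      · rw [ea, mem_singleton.1 eb]; exact hmeet
      · rw [mem_singleton.1 ea, eb, inf_comm]; exact hmeet
      · exact absurd ((mem_singleton.1 ea).trans (mem_singleton.1 eb).symm) hab
  rw [sum_pair hne, hex y hy hc, hex y' hy' hc', hq, earith] at h
  have e1 : (q - 1) * Nat.card T = Nat.card T * q - Nat.card T := by rw [Nat.sub_mul, one_mul, mul_comm]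
  have : Nat.card T < Nat.card T * q := by nlinarith
  generalize (q - 1) * Nat.card T = B at h e1
  generalize q * (q - 1) * Nat.card T = A at h
  omega

/-- The points joined to a point. -/
theorem card_joined {z : H} (hz : Pt T z) :
    ((pts H T).filter fun y => y ≠ z ∧ Coll T z y).card = (lns T z).card * q := by
  have he : ((pts H T).filter fun y => y ≠ z ∧ Coll T z y) =
      (lns T z).biUnion fun L => (mems H L).erase z := by
    ext y
    simp only [mem_filter, mem_pts, mem_biUnion, mem_lns, mem_erase, mem_mems]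
    constructor
    · rintro ⟨-, hne, L, hL, hTL, hzL, hyL⟩
      exact ⟨L, ⟨hL, hTL, hzL⟩, hne, hyL⟩
    · rintro ⟨L, ⟨hL, hTL, hzL⟩, hne, hyL⟩
      exact ⟨⟨L, hL, hTL, hyL⟩, hne, L, hL, hTL, hzL, hyL⟩
  rw [he, card_biUnion]
  · rw [sum_congr rfl fun L hL => ?_, sum_const, smul_eq_mul]
    rw [mem_lns] at hL
    rw [card_erase_of_mem (mem_mems.2 hL.2.2), G.card_mems hh hL.1 hL.2.1, Nat.add_sub_cancel]
  · intro L hL L' hL' hne
    rw [mem_coe, mem_lns] at hL hL'
    rw [Function.onFun, disjoint_left]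
    intro y hy hy'
    rw [mem_erase, mem_mems] at hy hy'
    exact hne (G.eq_of_two hh hL.1 hL.2.1 hL'.1 hL'.2.1 hy.2 hL.2.2 hy'.2 hL'.2.2 hy.1)

/-- Every point has `q + 1` pencils. -/
theorem full {z : H} (hz : Pt T z) : (lns T z).card = q + 1 := by
  by_contra hne
  have hzq : (lns T z).card = q := by
    have := G.lns_le hh hz
    have := G.lns_ge hh hz
    omega
  have h3 := G.three
  have hupper : (pts H T).card ≤ q * q + 2 := by
    have h1 := card_filter_add_card_filter_not (s := pts H T) (fun y => y ≠ z ∧ Coll T z y)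
    rw [G.card_joined hh hz, hzq] at h1
    have h2 : ((pts H T).filter fun y => ¬ (y ≠ z ∧ Coll T z y)).card ≤
        (insert z ((pts H T).filter fun y => ¬ Coll T z y)).card := card_le_card fun y hy => by
      rw [mem_filter] at hy
      rw [mem_insert, mem_filter]
      by_cases h : y = z
      · exact Or.inl h
      · exact Or.inr ⟨hy.1, fun h' => hy.2 ⟨h, h'⟩⟩
    have h4 : ((pts H T).filter fun y => ¬ Coll T z y).card ≤ 1 := card_le_one.2 fun a ha b hb => by
      rw [mem_filter, mem_pts] at ha hb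
      exact G.far_unique hh hz hzq ha.1 hb.1 ha.2 hb.2
    have h5 := card_insert_le z ((pts H T).filter fun y => ¬ Coll T z y)
    omega
  have hall : ∀ y : H, Pt T y → (lns T y).card = q := by
    intro y hy
    by_contra hne'
    have hyf : (lns T y).card = q + 1 := by
      have := G.lns_le hh hy
      have := G.lns_ge hh hy
      omega
    have h1 : ((pts H T).filter fun w => w ≠ y ∧ Coll T y w) = (pts H T).erase y := by
      ext w
      simp only [mem_filter, mem_erase, mem_pts]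
      exact ⟨fun h => ⟨h.2.1, h.1⟩, fun h => ⟨h.2, h.1, G.coll_of_full hh hy hyf h.2⟩⟩
    have h2 := G.card_joined hh hy
    rw [h1, hyf, card_erase_of_mem (mem_pts.2 hy)] at h2
    have : (q + 1) * q = q * q + q := by ring
    omega
  obtain ⟨L, x, k, hL, hTL, hx, hxL, hk, hxk⟩ := G.outside
  have hlower : q * q + 1 ≤ (pts H T).card := by
    have h1 : ((pts H T).filter fun y => y ≠ z ∧ Coll T z y).card < (pts H T).card :=
      card_lt_card ⟨filter_subset _ _, fun h => (mem_filter.1 (h (mem_pts.2 hz))).2.1 rfl⟩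
    rw [G.card_joined hh hz, hzq] at h1
    exact h1
  let out := (pts H T).filter fun y => ¬ IsMem L y
  let pol := out.filter fun y => ∀ l, IsMem L l → Commute y l
  have hpol : pol.card ≤ 1 := card_le_one.2 fun a ha b hb => by
    simp only [pol, out, mem_filter, mem_pts] at ha hb
    exact G.pole_unique hh hL hTL ha.1.1 hb.1.1 ha.1.2 hb.1.2 ha.2 hb.2
  have hfar : ∀ y ∈ out \ pol, ∃ l, IsMem L l ∧ ¬ Coll T y l := by
    intro y hy
    simp only [pol, out, mem_sdiff, mem_filter, mem_pts] at hy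
    by_contra! hc
    have h1 := G.lns_lower hh hL hTL hy.1.1 hy.1.2
    rw [filter_true_of_mem (fun l hl => hc l (mem_mems.1 hl)), G.card_mems hh hL hTL, hall y hy.1.1] at h1
    omega
  choose! f hf using hfar
  have hinj : (out \ pol).card ≤ (mems H L).card := by
    refine card_le_card_of_injOn f (fun y hy => mem_coe.2 (mem_mems.2 (hf y hy).1)) fun a ha b hb e => ?_
    obtain ⟨h1, h2⟩ := hf a ha
    obtain ⟨-, h4⟩ := hf b hb
    rw [← e] at h4
    rw [mem_coe, mem_sdiff] at ha hb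
    simp only [out, mem_filter, mem_pts] at ha hb
    refine G.far_unique hh ⟨L, hL, hTL, h1⟩ (hall _ ⟨L, hL, hTL, h1⟩) ha.1.1 hb.1.1 ?_ ?_
    · rintro ⟨M, hM, hTM, ha', hb'⟩; exact h2 ⟨M, hM, hTM, hb', ha'⟩
    · rintro ⟨M, hM, hTM, ha', hb'⟩; exact h4 ⟨M, hM, hTM, hb', ha'⟩
  have h7 : (pts H T).card ≤ out.card + (mems H L).card := by
    have h8 : (pts H T) ⊆ out ∪ mems H L := fun y hy => by
      simp only [out, mem_union, mem_filter, mem_mems]
      by_cases h : IsMem L y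
      · exact Or.inr h
      · exact Or.inl ⟨hy, h⟩
    exact (card_le_card h8).trans (card_union_le _ _)
  have h9 : out.card ≤ (out \ pol).card + pol.card := le_of_le_of_eq le_rfl
    (card_sdiff_add_card_eq_card (filter_subset _ _)).symm
  rw [G.card_mems hh hL hTL] at hinj h7
  nlinarith

theorem coll_all {y z : H} (hy : Pt T y) (hz : Pt T z) : Coll T y z :=
  G.coll_of_full hh hy (G.full hh hy) hz

theorem card_pts {z : H} (hz : Pt T z) : (pts H T).card = (q + 1) * q + 1 := by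
  have h1 : ((pts H T).filter fun w => w ≠ z ∧ Coll T z w) = (pts H T).erase z := by
    ext w
    simp only [mem_filter, mem_erase, mem_pts]
    exact ⟨fun h => ⟨h.2.1, h.1⟩, fun h => ⟨h.2, h.1, G.coll_all hh hz h.2⟩⟩
  have h2 := G.card_joined hh hz
  rw [h1, G.full hh hz, card_erase_of_mem (mem_pts.2 hz)] at h2
  have : 0 < (pts H T).card := card_pos.2 ⟨z, mem_pts.2 hz⟩
  omega

/-- Two pencils have a common member. -/
theorem meet_lines {L L' : AddSubgroup V} (hL : Pencil H L) (hTL : T ≤ L) (hL' : Pencil H L') (hTL' : T ≤ L') :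
    ∃ k : H, IsMem L k ∧ IsMem L' k := by
  obtain ⟨z, hz⟩ := card_pos.1 (show 0 < (mems H L').card by rw [G.card_mems hh hL' hTL']; omega)
  rw [mem_mems] at hz
  by_cases hzL : IsMem L z
  · exact ⟨z, hzL, hz⟩
  have hzP : Pt T z := ⟨L', hL', hTL', hz⟩
  have hch : ∀ k : H, ∃ M : AddSubgroup V, IsMem L k → Pencil H M ∧ T ≤ M ∧ IsMem M z ∧ IsMem M k := fun k => by
    by_cases h : IsMem L k
    · obtain ⟨M, hM⟩ := G.coll_all hh hzP ⟨L, hL, hTL, h⟩
      exact ⟨M, fun _ => hM⟩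
    · exact ⟨⊥, fun h' => absurd h' h⟩
  choose f hf using hch
  have himg : (mems H L).image f = lns T z := by
    refine eq_of_subset_of_card_le (fun M hM => ?_) ?_
    · obtain ⟨k, hk, rfl⟩ := mem_image.1 hM
      obtain ⟨h1, h2, h3, -⟩ := hf k (mem_mems.1 hk)
      exact mem_lns.2 ⟨h1, h2, h3⟩
    · rw [G.full hh hzP, card_image_of_injOn, G.card_mems hh hL hTL]
      intro k hk k' hk' e
      rw [mem_coe, mem_mems] at hk hk'
      obtain ⟨h1, h2, h3, h4⟩ := hf k hk
      obtain ⟨-, -, -, h5⟩ := hf k' hk'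
      rw [← e] at h5
      by_contra hne
      exact hzL (G.eq_of_two hh h1 h2 hL hTL h4 h5 hk hk' hne ▸ h3)
  have hin : L' ∈ (mems H L).image f := himg ▸ mem_lns.2 ⟨hL', hTL', hz⟩
  obtain ⟨k, hk, e⟩ := mem_image.1 hin
  exact ⟨k, mem_mems.1 hk, e ▸ (hf k (mem_mems.1 hk)).2.2.2⟩

/-- The points commuting with a point form a pencil not containing it. -/
theorem perps (h2 : p ≠ 2) {z : H} (hz : Pt T z) :
    Pencil H (T ⊔ Rg V z) ∧ ((pts H T).filter fun y => y ≠ z ∧ Commute z y) = mems H (T ⊔ Rg V z) := by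
  obtain ⟨hzm, hTz, hr, -, hd⟩ := G.ptD hh hz
  obtain ⟨S, hS⟩ : ∃ S, S = (pts H T).filter fun y => y ≠ z ∧ Commute z y := ⟨_, rfl⟩
  rw [← hS]
  have hmemS : ∀ y, y ∈ S ↔ Pt T y ∧ y ≠ z ∧ Commute z y := fun y => by
    rw [hS, mem_filter, mem_pts]
  have hcard : S.card = q + 1 := by
    rw [← G.full hh hz]
    have hch : ∀ L : AddSubgroup V, ∃ y : H, L ∈ lns T z → IsMem L y ∧ y ≠ z ∧ Commute z y := fun L => by
      by_cases h : L ∈ lns T z
      · rw [mem_lns] at h
        obtain ⟨y, hy⟩ := (G.lineD L h.1 h.2.1).2.perp h2 z h.2.2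
        exact ⟨y, fun _ => hy⟩
      · exact ⟨1, fun h' => absurd h' h⟩
    choose g hg using hch
    symm
    refine card_bij (fun L _ => g L) (fun L hL => ?_) (fun L hL L' hL' e => ?_) fun y hy => ?_
    · obtain ⟨h1, h3, h4⟩ := hg L hL
      rw [mem_lns] at hL
      exact (hmemS _).2 ⟨⟨L, hL.1, hL.2.1, h1⟩, h3, h4⟩
    · obtain ⟨h1, h3, -⟩ := hg L hL
      obtain ⟨h5, -, -⟩ := hg L' hL'
      rw [mem_lns] at hL hL'
      rw [← e] at h5
      exact G.eq_of_two hh hL.1 hL.2.1 hL'.1 hL'.2.1 h1 hL.2.2 h5 hL'.2.2 h3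
    · obtain ⟨hyP, hyne, hyc⟩ := (hmemS y).1 hy
      obtain ⟨L, hL, hTL, hzL, hyL⟩ := G.coll_all hh hz hyP
      have hLm : L ∈ lns T z := mem_lns.2 ⟨hL, hTL, hzL⟩
      obtain ⟨h1, h3, h4⟩ := hg L hLm
      exact ⟨L, hLm, (G.lineD L hL hTL).2.perp_unique z (g L) y hzL h1 hyL h3.symm hyne.symm h4 hyc⟩
  have h3 := G.three
  obtain ⟨y, hy, y', hy', hne⟩ := one_lt_card.1 (show 1 < S.card by omega)
  obtain ⟨hyP, hyne, hyc⟩ := (hmemS y).1 hy
  obtain ⟨hyP', hyne', hyc'⟩ := (hmemS y').1 hy'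
  obtain ⟨L, hL, hTL, hyL, hyL'⟩ := G.coll_all hh hyP hyP'
  have hLeq : T ⊔ Rg V z = L := by
    refine AddSubgroup.eq_of_le_of_card_ge (sup_le hTL ?_) ?_
    · rw [← (G.lineD L hL hTL).2.meet y y' hyL hyL' hne]
      exact le_inf (hzm.comm_le hh hyL.1 hyc hyne.symm) (hzm.comm_le hh hyL'.1 hyc' hyne'.symm)
    · rw [(G.lineD L hL hTL).1, ← hr]
      exact card_prod_le le_sup_left le_sup_right (by rw [inf_comm]; exact hd)
  rw [hLeq]
  refine ⟨hL, eq_of_subset_of_card_le (fun w hw => ?_) (by rw [G.card_mems hh hL hTL, hcard])⟩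
  obtain ⟨hwP, hwne, hwc⟩ := (hmemS w).1 hw
  rw [mem_mems, ← hLeq]
  exact ⟨(G.ptD hh hwP).1, sup_le (G.ptD hh hwP).2.1 (hzm.comm_le hh (G.ptD hh hwP).1 hwc hwne.symm)⟩

/-- The plane cannot exist. -/
theorem false (h2 : p ≠ 2) : False := by
  obtain ⟨L0, x, k0, hL0, hT0, hx, -, -, -⟩ := G.outside
  have hq : (q : ZMod p) = 0 := (CharP.cast_eq_zero_iff (ZMod p) p q).2 G.dvd
  have hconv : ∀ (Q : H → Prop) (S : Finset {z : H // Pt T z}) (R : Finset H), (∀ w, w ∈ S ↔ Q w) →
      (∀ w, w ∈ R ↔ Pt T w ∧ Q w) → S.card = R.card := by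
    intro Q S R hS hR
    refine card_bij (fun w _ => (w : H)) (fun w hw => (hR _).2 ⟨w.2, (hS w).1 hw⟩)
      (fun a _ b _ e => Subtype.ext e) fun w hw => ?_
    exact ⟨⟨w, ((hR w).1 hw).1⟩, (hS _).2 ((hR w).1 hw).2, rfl⟩
  refine no_polarity p (fun a b : {z : H // Pt T z} => (b : H) ≠ (a : H) ∧ Commute (a : H) (b : H))
    (fun a b h => ⟨h.1.symm, h.2.symm⟩) (fun a h => h.1 rfl) (fun a => ?_) (fun a b hab => ?_) ?_
  · obtain ⟨hL, he⟩ := G.perps hh h2 a.2
    rw [hconv (fun w => w ≠ (a : H) ∧ Commute (a : H) w) _ (mems H (T ⊔ Rg V (a : H)))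
      (fun w => by simp) (fun w => by rw [← he, mem_filter, mem_pts]), G.card_mems hh hL le_sup_left,
      Nat.cast_add, hq, zero_add, Nat.cast_one]
  · obtain ⟨hA, hea⟩ := G.perps hh h2 a.2
    obtain ⟨hB, heb⟩ := G.perps hh h2 b.2
    rw [hconv (fun w => (w ≠ (a : H) ∧ Commute (a : H) w) ∧ (w ≠ (b : H) ∧ Commute (b : H) w)) _
      (mems H (T ⊔ Rg V (a : H)) ∩ mems H (T ⊔ Rg V (b : H)))
      (fun w => by simp) (fun w => by
        rw [mem_inter, ← hea, ← heb, mem_filter, mem_filter, mem_pts]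
        tauto)]
    have hneL : T ⊔ Rg V (a : H) ≠ T ⊔ Rg V (b : H) := by
      intro e
      have hnot : ∀ (c : {z : H // Pt T z}), ¬ IsMem (T ⊔ Rg V (c : H)) (c : H) := fun c h => by
        have := (G.perps hh h2 c.2).2 ▸ mem_mems.2 h
        exact (mem_filter.1 this).2.1 rfl
      have hall : ∀ (c : {z : H // Pt T z}), ∀ k, IsMem (T ⊔ Rg V (c : H)) k → Commute (c : H) k := fun c k hk =>
        (mem_filter.1 ((G.perps hh h2 c.2).2.symm ▸ mem_mems.2 hk)).2.2
      exact hab (Subtype.ext (G.pole_unique hh hA le_sup_left a.2 b.2 (hnot a) (e ▸ hnot b) (hall a)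
        (e ▸ hall b)))
    obtain ⟨k, hk, hk'⟩ := G.meet_lines hh hA le_sup_left hB le_sup_left
    have : mems H (T ⊔ Rg V (a : H)) ∩ mems H (T ⊔ Rg V (b : H)) = {k} := by
      ext w
      rw [mem_inter, mem_mems, mem_mems, mem_singleton]
      refine ⟨fun h => ?_, fun h => h ▸ ⟨hk, hk'⟩⟩
      by_contra hne
      exact hneL (G.eq_of_two hh hA le_sup_left hB le_sup_left h.1 hk h.2 hk' hne)
    rw [this, card_singleton, Nat.cast_one]
  · rw [Fintype.card_subtype, show (univ.filter fun z : H => Pt T z) = pts H T from rfl, G.card_pts hh hx,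
      Nat.cast_add, Nat.cast_mul, hq, mul_zero, zero_add, Nat.cast_one]

end Geo

end Cfsg.Agent.BinAff
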