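import Cfsg.Agent.Lib.BinAff.CaseTwo
import Cfsg.Agent.Lib.BinAff.Geo
import Cfsg.Agent.Lib.BinAff.Field

/-!
# Binary affine groups: all pencils have trivial base
-/

set_option autoImplicit false
set_option linter.unusedSectionVars false

namespace Cfsg.Agent.BinAff

variable {V : Type*} [AddCommGroup V] [Finite V] {H : Type*} [Group H] [Finite H] [DistribMulAction H V]
  [FaithfulSMul H V] {p : ℕ} [Fact p.Prime]

theorem Hyp.dvd_of_one_lt (hh : Hyp V H p) {W : AddSubgroup V} (h : 1 < Nat.card W) : p ∣ Nat.card W := by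
  obtain ⟨k, hk⟩ := hh.card_pow W
  have : k ≠ 0 := fun e => by rw [hk, e, pow_zero] at h; omega
  rw [hk]
  exact dvd_pow_self p this

/-- In odd characteristic the fixed vectors inside `Mov` of a member are the root space of its partner. -/
theorem PData.mem_Rg_of_fix (hh : Hyp V H p) {T : AddSubgroup V} {q : ℕ} (D : PData H p T q) {k k' : H}
    (hk : IsMem T k) (hk' : IsMem T k') (hne : k' ≠ k) (hc : Commute k k') {v : V} (h1 : v ∈ Fx V k)
    (h2 : v ∈ Mov V H T) : v ∈ Rg V k' := by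
  have hd : T ⊓ Rg V k' = ⊥ := (AddSubgroup.eq_bot_iff_forall _).2 fun w hw =>
    D.rg_T hk' (AddSubgroup.mem_inf.1 hw).2 (AddSubgroup.mem_inf.1 hw).1
  have he : T ⊔ Rg V k' = Fx V k := by
    refine AddSubgroup.eq_of_le_of_card_ge (sup_le hk.2 (hk'.1.comm_le hh hk.1 hc.symm hne)) ?_
    rw [D.fx k hk, ← D.rg k' hk']
    exact card_prod_le le_sup_left le_sup_right hd
  rw [← he] at h1
  obtain ⟨a, ha, b, hb, rfl⟩ := AddSubgroup.mem_sup.1 h1
  rw [D.mov_T ((add_mem_cancel_right (Rg_le_Mov hk' hb)).1 h2) ha, zero_add]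
  exact hb

namespace Conf

variable {T1 : AddSubgroup V} {x : H} {q : ℕ} (hh : Hyp V H p) (C : Conf H p T1 x q)
include hh C

theorem Mov_inter_Rg (h2 : p ≠ 2) : Mov V H T1 ⊓ Rg V x = ⊥ := by
  refine (AddSubgroup.eq_bot_iff_forall _).2 fun u hu => ?_
  obtain ⟨huM, hux⟩ := AddSubgroup.mem_inf.1 hu
  by_contra hu0
  have huT : u ∉ T1 := fun h => hu0 (C.data.mov_T huM h)
  obtain ⟨k, hk, hku⟩ := C.pen.exists_mem hh huT
  by_cases hxk : Commute x k
  · obtain ⟨k', hk', hne, hc⟩ := C.data.perp h2 k hk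
    have hu' := C.data.mem_Rg_of_fix hh hk hk' hne hc (mem_Fx.2 hku) huM
    have hxk' : ¬ Commute x k' := fun h => hne (C.comm_unique hh hk' hk h hxk)
    obtain ⟨-, D⟩ := C.all_pencils hh (C.line_all hh hk' hxk') (inf_le_inf_left _ hk'.2)
    have hd := D.disj x k' ⟨C.pm.mir, inf_le_left⟩ ⟨hk'.1, inf_le_right⟩ fun e => C.out (e ▸ hk')
    have h0 := AddSubgroup.mem_inf.2 ⟨hux, hu'⟩
    rw [hd, AddSubgroup.mem_bot] at h0
    exact hu0 h0
  · obtain ⟨-, D⟩ := C.all_pencils hh (C.line_all hh hk hxk) (inf_le_inf_left _ hk.2)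
    have hxL : IsMem (Fx V x ⊓ Fx V k) x := ⟨C.pm.mir, inf_le_left⟩
    have hkL : IsMem (Fx V x ⊓ Fx V k) k := ⟨hk.1, inf_le_right⟩
    obtain ⟨k'', hk'', hne, hc⟩ := D.perp h2 k hkL
    have hu' := D.mem_Rg_of_fix hh hkL hk'' hne hc (mem_Fx.2 hku) (Rg_le_Mov hxL hux)
    have hd := D.disj x k'' hxL hk'' fun e => hxk (e ▸ hc.symm)
    have h0 := AddSubgroup.mem_inf.2 ⟨hux, hu'⟩
    rw [hd, AddSubgroup.mem_bot] at h0
    exact hu0 h0

theorem card_base_odd (h2 : p ≠ 2) :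
    Nat.card T1 = Nat.card (Fx V x ⊓ T1 : AddSubgroup V) * q := by
  refine le_antisymm (C.card_le_base hh) ?_
  have hint : (Mov V H T1 ⊔ Rg V x) ⊓ (Fx V x ⊓ T1) = ⊥ := by
    refine (AddSubgroup.eq_bot_iff_forall _).2 fun t ht => ?_
    obtain ⟨h1, h3⟩ := AddSubgroup.mem_inf.1 ht
    have hle : Mov V H T1 ⊔ Rg V x ≤ Mov V H (Fx V x ⊓ T1) :=
      sup_le (iSup₂_le fun k hk => Rg_le_Mov (T := Fx V x ⊓ T1) ⟨hk.1, inf_le_right.trans hk.2⟩)
        (Rg_le_Mov (T := Fx V x ⊓ T1) ⟨C.pm.mir, inf_le_left⟩)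
    have h4 := AddSubgroup.mem_inf.2 ⟨hle h1, h3⟩
    rwa [hh.span_odd h2, AddSubgroup.mem_bot] at h4
  have i1 := card_prod_le (le_top : Mov V H T1 ⊔ Rg V x ≤ ⊤) le_top hint
  have i2 := card_prod_le (M := Mov V H T1 ⊔ Rg V x) le_sup_left le_sup_right (C.Mov_inter_Rg hh h2)
  rw [AddSubgroup.card_top, C.data.card] at i1
  rw [C.data.card_Mov, (C.card_x hh).1] at i2
  have hq : 0 < q := by have := C.data.one_lt; omega
  refine Nat.le_of_mul_le_mul_right (c := q * q) ?_ (Nat.mul_pos hq hq)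
  calc Nat.card (Fx V x ⊓ T1 : AddSubgroup V) * q * (q * q)
      = q * q * q * Nat.card (Fx V x ⊓ T1 : AddSubgroup V) := by ring
    _ ≤ Nat.card (Mov V H T1 ⊔ Rg V x : AddSubgroup V) * Nat.card (Fx V x ⊓ T1 : AddSubgroup V) :=
      Nat.mul_le_mul_right _ i2
    _ ≤ Nat.card T1 * (q * q) := i1

/-- The configuration gives a plane. -/
theorem geo (h2 : p ≠ 2) : Geo H p (Fx V x ⊓ T1) q := by
  have hq1 := C.data.one_lt
  have hdvd : p ∣ q := by
    obtain ⟨k, hk⟩ := C.noncomm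
    have h := hh.dvd_of_one_lt (W := Rg V k) (by rw [C.data.rg k hk.1]; exact hq1)
    rwa [C.data.rg k hk.1] at h
  have hline : ∀ L : AddSubgroup V, Pencil H L → Fx V x ⊓ T1 ≤ L →
      Nat.card L = Nat.card (Fx V x ⊓ T1 : AddSubgroup V) * q ∧ PData H p L q := fun L hL hle => by
    obtain ⟨hc, D⟩ := C.all_pencils hh hL hle
    exact ⟨by rw [hc, C.card_base_odd hh h2], D⟩
  obtain ⟨k, hk, hL, hxk⟩ := C.exists_line hh
  refine ⟨h2, ?_, hdvd, hline, fun L z hL hTL hz hnot => ?_, fun y z hy hz hyz => ?_,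
    ⟨T1, x, k, C.pen, inf_le_right, ⟨_, hL, inf_le_inf_left _ hk.2, C.pm.mir, inf_le_left⟩, C.out, hk, hxk⟩⟩
  · have h3 := (Fact.out : p.Prime).two_le
    have := Nat.le_of_dvd (by omega) hdvd
    omega
  · obtain ⟨L', hL', hTL', hzL'⟩ := hz
    obtain ⟨hcL, D⟩ := hline L hL hTL
    obtain ⟨hcL', D'⟩ := hline L' hL' hTL'
    by_cases hex : ∃ l, IsMem L l ∧ ¬ Commute z l
    · obtain ⟨l, hl, hzl⟩ := hex
      exact (C.of_candidate hh hL D ⟨L', hL', hzL'⟩ hnot hl hzl (le_inf (hTL'.trans hzL'.2) hTL)).2.2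
    push Not at hex
    obtain ⟨-, hM⟩ := D.of_commute_all hh hzL'.1 hnot hex
    refine (AddSubgroup.eq_of_le_of_card_ge (le_inf (hTL'.trans hzL'.2) hTL) ?_).symm
    have i := card_prod_le hM (inf_le_left : Fx V z ⊓ L ≤ Fx V z)
      ((AddSubgroup.eq_bot_iff_forall _).2 fun v hv => D.mov_T (AddSubgroup.mem_inf.1 hv).1
        (AddSubgroup.mem_inf.1 (AddSubgroup.mem_inf.1 hv).2).2)
    rw [D.card_Mov, D'.fx z hzL', hcL'] at i
    refine Nat.le_of_mul_le_mul_left (c := q * q) ?_ (Nat.mul_pos (by omega) (by omega))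
    calc q * q * Nat.card (Fx V z ⊓ L : AddSubgroup V)
        ≤ Nat.card (Fx V x ⊓ T1 : AddSubgroup V) * q * q := i
      _ = q * q * Nat.card (Fx V x ⊓ T1 : AddSubgroup V) := by ring
  · obtain ⟨Ly, hLy, hTy, hyL⟩ := hy
    obtain ⟨Lz, hLz, hTz, hzL⟩ := hz
    refine C.line hh ⟨Ly, hLy, hyL⟩ ⟨Lz, hLz, hzL⟩ hyz ((C.lt_T1 hh).trans_le ?_)
    obtain ⟨hcy, Dy⟩ := hline Ly hLy hTy
    obtain ⟨hcz, Dz⟩ := hline Lz hLz hTz
    have h := card_sum_inter (A := Fx V y) (B := Fx V z) (M := (⊤ : AddSubgroup V)) le_top le_top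
    rw [AddSubgroup.card_top, C.data.card, Dy.fx y hyL, Dz.fx z hzL, hcy, hcz, ← C.card_base_odd hh h2] at h
    refine Nat.le_of_mul_le_mul_left (c := Nat.card T1 * (q * q)) ?_
      (Nat.mul_pos Nat.card_pos (Nat.mul_pos (by omega) (by omega)))
    calc Nat.card T1 * (q * q) * Nat.card T1 = Nat.card T1 * q * (Nat.card T1 * q) := by ring
      _ ≤ _ := h

theorem false_odd (h2 : p ≠ 2) : False := by
  classical
  have : Fintype H := Fintype.ofFinite H
  have : Finite (AddSubgroup V) := Finite.of_injective (fun S => (S : Set V)) SetLike.coe_injective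
  have : Fintype (AddSubgroup V) := Fintype.ofFinite _
  exact (C.geo hh h2).false hh h2

end Conf

theorem Pencil.base_bot (hh : Hyp V H p)
    (hirr : ∀ W : AddSubgroup V, (∀ h : H, ∀ w ∈ W, h • w ∈ W) → W = ⊥ ∨ W = ⊤)
    {T : AddSubgroup V} (hT : Pencil H T) : T = ⊥ := by
  by_contra h
  obtain ⟨T1, x, q, C⟩ := exists_conf hh hirr hT h
  by_cases h2 : p = 2
  · exact C.false_two hh h2
  · exact C.false_odd hh h2

/-- An irreducible binary group that is not of exponent two has the shape of the plane over a field. -/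
theorem Hyp.fieldHyp (hh : Hyp V H p)
    (hirr : ∀ W : AddSubgroup V, (∀ h : H, ∀ w ∈ W, h • w ∈ W) → W = ⊥ ∨ W = ⊤)
    (hne : ∃ g : H, g * g ≠ 1) : ∃ k, FieldHyp V H p k := by
  obtain ⟨g0, hg0⟩ := hne
  obtain ⟨T, hT, -⟩ := exists_pencil (V := V) hg0
  have hTb := hT.base_bot hh hirr
  subst hTb
  obtain ⟨q, D⟩ := hT.data hh
  have hmem : ∀ {z : H}, IsMir V z → IsMem (⊥ : AddSubgroup V) z := fun hz => ⟨hz, bot_le⟩
  have hV : Nat.card V = q * q := by rw [D.card, AddSubgroup.card_bot, one_mul]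
  obtain ⟨n, hn⟩ := hh.card_pow (⊤ : AddSubgroup V)
  rw [AddSubgroup.card_top] at hn
  obtain ⟨k, -, hk⟩ := (Nat.dvd_prime_pow (Fact.out : p.Prime)).1 (show q ∣ p ^ n from hn ▸ hV ▸ Dvd.intro q rfl)
  have hstab : ∀ v : V, v ≠ 0 → ∃ x : H, IsMir V x ∧ x • v = v ∧ ∀ g : H, g • v = v → g = 1 ∨ g = x := by
    intro v hv
    obtain ⟨x, hx, hxv⟩ := hT.exists_mem hh (fun h => hv (AddSubgroup.mem_bot.1 h))
    refine ⟨x, hx.1, hxv, fun g hgv => ?_⟩
    by_cases hg1 : g = 1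
    · exact Or.inl hg1
    right
    have hstep : ∀ j : H, j • v = v → j * j = 1 := fun j hj =>
      hT.step j v bot_le (fun h => hv (AddSubgroup.mem_bot.1 h)) hj
    have hgx : Commute g x := commute_of_sq (hstep g hgv) (hx.1.sq hh) (hstep _ (by rw [mul_smul, hxv, hgv]))
    have hWg : Fx V x ≤ Fx V g := by
      by_cases h2 : p = 2
      · have heq : Rg V x = Fx V x := AddSubgroup.eq_of_le_of_card_ge (hh.Rg_le_Fx h2 (hx.1.sq hh)) (by
          rw [D.rg x hx, D.fx x hx, AddSubgroup.card_bot, one_mul])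
        intro w hw
        rw [← heq] at hw
        exact mem_Fx.2 (((hx.1.sign hh hgx).resolve_right fun h => h.1 h2) w hw)
      · obtain ⟨y, hy, hyx, hxy⟩ := D.perp h2 x hx
        have heq : Rg V y = Fx V x := AddSubgroup.eq_of_le_of_card_ge (hy.1.comm_le hh hx.1 hxy.symm hyx) (by
          rw [D.rg y hy, D.fx x hx, AddSubgroup.card_bot, one_mul])
        have hgy : Commute g y := by
          have hy' : IsMem (⊥ : AddSubgroup V) (g * y * g⁻¹) := hmem (hy.1.conj g)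
          have hc : Commute x (g * y * g⁻¹) := (hgx.symm.mul_right hxy).mul_right hgx.symm.inv_right
          have hne' : g * y * g⁻¹ ≠ x := fun e => hyx (by
            have e2 : g⁻¹ * (g * y * g⁻¹) * g = g⁻¹ * x * g := by rw [e]
            rw [mul_assoc g⁻¹ x g, ← hgx.eq, inv_mul_cancel_left] at e2
            simpa [mul_assoc] using e2)
          exact mul_inv_eq_iff_eq_mul.1 (D.perp_unique x _ y hx hy' hy hne'.symm hyx.symm hc hxy)
        have hvy : v ∈ Rg V y := heq ▸ mem_Fx.2 hxv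
        intro w hw
        rw [← heq] at hw
        rcases hy.1.sign hh hgy with h | ⟨-, h⟩
        · exact mem_Fx.2 (h w hw)
        · refine absurd ?_ hv
          have h' := h v hvy
          rw [hgv, eq_neg_iff_add_eq_zero] at h'
          exact hh.eq_zero_of_add_self h2 h'
    have hgW := hx.1.2 g hg1 hWg
    have hgm : IsMir V g := ⟨hg1, fun j hj hle => by rw [hgW] at hle ⊢; exact hx.1.2 j hj hle⟩
    by_contra hne'
    have hm := D.meet g x (hmem hgm) hx hne'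
    rw [hgW, inf_idem] at hm
    exact hv (AddSubgroup.mem_bot.1 (hm ▸ mem_Fx.2 hxv))
  have hmir : ∀ x : H, x ≠ 1 → (∃ v : V, v ≠ 0 ∧ x • v = v) → IsMir V x := fun x h1 ⟨v, hv, hxv⟩ => by
    obtain ⟨y, hy, -, hall⟩ := hstab v hv
    rcases hall x hxv with h | h
    · exact absurd h h1
    · exact h ▸ hy
  refine ⟨k, ⟨?_, ?_, fun v hv => ?_, fun x h1 h2 => ?_,
    fun x y z a1 a2 b1 b2 c1 c2 hxy hxz hcy hcz =>
      D.perp_unique x y z (hmem (hmir x a1 a2)) (hmem (hmir y b1 b2)) (hmem (hmir z c1 c2)) hxy hxz hcy hcz⟩⟩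
  · refine Nat.pos_of_ne_zero fun e => ?_
    have h1 := D.one_lt
    rw [hk, e, pow_zero] at h1
    omega
  · rw [hV, hk, ← pow_add, two_mul]
  · obtain ⟨x, hx, hxv, hall⟩ := hstab v hv
    exact ⟨x, hx.ne_one, hx.sq hh, hxv, hall⟩
  · rw [D.fx x (hmem (hmir x h1 h2)), AddSubgroup.card_bot, one_mul, hk]

end Cfsg.Agent.BinAff
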