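import Cfsg.Agent.Lib.BinAff.Basic
import Mathlib.Algebra.BigOperators.Group.Finset.Basic
import Mathlib.GroupTheory.GroupAction.Basic
import Mathlib.Data.Fintype.BigOperators
import Mathlib.Tactic.Linarith

/-!
# Binary affine groups: mirrors and pencils

A mirror is a non-trivial element whose fixed space is maximal; mirrors are involutions, and two distinct
commuting mirrors fix each other's root space.  A pencil is a subspace whose pointwise stabiliser is not
elementary abelian while all smaller stabilisers are.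
-/

set_option autoImplicit false
set_option linter.unusedSectionVars false

namespace Cfsg.Agent.BinAff

variable {V : Type*} [AddCommGroup V] [Finite V] {H : Type*} [Group H] [Finite H] [DistribMulAction H V]
  [FaithfulSMul H V] {p : ℕ}

variable (V) in
/-- A non-trivial element with maximal fixed space. -/
def IsMir (x : H) : Prop := x ≠ 1 ∧ ∀ g : H, g ≠ 1 → Fx V x ≤ Fx V g → Fx V g = Fx V x

theorem IsMir.ne_one {x : H} (hx : IsMir V x) : x ≠ 1 := hx.1

/-- An element fixing the fixed space of a mirror and one more point is trivial. -/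
theorem IsMir.eq_one {x g : H} (hx : IsMir V x) (hW : Fx V x ≤ Fx V g) {v : V} (hv : v ∉ Fx V x)
    (hgv : g • v = v) : g = 1 := by
  by_contra hg
  exact hv (hx.2 g hg hW ▸ mem_Fx.2 hgv)

theorem exists_mir {g : H} (hg : g ≠ 1) : ∃ m : H, IsMir V m ∧ Fx V g ≤ Fx V m := by
  classical
  have : Fintype H := Fintype.ofFinite H
  obtain ⟨m, hm, hmax⟩ := Finset.exists_max_image
    (Finset.univ.filter fun k : H => k ≠ 1 ∧ Fx V g ≤ Fx V k) (fun k => Nat.card (Fx V k))
    ⟨g, by simp [hg]⟩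
  simp only [Finset.mem_filter, Finset.mem_univ, true_and] at hm hmax
  exact ⟨m, ⟨hm.1, fun k hk hle =>
    (AddSubgroup.eq_of_le_of_card_ge hle (hmax k ⟨hk, hm.2.trans hle⟩)).symm⟩, hm.2⟩

theorem Fx_one : Fx V (1 : H) = ⊤ := eq_top_iff.2 fun v _ => mem_Fx.2 (one_smul H v)

theorem Fx_inf_le (x y : H) : Fx V x ⊓ Fx V y ≤ Fx V (x * y) := fun v hv => by
  obtain ⟨h1, h2⟩ := AddSubgroup.mem_inf.1 hv
  rw [mem_Fx, mul_smul, mem_Fx.1 h2, mem_Fx.1 h1]

theorem Fx_inv (x : H) : Fx V x⁻¹ = Fx V x := by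
  ext v
  rw [mem_Fx, mem_Fx, inv_smul_eq_iff, eq_comm]

theorem smul_neg_of_mem_Rg {x : H} (h2 : x * x = 1) {u : V} (hu : u ∈ Rg V x) : x • u = -u := by
  obtain ⟨w, rfl⟩ := hu
  rw [dl_apply, smul_sub, ← mul_smul, h2, one_smul, neg_sub]

theorem Rg_ne_bot {x : H} (hx : x ≠ 1) : Rg V x ≠ ⊥ := fun e => hx ((eq_one_iff_smul (V := V)).2 fun v => by
  have h := dl_mem_Rg (V := V) x v
  rw [e, AddSubgroup.mem_bot, sub_eq_zero] at h
  exact h)

variable (hh : Hyp V H p)
include hh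

/-- Mirrors are involutions. -/
theorem IsMir.sq {x : H} (hx : IsMir V x) : x * x = 1 := by
  obtain ⟨v, hv⟩ : ∃ v, v ∉ Fx V x := by
    by_contra! hc
    exact Fx_ne_top hx.ne_one (eq_top_iff.2 fun v _ => hc v)
  obtain ⟨σ, hσ, h1, h2⟩ := hh.swap (Fx V x : Set V) (g := x)
    ((mem_fixingSubgroup_iff H).2 fun s hs => mem_Fx.1 hs) v
  rw [mem_fixingSubgroup_iff] at hσ
  have e : x⁻¹ * σ = 1 := hx.eq_one
    (fun s hs => mem_Fx.2 (by rw [mul_smul, hσ s hs, inv_smul_eq_iff, mem_Fx.1 hs])) hv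
    (by rw [mul_smul, h1, inv_smul_smul])
  rw [inv_mul_eq_one] at e
  subst e
  exact hx.eq_one (fun s hs => mem_Fx.2 (by rw [mul_smul, mem_Fx.1 hs, mem_Fx.1 hs])) hv
    (by rw [mul_smul]; exact h2)

theorem IsMir.smul_smul_self {x : H} (hx : IsMir V x) (v : V) : x • x • v = v := by
  rw [← mul_smul, hx.sq hh, one_smul]

/-- The basic restriction on the colours around a mirror. -/
theorem IsMir.not_rel {x : H} (hx : IsMir V x) {a b : V} (ha : a ∉ Fx V x) (hb : b ∉ Fx V x) :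
    ¬ Rel H (a - b) (x • a - b) := by
  intro hab
  obtain ⟨g, hg, hga⟩ := hh.point (insert b (Fx V x : Set V)) (v := a) (w := x • a) ⟨x, rfl⟩ (by
    rintro s (rfl | hs)
    · exact hab
    · exact ⟨x, by rw [smul_sub, mem_Fx.1 hs]⟩)
  rw [mem_fixingSubgroup_iff] at hg
  have := hx.eq_one (fun s hs => mem_Fx.2 (hg s (Set.mem_insert_of_mem _ hs))) hb
    (hg b (Set.mem_insert _ _))
  rw [this, one_smul] at hga
  exact ha (mem_Fx.2 hga.symm)

theorem Hyp.neg_eq (h2 : p = 2) (v : V) : -v = v := by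
  refine neg_eq_of_add_eq_zero_left ?_
  rw [← two_nsmul, ← h2]
  exact hh.tor v

theorem Hyp.Rg_le_Fx (h2 : p = 2) {x : H} (hx : x * x = 1) : Rg V x ≤ Fx V x := fun u hu =>
  mem_Fx.2 (by rw [smul_neg_of_mem_Rg hx hu, hh.neg_eq h2])

theorem Hyp.disjoint_Fx_Rg [Fact p.Prime] (h2 : p ≠ 2) {x : H} (hx : x * x = 1) {v : V}
    (h1 : v ∈ Fx V x) (h3 : v ∈ Rg V x) : v = 0 := by
  refine hh.eq_zero_of_add_self h2 ?_
  have := smul_neg_of_mem_Rg hx h3
  rw [mem_Fx.1 h1, eq_neg_iff_add_eq_zero] at this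
  exact this

theorem Hyp.mem_Rg_of_neg [Fact p.Prime] (h2 : p ≠ 2) {x : H} {u : V} (hu : x • u = -u) : u ∈ Rg V x := by
  refine ⟨-(((p + 1) / 2) • u), ?_⟩
  rw [dl_apply, smul_neg, smul_comm, hu, smul_neg, neg_neg, sub_neg_eq_add]
  exact hh.two_nsmul_half h2 u

/-- Vectors of the same colour in the root space of a mirror. -/
theorem IsMir.orbit [Fact p.Prime] {x : H} (hx : IsMir V x) {u u' : V} (hu : u ∈ Rg V x)
    (hu' : u' ∈ Rg V x) (hr : Rel H u u') : u' = u ∨ p ≠ 2 ∧ u' = -u := by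
  by_contra! hc
  obtain ⟨hne, hneg⟩ := hc
  have hxu := smul_neg_of_mem_Rg (hx.sq hh) hu
  have hxu' := smul_neg_of_mem_Rg (hx.sq hh) hu'
  by_cases h2 : p = 2
  · obtain ⟨a, ha⟩ := add_mem hu hu'
    rw [dl_apply, sub_eq_iff_eq_add] at ha
    have hau : a ∉ Fx V x := fun h => hne (by
      rw [mem_Fx.1 h, right_eq_add, add_eq_zero_iff_eq_neg, hh.neg_eq h2] at ha
      exact ha.symm)
    have huW : u ∈ Fx V x := hh.Rg_le_Fx h2 (hx.sq hh) hu
    refine hx.not_rel hh hau (b := a + u) (fun h => hau ((add_mem_cancel_right huW).1 h)) ?_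
    rw [ha, show a - (a + u) = -u by abel, show u + u' + a - (a + u) = u' by abel, hh.neg_eq h2]
    exact hr
  · set c := (p + 1) / 2
    have hc' : ∀ w : V, c • w + c • w = w := hh.two_nsmul_half h2
    have hz : ∀ w : V, x • w = -w → c • w ∈ Fx V x → w = 0 := fun w hw h => by
      have h3 : c • w = 0 := hh.eq_zero_of_add_self h2 (by
        have h4 := mem_Fx.1 h
        rw [smul_comm, hw, smul_neg] at h4
        exact add_eq_zero_iff_neg_eq.2 h4)
      rw [← hc' w, h3, add_zero]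
    refine hx.not_rel hh (a := c • (u - u')) (b := -(c • (u + u'))) (fun h => hne ?_) (fun h => hneg h2 ?_) ?_
    · have := hz _ (by rw [smul_sub, hxu, hxu']; abel) h
      exact (sub_eq_zero.1 this).symm
    · have := hz _ (by rw [smul_add, hxu, hxu']; abel) (neg_mem_iff.1 h)
      exact eq_neg_of_add_eq_zero_right this
    · have e1 : c • (u - u') - -(c • (u + u')) = u := by
        rw [nsmul_sub, nsmul_add]
        calc c • u - c • u' - -(c • u + c • u') = c • u + c • u := by abel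
          _ = u := hc' u
      have e2 : x • (c • (u - u')) - -(c • (u + u')) = u' := by
        rw [smul_comm, smul_sub, hxu, hxu', nsmul_sub, nsmul_add, smul_neg, smul_neg]
        calc -(c • u) - -(c • u') - -(c • u + c • u') = c • u' + c • u' := by abel
          _ = u' := hc' u'
      rwa [e1, e2]

/-- A centraliser of a mirror acts by a sign on its root space. -/
theorem IsMir.sign [Fact p.Prime] {x c : H} (hx : IsMir V x) (hc : Commute c x) :
    (∀ u ∈ Rg V x, c • u = u) ∨ p ≠ 2 ∧ ∀ u ∈ Rg V x, c • u = -u := by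
  have key : ∀ u ∈ Rg V x, c • u = u ∨ p ≠ 2 ∧ c • u = -u := fun u hu =>
    hx.orbit hh hu (smul_mem_Rg_of_commute hc hu) ⟨c, rfl⟩
  by_cases h2 : p = 2
  · exact Or.inl fun u hu => (key u hu).resolve_right fun h => h.1 h2
  by_contra! hne
  obtain ⟨⟨u1, hu1, h1⟩, h⟩ := hne
  obtain ⟨u2, hu2, h3⟩ := h h2
  have e1 := ((key u1 hu1).resolve_left h1).2
  have e2 := (key u2 hu2).resolve_right fun hh' => h3 hh'.2
  rcases key _ (add_mem hu1 hu2) with e | ⟨-, e⟩ <;> rw [smul_add, e1, e2] at e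
  · refine h1 ?_
    have : u1 = 0 := hh.eq_zero_of_add_self h2 (by
      have e' := add_right_cancel e
      exact add_eq_zero_iff_neg_eq.2 e')
    rw [this, smul_zero]
  · refine h3 ?_
    have : u2 = 0 := hh.eq_zero_of_add_self h2 (by
      rw [neg_add] at e
      exact add_eq_zero_iff_eq_neg.2 (add_left_cancel e))
    rw [this, smul_zero, neg_zero]

/-- Two commuting mirrors: each fixes the root space of the other. -/
theorem IsMir.comm_le [Fact p.Prime] {x y : H} (hx : IsMir V x) (hy : IsMir V y) (hxy : Commute x y)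
    (hne : x ≠ y) : Rg V x ≤ Fx V y := by
  rcases hx.sign hh hxy.symm with h | ⟨h2, h⟩
  · exact fun u hu => mem_Fx.2 (h u hu)
  exfalso
  have h1 : Rg V x ≤ Rg V y := fun u hu => hh.mem_Rg_of_neg h2 (h u hu)
  rcases hy.sign hh hxy with h' | ⟨-, h'⟩
  · refine Rg_ne_bot (V := V) hx.ne_one ((AddSubgroup.eq_bot_iff_forall _).2 fun u hu => ?_)
    exact hh.disjoint_Fx_Rg h2 (hx.sq hh) (mem_Fx.2 (h' u (h1 hu))) hu
  · have heq : Rg V x = Rg V y := le_antisymm h1 fun u hu => hh.mem_Rg_of_neg h2 (h' u hu)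
    have hW : Fx V x ≤ Fx V y := fun v hv => mem_Fx.2 (sub_eq_zero.1
      (hh.disjoint_Fx_Rg h2 (hx.sq hh)
        (sub_mem (smul_mem_Fx_of_commute hxy.symm hv) hv) (heq ▸ dl_mem_Rg y v)))
    obtain ⟨u, hu, hu0⟩ := (Rg V x).bot_or_exists_ne_zero.resolve_left (Rg_ne_bot hx.ne_one)
    have huW : u ∉ Fx V x := fun h0 => hu0 (hh.disjoint_Fx_Rg h2 (hx.sq hh) h0 hu)
    have e : x * y = 1 := hx.eq_one
      (fun v hv => Fx_inf_le x y (AddSubgroup.mem_inf.2 ⟨hv, hW hv⟩)) huW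
      (by rw [mul_smul, h u hu, smul_neg, smul_neg_of_mem_Rg (hx.sq hh) hu, neg_neg])
    have e' := eq_inv_of_mul_eq_one_left e
    rw [inv_eq_of_mul_eq_one_left (hy.sq hh)] at e'
    exact hne e'

omit hh in
/-- Elements fixing each other's root spaces commute. -/
theorem commute_of_le {x y : H} (h1 : Rg V x ≤ Fx V y) (h2 : Rg V y ≤ Fx V x) : Commute x y := by
  refine eq_of_smul_eq_smul fun v : V => ?_
  have e1 := mem_Fx.1 (h2 (dl_mem_Rg y v))
  have e2 := mem_Fx.1 (h1 (dl_mem_Rg x v))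
  rw [smul_sub, sub_eq_iff_eq_add] at e1 e2
  rw [mul_smul, mul_smul, e1, e2]
  abel

omit hh

section Conj

variable (V) in
/-- Transport of a subgroup by an element. -/
def tr (k : H) (T : AddSubgroup V) : AddSubgroup V := T.map (DistribSMul.toAddMonoidHom V k)

theorem mem_tr {k : H} {T : AddSubgroup V} {v : V} : v ∈ tr V k T ↔ k⁻¹ • v ∈ T := by
  rw [tr, AddSubgroup.mem_map]
  constructor
  · rintro ⟨w, hw, rfl⟩
    simpa using hw
  · exact fun h => ⟨_, h, smul_inv_smul k v⟩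

theorem smul_mem_tr {k : H} {T : AddSubgroup V} {v : V} (h : v ∈ T) : k • v ∈ tr V k T :=
  mem_tr.2 (by rwa [inv_smul_smul])

theorem card_tr (k : H) (T : AddSubgroup V) : Nat.card (tr V k T) = Nat.card T :=
  (Nat.card_congr (T.equivMapOfInjective (DistribSMul.toAddMonoidHom V k)
    (MulAction.injective k)).toEquiv).symm

theorem tr_mono {k : H} {T T' : AddSubgroup V} (h : T ≤ T') : tr V k T ≤ tr V k T' :=
  AddSubgroup.map_mono h

theorem tr_eq_self {k : H} {T : AddSubgroup V} (h : T ≤ Fx V k) : tr V k T = T := by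
  ext v
  rw [mem_tr]
  constructor
  · intro hv
    have := mem_Fx.1 (h hv)
    rw [smul_inv_smul] at this
    rwa [← this] at hv
  · intro hv
    rwa [inv_smul_eq_iff.2 (mem_Fx.1 (h hv)).symm]

theorem tr_tr (j k : H) (T : AddSubgroup V) : tr V j (tr V k T) = tr V (j * k) T := by
  ext v
  rw [mem_tr, mem_tr, mem_tr, mul_inv_rev, mul_smul]

theorem tr_one (T : AddSubgroup V) : tr V (1 : H) T = T := tr_eq_self (by rw [Fx_one]; exact le_top)

theorem Fx_conj' (g k : H) : Fx V (k * g * k⁻¹) = tr V k (Fx V g) := by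
  ext v; rw [Fx_conj, mem_tr]

theorem Rg_conj' (g k : H) : Rg V (k * g * k⁻¹) = tr V k (Rg V g) := by
  ext v; rw [Rg_conj, mem_tr]

theorem IsMir.conj {x : H} (hx : IsMir V x) (k : H) : IsMir V (k * x * k⁻¹) := by
  refine ⟨fun e => hx.ne_one (conj_eq_one_iff.1 e), fun g hg hle => ?_⟩
  have h1 := hx.2 (k⁻¹ * g * k⁻¹⁻¹) (fun e => hg (conj_eq_one_iff.1 e))
    (fun v hv => by
      rw [Fx_conj, inv_inv]
      exact hle (by rw [Fx_conj]; simpa using hv))
  rw [Fx_conj' x k, ← h1, Fx_conj', tr_tr, mul_inv_cancel, tr_one]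

end Conj

section Count

theorem card_prod_le {A B M : AddSubgroup V} (hA : A ≤ M) (hB : B ≤ M) (h : A ⊓ B = ⊥) :
    Nat.card A * Nat.card B ≤ Nat.card M := by
  rw [← Nat.card_prod]
  refine Nat.card_le_card_of_injective (fun x : A × B => (⟨x.1 + x.2, add_mem (hA x.1.2) (hB x.2.2)⟩ : M))
    fun x y e => ?_
  have e' : (x.1 : V) + x.2 = y.1 + y.2 := congrArg Subtype.val e
  have h0 : (x.1 : V) - y.1 ∈ A ⊓ B := AddSubgroup.mem_inf.2 ⟨sub_mem x.1.2 y.1.2, by
    rw [show (x.1 : V) - y.1 = y.2 - x.2 by rw [sub_eq_sub_iff_add_eq_add, e', add_comm]]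
    exact sub_mem y.2.2 x.2.2⟩
  rw [h, AddSubgroup.mem_bot, sub_eq_zero] at h0
  rw [h0, add_right_inj] at e'
  exact Prod.ext (Subtype.ext h0) (Subtype.ext e')

theorem card_sum_inter {A B M : AddSubgroup V} (hA : A ≤ M) (hB : B ≤ M) :
    Nat.card A * Nat.card B ≤ Nat.card M * Nat.card (A ⊓ B : AddSubgroup V) := by
  let f : A × B →+ V := A.subtype.coprod B.subtype
  have h1 : Nat.card (A × B) = Nat.card f.range * Nat.card f.ker := by
    rw [← Nat.card_congr (QuotientAddGroup.quotientKerEquivRange f).toEquiv]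
    exact AddSubgroup.card_eq_card_quotient_mul_card_addSubgroup f.ker
  have h2 : f.range ≤ M := by
    rintro - ⟨⟨a, b⟩, rfl⟩
    exact add_mem (hA a.2) (hB b.2)
  have h3 : Nat.card f.ker ≤ Nat.card (A ⊓ B : AddSubgroup V) := by
    refine Nat.card_le_card_of_injective (fun x => (⟨((x : A × B).1 : V), AddSubgroup.mem_inf.2 ⟨(x : A × B).1.2, ?_⟩⟩ :
      (A ⊓ B : AddSubgroup V))) fun x y e => ?_
    · have hx : ((x : A × B).1 : V) + (x : A × B).2 = 0 := x.2
      rw [eq_neg_of_add_eq_zero_left hx]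
      exact neg_mem (x : A × B).2.2
    · have hx : ((x : A × B).1 : V) + (x : A × B).2 = 0 := x.2
      have hy : ((y : A × B).1 : V) + (y : A × B).2 = 0 := y.2
      have e1 : ((x : A × B).1 : V) = (y : A × B).1 :=
        congrArg (fun z : (A ⊓ B : AddSubgroup V) => (z : V)) e
      rw [e1, ← hy, add_right_inj] at hx
      exact Subtype.ext (Prod.ext (Subtype.ext e1) (Subtype.ext hx))
  rw [← Nat.card_prod, h1]
  exact Nat.mul_le_mul (AddSubgroup.card_le_of_le h2) h3

/-- Averaging: a vector fixed by a group of order prime to `p` is not moved to. -/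
theorem Hyp.avg_disjoint (hh : Hyp V H p) (K : Subgroup H) (hco : (Nat.card K).Coprime p) {t : V}
    (hK : ∀ k ∈ K, k • t = t) (hM : t ∈ ⨆ k ∈ K, Rg V k) : t = 0 := by
  classical
  have : Fintype K := Fintype.ofFinite K
  let E : V →+ V := ∑ k : K, DistribSMul.toAddMonoidHom V (k : H)
  have hE : ∀ v, E v = ∑ k : K, (k : H) • v := fun v => by simp [E]
  have hker : (⨆ k ∈ K, Rg V k) ≤ E.ker := iSup₂_le fun k hk => by
    rintro - ⟨v, rfl⟩
    rw [AddMonoidHom.mem_ker, dl_apply, map_sub, sub_eq_zero, hE, hE]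
    refine Fintype.sum_equiv (Equiv.mulRight (⟨k, hk⟩ : K)) _ _ fun j => ?_
    rw [Equiv.coe_mulRight, Subgroup.coe_mul, mul_smul]
  have h1 : E t = Nat.card K • t := by
    rw [hE, Finset.sum_congr rfl fun (k : K) _ => hK (k : H) k.2, Finset.sum_const, Finset.card_univ, Nat.card_eq_fintype_card]
  have h2 : Nat.card K • t = 0 := h1 ▸ AddMonoidHom.mem_ker.1 (hker hM)
  have h4 : addOrderOf t ∣ Nat.gcd (Nat.card K) p :=
    Nat.dvd_gcd (addOrderOf_dvd_iff_nsmul_eq_zero.2 h2) (addOrderOf_dvd_iff_nsmul_eq_zero.2 (hh.tor t))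
  rw [hco.gcd_eq_one, Nat.dvd_one, AddMonoid.addOrderOf_eq_one_iff] at h4
  exact h4

theorem Hyp.card_coprime_odd [hp : Fact p.Prime] (hh : Hyp V H p) (h2 : p ≠ 2) (K : Subgroup H) :
    (Nat.card K).Coprime p := by
  refine Nat.Coprime.symm ((Nat.Prime.coprime_iff_not_dvd hp.out).2 fun hd => ?_)
  obtain ⟨g, hg⟩ := exists_prime_orderOf_dvd_card' p hd
  have := hh.coprime_odd h2 (g : H)
  rw [Subgroup.orderOf_coe, hg, Nat.coprime_self] at this
  exact hp.out.one_lt.ne' this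

end Count

section PencilDef

variable (H) in
/-- A pencil: the stabiliser of `T` is not of exponent two, but all smaller ones are. -/
structure Pencil (T : AddSubgroup V) : Prop where
  ne : ∃ g : H, T ≤ Fx V g ∧ g * g ≠ 1
  step : ∀ (g : H) (b : V), T ≤ Fx V g → b ∉ T → g • b = b → g * g = 1

/-- The mirrors of a pencil. -/
def IsMem (T : AddSubgroup V) (x : H) : Prop := IsMir V x ∧ T ≤ Fx V x

theorem exists_pencil {g : H} (hg : g * g ≠ 1) : ∃ T : AddSubgroup V, Pencil H T ∧ Fx V g ≤ T := by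
  classical
  have : Fintype H := Fintype.ofFinite H
  obtain ⟨k, hk, hmax⟩ := Finset.exists_max_image
    (Finset.univ.filter fun k : H => k * k ≠ 1 ∧ Fx V g ≤ Fx V k) (fun k => Nat.card (Fx V k))
    ⟨g, by simp [hg]⟩
  simp only [Finset.mem_filter, Finset.mem_univ, true_and] at hk hmax
  refine ⟨Fx V k, ⟨⟨k, le_rfl, hk.1⟩, fun j b hj hb hjb => ?_⟩, hk.2⟩
  by_contra hj2
  exact hb ((AddSubgroup.eq_of_le_of_card_ge hj (hmax j ⟨hj2, hk.2.trans hj⟩)) ▸ mem_Fx.2 hjb)

theorem Pencil.Fx_eq {T : AddSubgroup V} (hT : Pencil H T) {g : H} (hg : T ≤ Fx V g) (h2 : g * g ≠ 1) :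
    Fx V g = T :=
  le_antisymm (fun b hb => by
    by_contra hbT
    exact h2 (hT.step g b hg hbT (mem_Fx.1 hb))) hg

theorem Pencil.conj {T : AddSubgroup V} (hT : Pencil H T) (k : H) : Pencil H (tr V k T) := by
  obtain ⟨g, hg, hg2⟩ := hT.ne
  refine ⟨⟨k * g * k⁻¹, by rw [Fx_conj']; exact tr_mono hg, fun e => hg2 ?_⟩, fun j b hj hb hjb => ?_⟩
  · simpa [mul_assoc] using congrArg (fun z => k⁻¹ * z * k) e
  · have h := hT.step (k⁻¹ * j * k⁻¹⁻¹) (k⁻¹ • b)
      (by
        rw [Fx_conj']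
        calc T = tr V k⁻¹ (tr V k T) := by rw [tr_tr, inv_mul_cancel, tr_one]
          _ ≤ tr V k⁻¹ (Fx V j) := tr_mono hj)
      (fun h => hb (mem_tr.2 h)) (by simp [mul_smul, hjb])
    simpa [mul_assoc] using congrArg (fun z => k * z * k⁻¹) h

theorem IsMem.conj {T : AddSubgroup V} {x : H} (hx : IsMem T x) (k : H) :
    IsMem (tr V k T) (k * x * k⁻¹) :=
  ⟨hx.1.conj k, by rw [Fx_conj']; exact tr_mono hx.2⟩

theorem IsMem.conj_self {T : AddSubgroup V} {x k : H} (hx : IsMem T x) (hk : T ≤ Fx V k) :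
    IsMem T (k * x * k⁻¹) := by
  simpa [tr_eq_self hk] using hx.conj k

theorem Pencil.exists_mem (hh : Hyp V H p) {T : AddSubgroup V} (hT : Pencil H T) {v : V} (hv : v ∉ T) :
    ∃ x : H, IsMem T x ∧ x • v = v := by
  obtain ⟨g, hg, hg2⟩ := hT.ne
  by_contra! hc
  refine hg2 (hh.sq_of_regular (T : Set V) (v := v) (fun j hj hjv => ?_)
    ((mem_fixingSubgroup_iff H).2 fun s hs => mem_Fx.1 (hg hs)))
  by_contra hj1
  obtain ⟨m, hm, hle⟩ := exists_mir (V := V) hj1
  exact hc m ⟨hm, fun s hs => hle (mem_Fx.2 ((mem_fixingSubgroup_iff H).1 hj s hs))⟩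
    (mem_Fx.1 (hle (mem_Fx.2 hjv)))

end PencilDef

end Cfsg.Agent.BinAff
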