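import Cfsg.Agent.Lib.BinAff.Pair

/-!
# Binary affine groups in odd characteristic: pencils
-/

set_option autoImplicit false
set_option linter.unusedSectionVars false

namespace Cfsg.Agent.BinAff

variable {V : Type*} [AddCommGroup V] [Finite V] {H : Type*} [Group H] [Finite H] [DistribMulAction H V]
  [FaithfulSMul H V] {p : ℕ}

variable (hh : Hyp V H p)
include hh

/-- The root spaces of a pencil avoid its base, in odd characteristic. -/
theorem Hyp.span_odd [Fact p.Prime] (h2 : p ≠ 2) (T : AddSubgroup V) : Mov V H T ⊓ T = ⊥ := by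
  refine (AddSubgroup.eq_bot_iff_forall _).2 fun t ht => ?_
  obtain ⟨h1, h3⟩ := AddSubgroup.mem_inf.1 ht
  refine hh.avg_disjoint (fixingSubgroup H (T : Set V)) (hh.card_coprime_odd h2 _)
    (fun k hk => (mem_fixingSubgroup_iff H).1 hk t h3) ?_
  have hle : Mov V H T ≤ ⨆ k ∈ fixingSubgroup H (T : Set V), Rg V k :=
    iSup₂_le fun x hx => le_iSup₂ (f := fun k (_ : k ∈ fixingSubgroup H (T : Set V)) => Rg V k) x
      ((mem_fixingSubgroup_iff H).2 fun s hs => mem_Fx.1 (hx.2 hs))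
  exact hle h1

/-- Commutation of involutions read on their product. -/
theorem IsMir.commute_iff {x y : H} (hx : IsMir V x) (hy : IsMir V y) :
    x * y * (x * y) = 1 ↔ Commute x y := by
  constructor
  · intro h
    have := eq_inv_of_mul_eq_one_left h
    rwa [mul_inv_rev, inv_eq_of_mul_eq_one_right (hx.sq hh), inv_eq_of_mul_eq_one_right (hy.sq hh)] at this
  · intro h
    rw [mul_assoc, ← mul_assoc y, ← h.eq, mul_assoc x y y, hy.sq hh, mul_one, hx.sq hh]

/-- Some pair of members of a pencil does not commute. -/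
theorem Pencil.exists_noncomm [Fact p.Prime] (h2 : p ≠ 2) {T : AddSubgroup V} (hT : Pencil H T) :
    ∃ x y : H, IsMem T x ∧ IsMem T y ∧ ¬ Commute x y := by
  classical
  have : Fintype V := Fintype.ofFinite V
  have : Fintype H := Fintype.ofFinite H
  by_contra! hall
  obtain ⟨v0, hv0⟩ : ∃ v, v ∉ T := by
    by_contra! hc
    exact hT.ne_top (eq_top_iff.2 fun v _ => hc v)
  obtain ⟨v, hv, hmin⟩ := Finset.exists_min_image (Finset.univ.filter fun v : V => v ∉ T)
    (fun v => (Finset.univ.filter fun x : H => IsMem T x ∧ x • v = v).card) ⟨v0, by simp [hv0]⟩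
  simp only [Finset.mem_filter, Finset.mem_univ, true_and] at hv hmin
  obtain ⟨m, hm, hmv⟩ := hT.exists_mem hh hv
  obtain ⟨w, hw, hw0⟩ := (Rg V m).bot_or_exists_ne_zero.resolve_left (Rg_ne_bot hm.1.ne_one)
  have hwW : w ∉ Fx V m := fun h => hw0 (hh.disjoint_Fx_Rg h2 (hm.1.sq hh) h hw)
  have hv' : v + w ∉ T := fun h => hwW ((add_mem_cancel_left (mem_Fx.2 hmv)).1 (hm.2 h))
  have hsub : (Finset.univ.filter fun x : H => IsMem T x ∧ x • (v + w) = v + w) ⊂
      Finset.univ.filter fun x : H => IsMem T x ∧ x • v = v := by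
    rw [Finset.ssubset_iff_of_subset]
    · refine ⟨m, by simp [hm, hmv], ?_⟩
      simp only [Finset.mem_filter, Finset.mem_univ, true_and, not_and]
      exact fun _ h => hwW ((add_mem_cancel_left (mem_Fx.2 hmv)).1 (mem_Fx.2 h))
    · intro x hx
      simp only [Finset.mem_filter, Finset.mem_univ, true_and] at hx ⊢
      refine ⟨hx.1, ?_⟩
      by_cases hxm : m = x
      · rw [← hxm]; exact hmv
      · have := mem_Fx.1 (hm.1.comm_le hh hx.1.1 (hall m x hm hx.1) hxm hw)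
        have h3 := hx.2
        rw [smul_add, this] at h3
        exact add_right_cancel h3
  exact absurd (hmin _ hv') (not_le.2 (Finset.card_lt_card hsub))

/-- Two non-commuting members of a pencil. -/
theorem Pencil.pair_odd [Fact p.Prime] (h2 : p ≠ 2) {T : AddSubgroup V} (hT : Pencil H T) {x y : H}
    (hx : IsMem T x) (hy : IsMem T y) (hc : ¬ Commute x y) :
    Fx V (x * y) = T ∧ Fx V x ⊓ Fx V y = T ∧
    Nat.card (Rg V x) * Nat.card (Rg V y) = Nat.card (Rg V (x * y)) ∧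
    Nat.card (Fx V x) = Nat.card T * Nat.card (Rg V y) ∧
    Nat.card (Fx V y) = Nat.card T * Nat.card (Rg V x) ∧ Rg V x ≤ Rg V (x * y) := by
  have hF : Fx V (x * y) = T := hT.Fx_eq ((le_inf hx.2 hy.2).trans (Fx_inf_le x y))
    fun e => hc ((hx.1.commute_iff hh hy.1).1 e)
  obtain ⟨l1, -, l3, -, l5, l6, l7⟩ :=
    hh.pair (hx.1.sq hh) (hy.1.sq hh) (hh.coprime_odd h2 _) (hF.trans_le hx.2) (hF.trans_le hy.2)
  exact ⟨hF, l3.trans hF, l5, hF ▸ l6, hF ▸ l7, l1⟩

omit hh in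
theorem plus_aux {x y z : H} (hy : ∀ m, y • y • m = (m : V)) (hz : z = x * y * (x * y))
    (hcy : Commute y z) (hfix : Rg V z ≤ Fx V x) {m : V} (hm : m ∈ Rg V z) : z • m = m := by
  have h1 : y • m ∈ Rg V z := smul_mem_Rg_of_commute hcy hm
  conv_lhs => rw [hz]
  rw [mul_smul, mul_smul x y m, mem_Fx.1 (hfix h1), mul_smul, hy, mem_Fx.1 (hfix hm)]

/-- Non-commuting members have root spaces of one size. -/
theorem Pencil.card_Rg_eq [Fact p.Prime] (h2 : p ≠ 2) {T : AddSubgroup V} (hT : Pencil H T) {x y : H}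
    (hx : IsMem T x) (hy : IsMem T y) (hc : ¬ Commute x y) : Nat.card (Rg V x) = Nat.card (Rg V y) := by
  obtain ⟨hF, -, -, hWx, -, hUM⟩ := hT.pair_odd hh h2 hx hy hc
  have hxi : x⁻¹ = x := inv_eq_of_mul_eq_one_right (hx.1.sq hh)
  have hyi : y⁻¹ = y := inv_eq_of_mul_eq_one_right (hy.1.sq hh)
  obtain ⟨g, hg⟩ : ∃ g, g = x * y := ⟨_, rfl⟩
  have hy' : IsMem T (g * x * g⁻¹) := hx.conj_self (hg ▸ hF.ge)
  have hxg : x * g * x = g⁻¹ := by rw [hg, ← mul_assoc x x y, hx.1.sq hh, one_mul, mul_inv_rev, hxi, hyi]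
  have hgg : g * g ≠ 1 := fun e => hc ((hx.1.commute_iff hh hy.1).1 (hg ▸ e))
  suffices Nat.card (Fx V (g * x * g⁻¹)) = Nat.card T * Nat.card (Rg V x) by
    rw [Fx_conj', card_tr, hWx] at this
    exact (Nat.eq_of_mul_eq_mul_left Nat.card_pos this).symm
  by_cases h4 : g * g * (g * g) = 1
  · obtain ⟨z, hz⟩ : ∃ z, z = g * g := ⟨_, rfl⟩
    rw [← hz] at h4 hgg
    have hzi : z⁻¹ = z := inv_eq_of_mul_eq_one_right h4
    have hzx : Commute x z := by
      have : x * z * x = z := by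
        calc x * z * x = (x * g * x) * (x * g * x) := by
              rw [hz, ← mul_assoc (x * g * x), ← mul_assoc (x * g * x), mul_assoc (x * g) x x, hx.1.sq hh,
                mul_one, ← mul_assoc x g g]
          _ = z := by rw [hxg, ← mul_inv_rev, ← hz, hzi]
      show x * z = z * x
      rw [← mul_one (x * z), ← hx.1.sq hh, ← mul_assoc, this]
    have hzg : Commute g z := hz ▸ (Commute.refl g).mul_right (Commute.refl g)
    have hzy : Commute y z := by
      have e : y = x * g := by rw [hg, ← mul_assoc, hx.1.sq hh, one_mul]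
      rw [e]
      exact hzx.mul_left hzg
    have hzT : T ≤ Fx V z := hz ▸ (le_inf (hg ▸ hF.ge) (hg ▸ hF.ge)).trans (Fx_inf_le g g)
    by_cases hFz : Fx V z = T
    · have hco := hh.coprime_odd h2 g
      have hneg : ∀ m ∈ Rg V g, z • m = -m := fun m hm => by
        refine eq_neg_of_add_eq_zero_left (hh.disjoint_of_coprime hco ?_
          (add_mem (smul_mem_Rg_of_commute hzg.symm hm) hm))
        rw [hg, hF, ← hFz, mem_Fx, smul_add, ← mul_smul, h4, one_smul, add_comm]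
      have hxM : ∀ m ∈ Rg V g, x • m ∈ Rg V g := fun m hm => smul_mem_Rg_of_inverts (by
        rw [← hxg, mul_assoc (x * g), hx.1.sq hh, mul_one]) hm
      have e : g * x * g⁻¹ = z * x := by
        rw [hz, ← hxg]
        calc g * x * (x * g * x) = g * (x * x) * g * x := by group
          _ = g * g * x := by rw [hx.1.sq hh, mul_one]
      rw [e]
      obtain ⟨-, hcard, -⟩ := hh.split_fix (f := z * x) hco
        (hg ▸ hF.trans_le ((le_inf hzT hx.2).trans (Fx_inf_le z x))) fun m hm => by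
          rw [mul_smul]; exact smul_mem_Rg_of_commute hzg.symm (hxM m hm)
      have hinter : Fx V (z * x) ⊓ Rg V g = Rg V x := le_antisymm (fun m hm => by
          obtain ⟨h1, h3⟩ := AddSubgroup.mem_inf.1 hm
          rw [mem_Fx, mul_smul, hneg _ (hxM m h3), neg_eq_iff_eq_neg] at h1
          exact hh.mem_Rg_of_neg h2 h1)
        fun u hu => AddSubgroup.mem_inf.2 ⟨by
          rw [mem_Fx, mul_smul, smul_neg_of_mem_Rg (hx.1.sq hh) hu, smul_neg, hneg u (hg ▸ hUM hu), neg_neg],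
          hg ▸ hUM hu⟩
      rw [hcard, hinter, hg, hF]
    · exfalso
      have hzne : Rg V z ≠ ⊥ := Rg_ne_bot hgg
      have hkill : ∀ {a b : H}, IsMem T a → IsMem T b → Commute a z → Commute b z →
          z = a * b * (a * b) → ¬ (∀ u ∈ Rg V a, z • u = u) := by
        intro a b ha hb hca hcb hab h
        refine hzne ((AddSubgroup.eq_bot_iff_forall _).2 fun m hm => hh.disjoint_Fx_Rg h2 h4
          (mem_Fx.2 (plus_aux (hb.1.smul_smul_self hh) hab hcb (fun m hm => mem_Fx.2 ?_) hm)) hm)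
        refine sub_eq_zero.1 (hh.disjoint_Fx_Rg h2 h4 (mem_Fx.2 (h _ (dl_mem_Rg a m))) ?_)
        exact sub_mem (smul_mem_Rg_of_commute hca hm) hm
      have hz' : z = y * x * (y * x) := by
        rw [← hzi, hz, hg, mul_inv_rev (x * y), mul_inv_rev x y, hxi, hyi]
      have hnx := ((hx.1.sign hh hzx.symm).resolve_left (hkill hx hy hzx hzy (by rw [hz, hg]))).2
      have hny := ((hy.1.sign hh hzy.symm).resolve_left (hkill hy hx hzy hzx hz')).2
      refine hFz (le_antisymm (fun v hv => ?_) hzT)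
      rw [← hF]
      refine Fx_inf_le x y (AddSubgroup.mem_inf.2 ?_)
      have key : ∀ {a : H}, Commute a z → (∀ u ∈ Rg V a, z • u = -u) → v ∈ Fx V a := fun {a} hca h =>
        mem_Fx.2 (sub_eq_zero.1 (hh.disjoint_Fx_Rg h2 h4 (sub_mem (smul_mem_Fx_of_commute hca hv) hv)
          (hh.mem_Rg_of_neg h2 (h _ (dl_mem_Rg a v)))))
      exact ⟨key hzx hnx, key hzy hny⟩
  · have e : x * (g * x * g⁻¹) = (g * g)⁻¹ := by
      rw [mul_inv_rev, ← mul_assoc, ← mul_assoc, hxg]
    have hnc : ¬ Commute x (g * x * g⁻¹) := fun h => h4 (by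
      have := ((hx.1.commute_iff hh hy'.1).2 h)
      rw [e, ← mul_inv_rev, inv_eq_one] at this
      exact this)
    exact (hT.pair_odd hh h2 hx hy' hnc).2.2.2.2.1

/-- The shape of a pencil in odd characteristic. -/
theorem Pencil.data_odd [Fact p.Prime] (h2 : p ≠ 2) {T : AddSubgroup V} (hT : Pencil H T) :
    ∃ q, PData H p T q := by
  classical
  obtain ⟨x0, y0, hx0, hy0, hc0⟩ := hT.exists_noncomm hh h2
  have hsp := hh.span_odd h2 T
  have hRT : ∀ {z : H} {u : V}, IsMem T z → u ∈ Rg V z → u ∈ T → u = 0 := fun hz h1 h3 => by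
    have := AddSubgroup.mem_inf.2 ⟨Rg_le_Mov hz h1, h3⟩
    rwa [hsp, AddSubgroup.mem_bot] at this
  have hpart : ∀ z : H, IsMem T z → ¬ Commute z x0 ∨ ¬ Commute z y0 := by
    intro z hz
    by_contra! hc
    obtain ⟨h1, h3⟩ := hc
    have hzx : z ≠ x0 := fun e => hc0 (e ▸ h3)
    have hzy : z ≠ y0 := fun e => hc0 (e ▸ h1).symm
    obtain ⟨u, hu, hu0⟩ := (Rg V z).bot_or_exists_ne_zero.resolve_left (Rg_ne_bot hz.1.ne_one)
    refine hu0 (hRT hz hu ?_)
    rw [← (hT.pair_odd hh h2 hx0 hy0 hc0).2.1]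
    exact AddSubgroup.mem_inf.2 ⟨hz.1.comm_le hh hx0.1 h1 hzx hu, hz.1.comm_le hh hy0.1 h3 hzy hu⟩
  have hq : ∀ z : H, IsMem T z → Nat.card (Rg V z) = Nat.card (Rg V x0) := by
    intro z hz
    rcases hpart z hz with h | h
    · exact hT.card_Rg_eq hh h2 hz hx0 h
    · exact (hT.card_Rg_eq hh h2 hz hy0 h).trans (hT.card_Rg_eq hh h2 hx0 hy0 hc0).symm
  have hfx : ∀ z : H, IsMem T z → Nat.card (Fx V z) = Nat.card T * Nat.card (Rg V x0) := by
    intro z hz
    rcases hpart z hz with h | h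
    · rw [(hT.pair_odd hh h2 hz hx0 h).2.2.2.1]
    · rw [(hT.pair_odd hh h2 hz hy0 h).2.2.2.1, hq y0 hy0]
  obtain ⟨hF, -, hM, -⟩ := hT.pair_odd hh h2 hx0 hy0 hc0
  have hV : Nat.card V = Nat.card T * (Nat.card (Rg V x0) * Nat.card (Rg V x0)) := by
    rw [← card_Fx_mul_Rg (V := V) (x0 * y0), hF, ← hM, hq y0 hy0]
  have hmeet : ∀ x y : H, IsMem T x → IsMem T y → x ≠ y → Fx V x ⊓ Fx V y = T := by
    intro x y hx hy hne
    by_cases hc : Commute x y
    · have hW : Fx V x = T ⊔ Rg V y := by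
        refine (AddSubgroup.eq_of_le_of_card_ge (sup_le hx.2 (hy.1.comm_le hh hx.1 hc.symm hne.symm)) ?_).symm
        rw [hfx x hx, ← hq y hy]
        exact card_prod_le le_sup_left le_sup_right ((AddSubgroup.eq_bot_iff_forall _).2 fun v hv =>
          hRT hy (AddSubgroup.mem_inf.1 hv).2 (AddSubgroup.mem_inf.1 hv).1)
      refine le_antisymm (fun v hv => ?_) (le_inf hx.2 hy.2)
      obtain ⟨h1, h3⟩ := AddSubgroup.mem_inf.1 hv
      rw [hW] at h1
      obtain ⟨a, ha, b, hb, rfl⟩ := AddSubgroup.mem_sup.1 h1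
      rw [hh.disjoint_Fx_Rg h2 (hy.1.sq hh) ((add_mem_cancel_left (hy.2 ha)).1 h3) hb, add_zero]
      exact ha
    · exact (hT.pair_odd hh h2 hx hy hc).2.1
  refine ⟨_, PData.mk' hh hT hV hq hfx hmeet hsp (fun h => absurd h h2) (fun _ x hx => ?_)
    ⟨x0, y0, hx0, hy0, hc0⟩⟩
  obtain ⟨u, hu, hu0⟩ := (Rg V x).bot_or_exists_ne_zero.resolve_left (Rg_ne_bot hx.1.ne_one)
  have huT : u ∉ T := fun h => hu0 (hRT hx hu h)
  obtain ⟨m, hm, hmu⟩ := hT.exists_mem hh huT
  have hxu := smul_neg_of_mem_Rg (hx.1.sq hh) hu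
  refine ⟨m, hm, fun e => hu0 (hh.disjoint_Fx_Rg h2 (hx.1.sq hh) (e ▸ mem_Fx.2 hmu) hu), ?_⟩
  have hm' := hm.conj_self hx.2
  have hm'u : (x * m * x⁻¹) • u = u := by
    rw [inv_eq_of_mul_eq_one_right (hx.1.sq hh), mul_smul, mul_smul, hxu, smul_neg, hmu, smul_neg, hxu, neg_neg]
  have e : x * m * x⁻¹ = m := by
    by_contra hne
    exact huT (hmeet _ _ hm' hm hne ▸ AddSubgroup.mem_inf.2 ⟨mem_Fx.2 hm'u, mem_Fx.2 hmu⟩)
  exact mul_inv_eq_iff_eq_mul.1 e

end Cfsg.Agent.BinAff
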