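import Cfsg.Agent.Lib.BinAff.PencilTwo
import Cfsg.Agent.Lib.BinAff.PencilOdd

/-!
# Binary affine groups: moving a pencil

If a pencil with non-trivial base exists in an irreducible group, some mirror of a second pencil fails to commute
with a member of the first one; the configurations with the largest intersection are rigid.
-/

set_option autoImplicit false
set_option linter.unusedSectionVars false

namespace Cfsg.Agent.BinAff

variable {V : Type*} [AddCommGroup V] [Finite V] {H : Type*} [Group H] [Finite H] [DistribMulAction H V]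
  [FaithfulSMul H V] {p : ℕ} [Fact p.Prime]

theorem Pencil.data (hh : Hyp V H p) {T : AddSubgroup V} (hT : Pencil H T) : ∃ q, PData H p T q := by
  by_cases h2 : p = 2
  · exact hT.data_two hh h2
  · exact hT.data_odd hh h2

/-- A mirror belonging to some pencil. -/
def PM (V : Type*) [AddCommGroup V] {H : Type*} [Group H] [DistribMulAction H V] (x : H) : Prop :=
  ∃ T : AddSubgroup V, Pencil H T ∧ IsMem T x

theorem PData.three {T : AddSubgroup V} {q : ℕ} (D : PData H p T q) (a b : H) :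
    ∃ z : H, IsMem T z ∧ z ≠ a ∧ z ≠ b := by
  classical
  by_contra! hc
  have : Nat.card {x : H // IsMem T x} ≤ Nat.card ({a, b} : Finset H) := by
    refine Nat.card_le_card_of_injective (fun x => ⟨x.1, ?_⟩) fun x y e => Subtype.ext (congrArg (fun z : ({a, b} : Finset H) => (z : H)) e)
    rw [Finset.mem_insert, Finset.mem_singleton]
    by_cases h : (x : H) = a
    · exact Or.inl h
    · exact Or.inr (hc x x.2 h)
  rw [D.count, Nat.card_eq_fintype_card, Fintype.card_coe] at this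
  have h2 : ({a, b} : Finset H).card ≤ 2 := Finset.card_le_two
  have := D.one_lt
  omega

/-- A mirror commuting with all members of a pencil it does not belong to. -/
theorem PData.of_commute_all (hh : Hyp V H p) {T : AddSubgroup V} {q : ℕ} (D : PData H p T q) {x : H}
    (hx : IsMir V x) (hnot : ¬ IsMem T x) (hc : ∀ k : H, IsMem T k → Commute x k) :
    Rg V x ≤ T ∧ Mov V H T ≤ Fx V x := by
  refine ⟨?_, iSup₂_le fun k hk => hk.1.comm_le hh hx (hc k hk).symm fun e => hnot (e ▸ hk)⟩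
  obtain ⟨k, k', hk, hk', hne⟩ := D.exists_noncomm
  have hkk : k ≠ k' := fun e => hne (e ▸ Commute.refl k)
  rw [← D.meet k k' hk hk' hkk]
  exact le_inf (hx.comm_le hh hk.1 (hc k hk) fun e => hnot (e ▸ hk))
    (hx.comm_le hh hk'.1 (hc k' hk') fun e => hnot (e ▸ hk'))

theorem PData.Mov_ne_bot {T : AddSubgroup V} {q : ℕ} (D : PData H p T q) : Mov V H T ≠ ⊥ := by
  intro e
  have := D.card_Mov
  rw [e, AddSubgroup.card_bot] at this
  have := D.one_lt
  nlinarith

/-- Two pencils with two common members coincide. -/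
theorem PData.eq_of_two {T T' : AddSubgroup V} {q q' : ℕ} (D : PData H p T q) (D' : PData H p T' q')
    {x y : H} (hx : IsMem T x) (hy : IsMem T y) (hx' : IsMem T' x) (hy' : IsMem T' y) (hne : x ≠ y) :
    T = T' := by
  rw [← D.meet x y hx hy hne, D'.meet x y hx' hy' hne]

/-- The three ways a second pencil can sit with respect to a first one. -/
theorem PData.trichotomy (hh : Hyp V H p) {T T' : AddSubgroup V} {q q' : ℕ} (D : PData H p T q)
    (D' : PData H p T' q') (hall : ∀ n : H, IsMem T' n → ¬ IsMem T n → ∀ k, IsMem T k → Commute n k) :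
    T' = T ∨ Mov V H T' ≤ T ∧ Mov V H T ≤ T' := by
  by_cases h : ∃ n : H, IsMem T' n ∧ IsMem T n
  · left
    obtain ⟨n, hn', hn⟩ := h
    by_contra hne
    have hout : ∀ z, IsMem T' z → z ≠ n → ¬ IsMem T z := fun z hz hzn hz' =>
      hne (D.eq_of_two D' hz' hn hz hn' hzn).symm
    obtain ⟨a, ha, han, -⟩ := D'.three n n
    obtain ⟨b, hb, hbn, hba⟩ := D'.three n a
    exact hba (D'.perp_unique n b a hn' hb ha hbn.symm han.symm (hall b hb (hout b hb hbn) n hn).symm
      (hall a ha (hout a ha han) n hn).symm)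
  · right
    push Not at h
    have hr := fun n (hn : IsMem T' n) => D.of_commute_all hh hn.1 (h n hn) (hall n hn (h n hn))
    refine ⟨iSup₂_le fun n hn => (hr n hn).1, ?_⟩
    obtain ⟨a, b, ha, hb, hab⟩ := D'.exists_noncomm
    rw [← D'.meet a b ha hb fun e => hab (e ▸ Commute.refl a)]
    exact le_inf (hr a ha).2 (hr b hb).2

theorem Mov_tr (k : H) (T : AddSubgroup V) : tr V k (Mov V H T) ≤ Mov V H (tr V k T) := by
  rw [tr, AddSubgroup.map_le_iff_le_comap]
  refine iSup₂_le fun x hx u hu => ?_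
  exact Rg_le_Mov (hx.conj k) (by rw [Rg_conj']; exact smul_mem_tr hu)

/-- Some mirror of a pencil fails to commute with a member of another pencil. -/
theorem exists_candidate (hh : Hyp V H p)
    (hirr : ∀ W : AddSubgroup V, (∀ h : H, ∀ w ∈ W, h • w ∈ W) → W = ⊥ ∨ W = ⊤)
    {T : AddSubgroup V} (hT : Pencil H T) (hT0 : T ≠ ⊥) :
    ∃ (T' : AddSubgroup V) (y k : H), Pencil H T' ∧ PM V y ∧ ¬ IsMem T' y ∧ IsMem T' k ∧ ¬ Commute y k := by
  classical
  have : Fintype H := Fintype.ofFinite H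
  obtain ⟨q, D⟩ := hT.data hh
  by_contra! hno
  have hcl : ∀ g : H, tr V g T = T ∨ tr V g (Mov V H T) ≤ T := by
    intro g
    obtain ⟨q', D'⟩ := (hT.conj g).data hh
    rcases D.trichotomy hh D' (fun n hn hnT k hk => hno T n k hT ⟨_, hT.conj g, hn⟩ hnT hk) with h | h
    · exact Or.inl h
    · exact Or.inr ((Mov_tr g T).trans h.1)
  obtain ⟨g0, hg0⟩ : ∃ g : H, tr V g T ≠ T := by
    by_contra! hc
    rcases hirr T (fun h w hw => hc h ▸ smul_mem_tr hw) with e | e
    · exact hT0 e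
    · exact hT.ne_top e
  obtain ⟨g, hg, hmax⟩ := Finset.exists_max_image (Finset.univ.filter fun g : H => tr V g T ≠ T)
    (fun g => Nat.card (Fx V g)) ⟨g0, by simp [hg0]⟩
  simp only [Finset.mem_filter, Finset.mem_univ, true_and] at hg hmax
  obtain ⟨a, ha, ha0⟩ := (Mov V H T).bot_or_exists_ne_zero.resolve_left D.Mov_ne_bot
  have hmv : ∀ {τ : H}, τ • a ∈ T → tr V τ T ≠ T := fun {τ} hτ e => by
    have h1 : τ • a ∈ Mov V H T := by
      have := Mov_tr τ T (smul_mem_tr ha)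
      rwa [e] at this
    have h0 := D.mov_T h1 hτ
    rw [smul_eq_zero_iff_eq] at h0
    exact ha0 h0
  have hga : g • a ∈ T := (hcl g).resolve_left hg (smul_mem_tr ha)
  obtain ⟨σ0, hσ0, h1, h3⟩ := hh.swap (Fx V g : Set V) (g := g)
    ((mem_fixingSubgroup_iff H).2 fun s hs => mem_Fx.1 hs) a
  obtain ⟨k, m, hm, hkm⟩ := Nat.exists_eq_two_pow_mul_odd (orderOf_pos σ0).ne'
  obtain ⟨σ, hσdef⟩ : ∃ σ, σ = σ0 ^ m := ⟨_, rfl⟩
  have hσ2 : σ ^ 2 ^ k = 1 := by rw [hσdef, ← pow_mul, mul_comm, ← hkm, pow_orderOf_eq_one]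
  have hσS : Fx V g ≤ Fx V σ := fun s hs => mem_Fx.2 (hσdef ▸
    (mem_fixingSubgroup_iff H).1 (Subgroup.pow_mem _ hσ0 m) s hs)
  have hσa : σ • a = g • a ∧ σ • σ • a = a := by
    have hfix : ∀ j : ℕ, (σ0 ^ (2 * j)) • a = a := by
      intro j
      induction j with
      | zero => simp
      | succ j ih => rw [Nat.mul_succ, pow_add, mul_smul, pow_two, mul_smul, h1, h3, ih]
    obtain ⟨j, rfl⟩ := hm
    constructor
    · rw [hσdef, pow_succ', mul_smul, hfix, h1]
    · rw [hσdef, ← mul_smul, ← pow_add, show 2 * j + 1 + (2 * j + 1) = 2 * (2 * j + 1) by ring, hfix]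
  obtain ⟨hσa, hσσa⟩ := hσa
  have hσT : tr V σ T ≠ T := hmv (hσa.symm ▸ hga)
  have hFσ : Fx V g = Fx V σ := AddSubgroup.eq_of_le_of_card_ge hσS (hmax σ hσT)
  have hσM : ∀ c ∈ Mov V H T, σ • c ∈ T := fun c hc => (hcl σ).resolve_left hσT (smul_mem_tr hc)
  have hσ2T : tr V (σ * σ) T = T := by
    by_contra hne
    have := (hcl (σ * σ)).resolve_left hne (smul_mem_tr ha)
    rw [mul_smul, hσσa] at this
    exact ha0 (D.mov_T ha this)
  have haT : a ∉ T := fun h => ha0 (D.mov_T ha h)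
  obtain ⟨h, hh1, hha⟩ := hT.exists_mem hh haT
  have hcomm : Commute (σ * σ) h := by
    have hc := hh1.conj (σ * σ)
    rw [hσ2T] at hc
    have e : σ * σ * h * (σ * σ)⁻¹ = h := by
      by_contra hne
      refine haT (D.meet _ h hc hh1 hne ▸ AddSubgroup.mem_inf.2 ⟨?_, mem_Fx.2 hha⟩)
      rw [Fx_conj, mem_Fx, show (σ * σ)⁻¹ • a = a by rw [inv_smul_eq_iff, mul_smul, hσσa], hha]
    exact mul_inv_eq_iff_eq_mul.1 e
  have hfixT : ∀ t ∈ T, h • t = t := fun t ht => mem_Fx.1 (hh1.2 ht)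
  have hhM : ∀ c ∈ Mov V H T, h • c ∈ Mov V H T := fun c hc => smul_mem_Mov hh1.2 hc
  obtain ⟨c, hc, hhc, hcc⟩ : ∃ c ∈ Mov V H T, h • c ≠ c ∧ (σ • σ • c = c ∨ σ • σ • c = h • c) := by
    by_cases h2 : p = 2
    · obtain ⟨c, hc, hhc⟩ : ∃ c ∈ Mov V H T, h • c ≠ c := by
        by_contra! hall
        exact hh1.1.ne_one (D.eq_one hh1.2 fun v hv => mem_Fx.2 (hall v hv))
      refine ⟨c, hc, hhc, Or.inl ?_⟩
      rw [← mul_smul, hh.sq_of_two_pow h2 hσ2, one_smul]
    · obtain ⟨c, hc, hc0⟩ := (Rg V h).bot_or_exists_ne_zero.resolve_left (Rg_ne_bot hh1.1.ne_one)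
      have hneg := smul_neg_of_mem_Rg (hh1.1.sq hh) hc
      refine ⟨c, Rg_le_Mov hh1 hc, fun e => hc0 (hh.disjoint_Fx_Rg h2 (hh1.1.sq hh) (mem_Fx.2 e) hc), ?_⟩
      rw [← mul_smul, hneg]
      rcases hh1.1.sign hh hcomm with e | ⟨-, e⟩
      · exact Or.inl (e c hc)
      · exact Or.inr (e c hc)
  have hh2 : h • h • c = c := hh1.1.smul_smul_self hh c
  have hbS : σ • c + h • c ∉ Fx V g := by
    rw [hFσ, mem_Fx, smul_add]
    intro e
    have hM : σ • σ • c ∈ Mov V H T := by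
      rcases hcc with e' | e' <;> rw [e']
      · exact hc
      · exact hhM c hc
    have e2 : σ • σ • c - h • c = σ • c - σ • h • c := by
      rw [sub_eq_sub_iff_add_eq_add, e, add_comm]
    have e3 := D.mov_T (sub_mem hM (hhM c hc)) (e2 ▸ sub_mem (hσM c hc) (hσM _ (hhM c hc)))
    rw [e2, sub_eq_zero, smul_left_cancel_iff] at e3
    exact hhc e3.symm
  obtain ⟨τ, hτ, hτa⟩ := hh.point (insert (σ • c + h • c) (Fx V g : Set V)) (v := a) (w := σ • a) ⟨σ, rfl⟩ (by
    rintro s (rfl | hs)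
    · have hσc := hfixT _ (hσM c hc)
      have hσa' := hfixT _ (hσM a ha)
      rcases hcc with e' | e'
      · refine ⟨h * σ * h, ?_⟩
        rw [mul_smul, mul_smul, smul_sub h a, smul_add h, hha, hσc, hh2, smul_sub σ a, smul_add σ, e',
          smul_sub h, smul_add h, hσa', hσc]
        abel
      · refine ⟨σ * h, ?_⟩
        rw [mul_smul, smul_sub h a, smul_add h, hha, hσc, hh2, smul_sub σ a, smul_add σ, e']
        abel
    · exact ⟨σ, by rw [smul_sub, mem_Fx.1 (hσS hs)]⟩)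
  rw [mem_fixingSubgroup_iff] at hτ
  have hτT : tr V τ T ≠ T := hmv (hτa.symm ▸ hσM a ha)
  have hle : Fx V g ≤ Fx V τ := fun s hs => mem_Fx.2 (hτ s (Set.mem_insert_of_mem _ hs))
  exact hbS (AddSubgroup.eq_of_le_of_card_ge hle (hmax τ hτT) ▸ mem_Fx.2 (hτ _ (Set.mem_insert _ _)))

/-- A pencil `T1` and an outside mirror `x` not commuting with all of it, with the largest intersection. -/
structure Conf (H : Type*) [Group H] [DistribMulAction H V] (p : ℕ) (T1 : AddSubgroup V) (x : H) (q : ℕ) :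
    Prop where
  pen : Pencil H T1
  data : PData H p T1 q
  pm : PM V x
  out : ¬ IsMem T1 x
  noncomm : ∃ k, IsMem T1 k ∧ ¬ Commute x k
  max : ∀ (T' : AddSubgroup V) (y k : H), Pencil H T' → PM V y → ¬ IsMem T' y → IsMem T' k →
    ¬ Commute y k → Nat.card (Fx V y ⊓ T' : AddSubgroup V) ≤ Nat.card (Fx V x ⊓ T1 : AddSubgroup V)

theorem exists_conf (hh : Hyp V H p)
    (hirr : ∀ W : AddSubgroup V, (∀ h : H, ∀ w ∈ W, h • w ∈ W) → W = ⊥ ∨ W = ⊤)
    {T : AddSubgroup V} (hT : Pencil H T) (hT0 : T ≠ ⊥) :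
    ∃ (T1 : AddSubgroup V) (x : H) (q : ℕ), Conf H p T1 x q := by
  classical
  have : Finite (AddSubgroup V) := Finite.of_injective (fun S => (S : Set V)) SetLike.coe_injective
  have : Fintype (AddSubgroup V × H) := Fintype.ofFinite _
  obtain ⟨T', y, k, hc⟩ := exists_candidate hh hirr hT hT0
  obtain ⟨⟨T1, x⟩, hm, hmax⟩ := Finset.exists_max_image
    (Finset.univ.filter fun a : AddSubgroup V × H =>
      Pencil H a.1 ∧ PM V a.2 ∧ ¬ IsMem a.1 a.2 ∧ ∃ k, IsMem a.1 k ∧ ¬ Commute a.2 k)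
    (fun a => Nat.card (Fx V a.2 ⊓ a.1 : AddSubgroup V))
    ⟨(T', y), by simp only [Finset.mem_filter, Finset.mem_univ, true_and]; exact ⟨hc.1, hc.2.1, hc.2.2.1, k, hc.2.2.2⟩⟩
  simp only [Finset.mem_filter, Finset.mem_univ, true_and] at hm hmax
  obtain ⟨q, D⟩ := hm.1.data hh
  exact ⟨T1, x, q, hm.1, D, hm.2.1, hm.2.2.1, hm.2.2.2,
    fun T' y k h1 h2 h3 h4 h5 => hmax (T', y) ⟨h1, h2, h3, k, h4, h5⟩⟩

theorem PM.mir {x : H} (hx : PM V x) : IsMir V x := by
  obtain ⟨T, -, h⟩ := hx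
  exact h.1

namespace Conf

variable {T1 : AddSubgroup V} {x : H} {q : ℕ} (hh : Hyp V H p) (C : Conf H p T1 x q)
include hh C

/-- Non-commuting mirrors with a large common fixed space lie in one pencil. -/
theorem line {y y' : H} (hy : PM V y) (hy' : PM V y') (hc : ¬ Commute y y')
    (hlt : Nat.card (Fx V x ⊓ T1 : AddSubgroup V) < Nat.card (Fx V y ⊓ Fx V y' : AddSubgroup V)) :
    Pencil H (Fx V y ⊓ Fx V y') := by
  have hne : y ≠ y' := fun e => hc (e ▸ Commute.refl y)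
  obtain ⟨T', hT', hle⟩ := exists_pencil (V := V) (g := y * y')
    (fun e => hc ((hy.mir.commute_iff hh hy'.mir).1 e))
  have hle' : Fx V y ⊓ Fx V y' ≤ T' := (Fx_inf_le y y').trans hle
  obtain ⟨q', D'⟩ := hT'.data hh
  have hcom : ∀ (z w : H), PM V z → Fx V y ⊓ Fx V y' ≤ Fx V z → ¬ IsMem T' z → IsMem T' w → Commute z w := by
    intro z w hz hzle hznot hw
    by_contra hzw
    exact absurd (C.max T' z w hT' hz hznot hw hzw)
      (not_le.2 (hlt.trans_le (AddSubgroup.card_le_of_le (le_inf hzle hle'))))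
  by_cases h1 : IsMem T' y <;> by_cases h2 : IsMem T' y'
  · rw [D'.meet y y' h1 h2 hne]; exact hT'
  · exact absurd (hcom y' y hy' inf_le_right h2 h1).symm hc
  · exact absurd (hcom y y' hy inf_le_left h1 h2) hc
  · refine absurd ((AddSubgroup.eq_bot_iff_forall _).2 fun v hv => D'.mov_T hv (hle'
      (AddSubgroup.mem_inf.2 ⟨?_, ?_⟩))) D'.Mov_ne_bot
    · exact (D'.of_commute_all hh hy.mir h1 fun k hk => hcom y k hy inf_le_left h1 hk).2 hv
    · exact (D'.of_commute_all hh hy'.mir h2 fun k hk => hcom y' k hy' inf_le_right h2 hk).2 hv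

theorem lt_T1 : Nat.card (Fx V x ⊓ T1 : AddSubgroup V) < Nat.card T1 := by
  refine lt_of_le_of_ne (AddSubgroup.card_le_of_le inf_le_right) fun e => C.out ⟨C.pm.mir, ?_⟩
  exact inf_eq_right.1 (AddSubgroup.eq_of_le_of_card_ge inf_le_right e.ge)

/-- The outside mirror commutes with at most one member. -/
theorem comm_unique {k k' : H} (hk : IsMem T1 k) (hk' : IsMem T1 k') (c : Commute x k) (c' : Commute x k') :
    k = k' := by
  by_contra hne
  obtain ⟨l, hl, hxl⟩ := C.noncomm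
  have hxk : x ≠ k := fun e => C.out (e ▸ hk)
  have hxk' : x ≠ k' := fun e => C.out (e ▸ hk')
  have hU : Rg V x ≤ T1 := by
    rw [← C.data.meet k k' hk hk' hne]
    exact le_inf (C.pm.mir.comm_le hh hk.1 c hxk) (C.pm.mir.comm_le hh hk'.1 c' hxk')
  have hM : Mov V H T1 ≤ Fx V x := by
    rw [C.data.Mov_eq hk hk' hne]
    exact sup_le (hk.1.comm_le hh C.pm.mir c.symm hxk.symm) (hk'.1.comm_le hh C.pm.mir c'.symm hxk'.symm)
  exact hxl (commute_of_le (hU.trans hl.2) ((Rg_le_Mov hl).trans hM))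

/-- The line through the outside mirror and a member. -/
theorem exists_line : ∃ k, IsMem T1 k ∧ Pencil H (Fx V x ⊓ Fx V k) ∧ ¬ Commute x k := by
  by_contra! hc
  have hsmall : ∀ k, IsMem T1 k → ¬ Commute x k → Fx V x ⊓ Fx V k ≤ T1 := by
    intro k hk hxk v hv
    have hle : Fx V x ⊓ T1 ≤ Fx V x ⊓ Fx V k := inf_le_inf_left _ hk.2
    have heq := AddSubgroup.eq_of_le_of_card_ge hle (not_lt.1 fun hlt =>
      hxk (hc k hk (C.line hh C.pm ⟨T1, C.pen, hk⟩ hxk hlt)))
    rw [← heq] at hv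
    exact (AddSubgroup.mem_inf.1 hv).2
  obtain ⟨l, hl, hxl⟩ := C.noncomm
  by_cases hj : ∃ j, IsMem T1 j ∧ Commute x j
  · obtain ⟨j, hj, hxj⟩ := hj
    have hle : Fx V x ≤ Fx V j := by
      intro v hv
      by_cases hvT : v ∈ T1
      · exact hj.2 hvT
      obtain ⟨k, hk, hkv⟩ := C.pen.exists_mem hh hvT
      by_cases hxk : Commute x k
      · rw [C.comm_unique hh hj hk hxj hxk]; exact mem_Fx.2 hkv
      · exact absurd (hsmall k hk hxk (AddSubgroup.mem_inf.2 ⟨hv, mem_Fx.2 hkv⟩)) hvT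
    exact C.out ⟨C.pm.mir, (C.pm.mir.2 j hj.1.ne_one hle) ▸ hj.2⟩
  · push Not at hj
    have hle : Fx V x ≤ T1 := by
      intro v hv
      by_contra hvT
      obtain ⟨k, hk, hkv⟩ := C.pen.exists_mem hh hvT
      exact hvT (hsmall k hk (hj k hk) (AddSubgroup.mem_inf.2 ⟨hv, mem_Fx.2 hkv⟩))
    have e := C.pm.mir.2 l hl.1.ne_one (hle.trans hl.2)
    exact C.out ⟨C.pm.mir, e ▸ hl.2⟩

theorem card_x : Nat.card (Rg V x) = q ∧ Nat.card (Fx V x) = Nat.card T1 * q := by
  obtain ⟨k, hk, hL, -⟩ := C.exists_line hh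
  obtain ⟨q', D'⟩ := hL.data hh
  have hxL : IsMem (Fx V x ⊓ Fx V k) x := ⟨C.pm.mir, inf_le_left⟩
  have hkL : IsMem (Fx V x ⊓ Fx V k) k := ⟨hk.1, inf_le_right⟩
  have hq : q' = q := by rw [← D'.rg k hkL, C.data.rg k hk]
  exact ⟨hq ▸ D'.rg x hxL, by rw [D'.fx x hxL, ← D'.fx k hkL, C.data.fx k hk]⟩

theorem card_le_base : Nat.card T1 ≤ Nat.card (Fx V x ⊓ T1 : AddSubgroup V) * q := by
  have h := card_sum_inter (A := T1) (B := Fx V x) (M := (⊤ : AddSubgroup V)) le_top le_top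
  rw [AddSubgroup.card_top, C.data.card, (C.card_x hh).2, inf_comm T1] at h
  have hq : 0 < q := by have := C.data.one_lt; omega
  refine Nat.le_of_mul_le_mul_left (c := Nat.card T1 * q) ?_ (Nat.mul_pos Nat.card_pos hq)
  calc Nat.card T1 * q * Nat.card T1 = Nat.card T1 * (Nat.card T1 * q) := by ring
    _ ≤ Nat.card T1 * (q * q) * Nat.card (Fx V x ⊓ T1 : AddSubgroup V) := h
    _ = Nat.card T1 * q * (Nat.card (Fx V x ⊓ T1 : AddSubgroup V) * q) := by ring

/-- Every non-commuting member spans a pencil with the outside mirror. -/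
theorem line_all {k : H} (hk : IsMem T1 k) (hxk : ¬ Commute x k) : Pencil H (Fx V x ⊓ Fx V k) := by
  refine C.line hh C.pm ⟨T1, C.pen, hk⟩ hxk ((C.lt_T1 hh).trans_le ?_)
  have h := card_sum_inter (A := Fx V x) (B := Fx V k) (M := (⊤ : AddSubgroup V)) le_top le_top
  rw [AddSubgroup.card_top, C.data.card, (C.card_x hh).2, C.data.fx k hk] at h
  have hq : 0 < q := by have := C.data.one_lt; omega
  refine Nat.le_of_mul_le_mul_left (c := Nat.card T1 * (q * q)) ?_ (Nat.mul_pos Nat.card_pos (Nat.mul_pos hq hq))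
  calc Nat.card T1 * (q * q) * Nat.card T1 = Nat.card T1 * q * (Nat.card T1 * q) := by ring
    _ ≤ _ := h

/-- A candidate with at least the same intersection has the same parameters. -/
theorem of_candidate {T0 : AddSubgroup V} {q0 : ℕ} {n k : H} (hT0 : Pencil H T0) (D0 : PData H p T0 q0)
    (hn : PM V n) (hnot : ¬ IsMem T0 n) (hk : IsMem T0 k) (hnk : ¬ Commute n k)
    (hge : Fx V x ⊓ T1 ≤ Fx V n ⊓ T0) :
    Nat.card (Rg V n) = q0 ∧ Nat.card (Fx V n) = Nat.card T0 * q0 ∧ Fx V n ⊓ T0 = Fx V x ⊓ T1 := by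
  have heq := AddSubgroup.eq_of_le_of_card_ge hge (C.max T0 n k hT0 hn hnot hk hnk)
  have C0 : Conf H p T0 n q0 := ⟨hT0, D0, hn, hnot, ⟨k, hk, hnk⟩, fun T' y l h1 h2 h3 h4 h5 =>
    (C.max T' y l h1 h2 h3 h4 h5).trans (le_of_eq (by rw [← heq]))⟩
  exact ⟨(C0.card_x hh).1, (C0.card_x hh).2, heq.symm⟩

/-- All pencils above the intersection have the parameters of the first one. -/
theorem all_pencils {T' : AddSubgroup V} (hT' : Pencil H T') (hle : Fx V x ⊓ T1 ≤ T') :
    Nat.card T' = Nat.card T1 ∧ PData H p T' q := by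
  obtain ⟨k, hk, hL, hxk⟩ := C.exists_line hh
  obtain ⟨qL, DL⟩ := hL.data hh
  obtain ⟨q', D'⟩ := hT'.data hh
  have hxL : IsMem (Fx V x ⊓ Fx V k) x := ⟨C.pm.mir, inf_le_left⟩
  have hkL : IsMem (Fx V x ⊓ Fx V k) k := ⟨hk.1, inf_le_right⟩
  have hqL : qL = q := by rw [← DL.rg k hkL, C.data.rg k hk]
  subst hqL
  have hq : 0 < qL := by have := C.data.one_lt; omega
  have hcL : Nat.card (Fx V x ⊓ Fx V k : AddSubgroup V) = Nat.card T1 :=
    Nat.eq_of_mul_eq_mul_right hq (by rw [← DL.fx k hkL, C.data.fx k hk])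
  suffices hfin : ∀ T0 : AddSubgroup V, Pencil H T0 → PData H p T0 qL → Nat.card T0 = Nat.card T1 →
      Fx V x ⊓ T1 ≤ T0 → (Nat.card T' = Nat.card T1 ∧ PData H p T' qL) ∨ Mov V H T' ≤ T0 by
    rcases hfin T1 C.pen C.data rfl inf_le_right with h | h1
    · exact h
    rcases hfin _ hL DL hcL (le_inf inf_le_left (inf_le_right.trans hk.2)) with h | h2
    · exact h
    refine absurd ((AddSubgroup.eq_bot_iff_forall _).2 fun v hv => D'.mov_T hv (hle
      (AddSubgroup.mem_inf.2 ⟨(AddSubgroup.mem_inf.1 (h2 hv)).1, h1 hv⟩))) D'.Mov_ne_bot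
  intro T0 hT0 D0 hc0 hle0
  by_cases hex : ∃ n j : H, IsMem T' n ∧ ¬ IsMem T0 n ∧ IsMem T0 j ∧ ¬ Commute n j
  · left
    obtain ⟨n, j, hn, hn0, hj, hnj⟩ := hex
    obtain ⟨h1, h2, -⟩ := C.of_candidate hh hT0 D0 ⟨T', hT', hn⟩ hn0 hj hnj (le_inf (hle.trans hn.2) hle0)
    have hq' : q' = qL := by rw [← D'.rg n hn, h1]
    subst hq'
    exact ⟨Nat.eq_of_mul_eq_mul_right hq (by rw [← D'.fx n hn, h2, hc0]), D'⟩
  · push Not at hex
    rcases D0.trichotomy hh D' (fun n hn hn0 j hj => hex n j hn hn0 hj) with e | ⟨h1, -⟩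
    · subst e; exact Or.inl ⟨hc0, D0⟩
    · exact Or.inr h1

end Conf

end Cfsg.Agent.BinAff
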