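import Cfsg.Agent.Lib.BinAff.Mirror

/-!
# Binary affine groups: two involutions of a pencil, and the shape of a pencil
-/

set_option autoImplicit false
set_option linter.unusedSectionVars false

namespace Cfsg.Agent.BinAff

variable {V : Type*} [AddCommGroup V] [Finite V] {H : Type*} [Group H] [Finite H] [DistribMulAction H V]
  [FaithfulSMul H V] {p : ℕ}

theorem smul_mem_Rg_of_inverts {f g : H} (h : f * g = g⁻¹ * f) {m : V} (hm : m ∈ Rg V g) :
    f • m ∈ Rg V g := by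
  obtain ⟨w, rfl⟩ := hm
  refine ⟨-(g⁻¹ • f • w), ?_⟩
  rw [dl_apply, dl_apply, smul_sub, ← mul_smul f g, h, mul_smul, smul_neg, smul_inv_smul]
  abel

variable (hh : Hyp V H p)
include hh

/-- An element fixing `Fx g` and preserving `Rg g` splits along them. -/
theorem Hyp.split_fix {g f : H} (hg : (orderOf g).Coprime p) (hT : Fx V g ≤ Fx V f)
    (hM : ∀ m ∈ Rg V g, f • m ∈ Rg V g) :
    Rg V f ≤ Rg V g ∧ Nat.card (Fx V f) = Nat.card (Fx V g) * Nat.card (Fx V f ⊓ Rg V g : AddSubgroup V) ∧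
    Nat.card (Fx V f ⊓ Rg V g : AddSubgroup V) * Nat.card (Rg V f) = Nat.card (Rg V g) := by
  have hR : Rg V f ≤ Rg V g := by
    rintro - ⟨v, rfl⟩
    obtain ⟨a, ha, m, hm, rfl⟩ := hh.exists_split hg v
    rw [map_add, dl_apply, mem_Fx.1 (hT ha), sub_self, zero_add, dl_apply]
    exact sub_mem (hM m hm) hm
  have hbij : Function.Bijective
      (fun x : Fx V g × (Fx V f ⊓ Rg V g : AddSubgroup V) =>
        (⟨x.1 + x.2, add_mem (hT x.1.2) (AddSubgroup.mem_inf.1 x.2.2).1⟩ : Fx V f)) := by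
    constructor
    · intro x y e
      have e' : (x.1 : V) + x.2 = y.1 + y.2 := congrArg Subtype.val e
      have h0 : (x.1 : V) - y.1 = 0 := hh.disjoint_of_coprime hg (sub_mem x.1.2 y.1.2) (by
        rw [show (x.1 : V) - y.1 = y.2 - x.2 by rw [sub_eq_sub_iff_add_eq_add, e', add_comm]]
        exact sub_mem (AddSubgroup.mem_inf.1 y.2.2).2 (AddSubgroup.mem_inf.1 x.2.2).2)
      rw [sub_eq_zero] at h0
      rw [h0, add_right_inj] at e'
      exact Prod.ext (Subtype.ext h0) (Subtype.ext e')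
    · rintro ⟨v, hv⟩
      obtain ⟨a, ha, m, hm, rfl⟩ := hh.exists_split hg v
      refine ⟨(⟨a, ha⟩, ⟨m, AddSubgroup.mem_inf.2 ⟨?_, hm⟩⟩), rfl⟩
      rw [← add_sub_cancel_left a m]
      exact sub_mem hv (hT ha)
  have h1 : Nat.card (Fx V f) = Nat.card (Fx V g) * Nat.card (Fx V f ⊓ Rg V g : AddSubgroup V) := by
    rw [← Nat.card_prod, Nat.card_congr (Equiv.ofBijective _ hbij)]
  refine ⟨hR, h1, ?_⟩
  have h2 := (card_Fx_mul_Rg (V := V) f).trans (card_Fx_mul_Rg (V := V) g).symm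
  rw [h1, mul_assoc] at h2
  exact Nat.eq_of_mul_eq_mul_left Nat.card_pos h2

/-- Two involutions whose product has order prime to `p` and whose fixed space they fix. -/
theorem Hyp.pair {x y : H} (hx : x * x = 1) (hy : y * y = 1) (hco : (orderOf (x * y)).Coprime p)
    (hxT : Fx V (x * y) ≤ Fx V x) (hyT : Fx V (x * y) ≤ Fx V y) :
    Rg V x ≤ Rg V (x * y) ∧ Rg V y ≤ Rg V (x * y) ∧ Fx V x ⊓ Fx V y = Fx V (x * y) ∧
    Rg V x ⊓ Rg V y = ⊥ ∧ Nat.card (Rg V x) * Nat.card (Rg V y) = Nat.card (Rg V (x * y)) ∧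
    Nat.card (Fx V x) = Nat.card (Fx V (x * y)) * Nat.card (Rg V y) ∧
    Nat.card (Fx V y) = Nat.card (Fx V (x * y)) * Nat.card (Rg V x) := by
  have hxi : x⁻¹ = x := inv_eq_of_mul_eq_one_right hx
  have hyi : y⁻¹ = y := inv_eq_of_mul_eq_one_right hy
  have e1 : x * (x * y) = (x * y)⁻¹ * x := by
    rw [mul_inv_rev, hxi, hyi, ← mul_assoc, hx, one_mul, mul_assoc, hx, mul_one]
  have e2 : y * (x * y) = (x * y)⁻¹ * y := by rw [mul_inv_rev, hxi, hyi, mul_assoc]
  obtain ⟨hUx, hWx, hmx⟩ := hh.split_fix hco hxT fun m hm => smul_mem_Rg_of_inverts e1 hm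
  obtain ⟨hUy, hWy, hmy⟩ := hh.split_fix hco hyT fun m hm => smul_mem_Rg_of_inverts e2 hm
  have hmeet : Fx V x ⊓ Fx V y = Fx V (x * y) := le_antisymm (Fx_inf_le x y) (le_inf hxT hyT)
  have hU : Rg V x ⊓ Rg V y = ⊥ := (AddSubgroup.eq_bot_iff_forall _).2 fun u hu => by
    obtain ⟨h1, h2⟩ := AddSubgroup.mem_inf.1 hu
    refine hh.disjoint_of_coprime hco ?_ (hUx h1)
    rw [mem_Fx, mul_smul, smul_neg_of_mem_Rg hy h2, smul_neg, smul_neg_of_mem_Rg hx h1, neg_neg]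
  have hW : (Fx V x ⊓ Rg V (x * y)) ⊓ (Fx V y ⊓ Rg V (x * y)) = ⊥ :=
    (AddSubgroup.eq_bot_iff_forall _).2 fun v hv => by
      obtain ⟨h1, h2⟩ := AddSubgroup.mem_inf.1 hv
      obtain ⟨h1, h3⟩ := AddSubgroup.mem_inf.1 h1
      exact hh.disjoint_of_coprime hco
        (Fx_inf_le x y (AddSubgroup.mem_inf.2 ⟨h1, (AddSubgroup.mem_inf.1 h2).1⟩)) h3
  have i1 := card_prod_le hUx hUy hU
  have i2 := card_prod_le (M := Rg V (x * y)) inf_le_right inf_le_right hW
  set m := Nat.card (Rg V (x * y))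
  set a := Nat.card (Rg V x)
  set b := Nat.card (Rg V y)
  set c := Nat.card (Fx V x ⊓ Rg V (x * y) : AddSubgroup V)
  set d := Nat.card (Fx V y ⊓ Rg V (x * y) : AddSubgroup V)
  have hm : 0 < m := Nat.card_pos
  have hprod : (a * b) * (c * d) = m * m := by
    calc (a * b) * (c * d) = (c * a) * (d * b) := by ring
      _ = m * m := by rw [hmx, hmy]
  have hab : a * b = m := le_antisymm i1 (by
    by_contra hlt
    have : (a * b) * (c * d) < m * m :=
      lt_of_le_of_lt (Nat.mul_le_mul_left _ i2) (Nat.mul_lt_mul_of_pos_right (not_le.1 hlt) hm)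
    exact this.ne hprod)
  have hca : c = b := by
    have : a * c = a * b := by rw [hab, mul_comm a c, hmx]
    exact Nat.eq_of_mul_eq_mul_left Nat.card_pos this
  have hdb : d = a := by
    have : b * d = b * a := by rw [mul_comm b a, hab, mul_comm b d, hmy]
    exact Nat.eq_of_mul_eq_mul_left Nat.card_pos this
  exact ⟨hUx, hUy, hmeet, hU, hab, hca ▸ hWx, hdb ▸ hWy⟩

omit hh

variable (V H) in
/-- The sum of the root spaces of a pencil. -/
def Mov (T : AddSubgroup V) : AddSubgroup V := ⨆ x : H, ⨆ _ : IsMem T x, Rg V x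

theorem Rg_le_Mov {T : AddSubgroup V} {x : H} (hx : IsMem T x) : Rg V x ≤ Mov V H T :=
  le_iSup₂ (f := fun (y : H) (_ : IsMem T y) => Rg V y) x hx

theorem smul_mem_Mov {T : AddSubgroup V} {k : H} (hk : T ≤ Fx V k) {v : V} (hv : v ∈ Mov V H T) :
    k • v ∈ Mov V H T := by
  have h : Mov V H T ≤ (Mov V H T).comap (DistribSMul.toAddMonoidHom V k) :=
    iSup₂_le fun x hx u hu => Rg_le_Mov (hx.conj_self hk) (by rw [Rg_conj']; exact smul_mem_tr hu)
  exact h hv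

/-- The shape of a pencil with parameter `q`. -/
structure PData (H : Type*) [Group H] [DistribMulAction H V] (p : ℕ) (T : AddSubgroup V) (q : ℕ) :
    Prop where
  one_lt : 1 < q
  card : Nat.card V = Nat.card T * (q * q)
  rg : ∀ x : H, IsMem T x → Nat.card (Rg V x) = q
  fx : ∀ x : H, IsMem T x → Nat.card (Fx V x) = Nat.card T * q
  meet : ∀ x y : H, IsMem T x → IsMem T y → x ≠ y → Fx V x ⊓ Fx V y = T
  span : Mov V H T ⊓ T = ⊥
  disj : ∀ x y : H, IsMem T x → IsMem T y → x ≠ y → Rg V x ⊓ Rg V y = ⊥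
  two : p = 2 → ∀ x y : H, IsMem T x → IsMem T y → Commute x y → x = y
  perp : p ≠ 2 → ∀ x : H, IsMem T x → ∃ y : H, IsMem T y ∧ y ≠ x ∧ Commute x y
  perp_unique : ∀ x y z : H, IsMem T x → IsMem T y → IsMem T z → x ≠ y → x ≠ z →
    Commute x y → Commute x z → y = z
  exists_noncomm : ∃ x y : H, IsMem T x ∧ IsMem T y ∧ ¬ Commute x y
  count : Nat.card {x : H // IsMem T x} = q + 1

theorem Pencil.ne_top {T : AddSubgroup V} (hT : Pencil H T) : T ≠ ⊤ := by
  obtain ⟨g, hg, hg2⟩ := hT.ne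
  rintro rfl
  refine hg2 ?_
  rw [(eq_one_iff_smul (V := V)).2 fun v => mem_Fx.1 (hg (AddSubgroup.mem_top v)), mul_one]

theorem Pencil.exists_two (hh : Hyp V H p) {T : AddSubgroup V} (hT : Pencil H T) :
    ∃ x : H, IsMem T x := by
  obtain ⟨v, hv⟩ : ∃ v, v ∉ T := by
    by_contra! hc
    exact hT.ne_top (eq_top_iff.2 fun v _ => hc v)
  obtain ⟨x, hx, -⟩ := hT.exists_mem hh hv
  exact ⟨x, hx⟩

theorem Pencil.count_of (hh : Hyp V H p) {T : AddSubgroup V} (hT : Pencil H T) {q : ℕ} (hq : 1 < q)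
    (hV : Nat.card V = Nat.card T * (q * q))
    (hfx : ∀ x : H, IsMem T x → Nat.card (Fx V x) = Nat.card T * q)
    (hmeet : ∀ x y : H, IsMem T x → IsMem T y → x ≠ y → Fx V x ⊓ Fx V y = T) :
    Nat.card {x : H // IsMem T x} = q + 1 := by
  classical
  have : Fintype V := Fintype.ofFinite V
  have : Fintype H := Fintype.ofFinite H
  have key : ∀ W : AddSubgroup V, T ≤ W →
      Nat.card {v : V // v ∈ W ∧ v ∉ T} + Nat.card T = Nat.card W := by
    intro W hW
    rw [← Nat.card_sum]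
    exact Nat.card_congr
      { toFun := Sum.elim (fun v => ⟨v, v.2.1⟩) (fun v => ⟨v, hW v.2⟩)
        invFun := fun v => if h : (v : V) ∈ T then Sum.inr ⟨v, h⟩ else Sum.inl ⟨v, v.2, h⟩
        left_inv := by
          rintro (⟨v, hv1, hv2⟩ | ⟨v, hv⟩) <;> simp [*]
        right_inv := fun v => by by_cases h : (v : V) ∈ T <;> simp [h] }
  have heq : (Σ x : {x : H // IsMem T x}, {v : V // v ∈ Fx V (x : H) ∧ v ∉ T}) ≃
      {v : V // v ∈ (⊤ : AddSubgroup V) ∧ v ∉ T} := by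
    refine Equiv.ofBijective (fun a => ⟨a.2.1, AddSubgroup.mem_top _, a.2.2.2⟩) ⟨?_, ?_⟩
    · rintro ⟨⟨x, hx⟩, v, hv1, hv2⟩ ⟨⟨y, hy⟩, w, hw1, hw2⟩ e
      have : v = w := congrArg Subtype.val e
      subst this
      have : x = y := by
        by_contra hne
        exact hv2 (hmeet x y hx hy hne ▸ AddSubgroup.mem_inf.2 ⟨hv1, hw1⟩)
      subst this
      rfl
    · rintro ⟨v, -, hv⟩
      obtain ⟨x, hx, hxv⟩ := hT.exists_mem hh hv
      exact ⟨⟨⟨x, hx⟩, v, mem_Fx.2 hxv, hv⟩, rfl⟩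
  have h1 := key ⊤ le_top
  rw [AddSubgroup.card_top, hV, ← Nat.card_congr heq, Nat.card_sigma] at h1
  have h2 : ∀ x : {x : H // IsMem T x},
      Nat.card {v : V // v ∈ Fx V (x : H) ∧ v ∉ T} = Nat.card T * (q - 1) := fun x => by
    have h3 := key (Fx V (x : H)) x.2.2
    rw [hfx x x.2] at h3
    rw [Nat.mul_sub, mul_one]
    omega
  rw [Finset.sum_congr rfl fun x _ => h2 x, Finset.sum_const, Finset.card_univ, smul_eq_mul,
    ← Nat.card_eq_fintype_card] at h1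
  have ht : 0 < Nat.card T := Nat.card_pos
  obtain ⟨r, rfl⟩ : ∃ r, q = r + 1 := ⟨q - 1, by omega⟩
  rw [Nat.add_sub_cancel] at h1
  have h4 : Nat.card T * (Nat.card {x : H // IsMem T x} * r + 1) = Nat.card T * ((r + 1) * (r + 1)) := by
    rw [← h1]; ring
  have h5 := Nat.eq_of_mul_eq_mul_left ht h4
  have h6 : Nat.card {x : H // IsMem T x} * r = (r + 1 + 1) * r := by
    have h7 : (r + 1) * (r + 1) = (r + 1 + 1) * r + 1 := by ring
    omega
  exact Nat.eq_of_mul_eq_mul_right (by omega) h6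

/-- Assembling the shape of a pencil. -/
theorem PData.mk' (hh : Hyp V H p) [Fact p.Prime] {T : AddSubgroup V} (hT : Pencil H T) {q : ℕ}
    (hV : Nat.card V = Nat.card T * (q * q))
    (hrg : ∀ x : H, IsMem T x → Nat.card (Rg V x) = q)
    (hfx : ∀ x : H, IsMem T x → Nat.card (Fx V x) = Nat.card T * q)
    (hmeet : ∀ x y : H, IsMem T x → IsMem T y → x ≠ y → Fx V x ⊓ Fx V y = T)
    (hspan : Mov V H T ⊓ T = ⊥)
    (htwo : p = 2 → ∀ x y : H, IsMem T x → IsMem T y → Commute x y → x = y)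
    (hperp : p ≠ 2 → ∀ x : H, IsMem T x → ∃ y : H, IsMem T y ∧ y ≠ x ∧ Commute x y)
    (hex : ∃ x y : H, IsMem T x ∧ IsMem T y ∧ ¬ Commute x y) :
    PData H p T q := by
  have hdis : ∀ {x : H} {v : V}, IsMem T x → v ∈ Rg V x → v ∈ T → v = 0 := fun hx h1 h2 => by
    have := AddSubgroup.mem_inf.2 ⟨Rg_le_Mov hx h1, h2⟩
    rwa [hspan, AddSubgroup.mem_bot] at this
  have hq : 1 < q := by
    obtain ⟨x, hx⟩ := hT.exists_two hh
    rw [← hrg x hx]
    exact AddSubgroup.one_lt_card_iff_ne_bot _ |>.2 (Rg_ne_bot hx.1.ne_one)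
  refine ⟨hq, hV, hrg, hfx, hmeet, hspan, fun x y hx hy hne => ?_, htwo, hperp,
    fun x y z hx hy hz hxy hxz cy cz => ?_, hex, hT.count_of hh hq hV hfx hmeet⟩
  · refine (AddSubgroup.eq_bot_iff_forall _).2 fun u hu => ?_
    obtain ⟨h1, h2⟩ := AddSubgroup.mem_inf.1 hu
    by_cases hc : Commute x y
    · by_cases hp2 : p = 2
      · exact absurd (htwo hp2 x y hx hy hc) hne
      · exact hh.disjoint_Fx_Rg hp2 (hy.1.sq hh) (hx.1.comm_le hh hy.1 hc hne h1) h2
    · refine hdis hx h1 ?_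
      have hg2 : (x * y) * (x * y) ≠ 1 := fun e => hc (by
        have := eq_inv_of_mul_eq_one_left e
        rw [mul_inv_rev, inv_eq_of_mul_eq_one_right (hx.1.sq hh), inv_eq_of_mul_eq_one_right (hy.1.sq hh)] at this
        exact this)
      rw [← hT.Fx_eq ((le_inf hx.2 hy.2).trans (Fx_inf_le x y)) hg2, mem_Fx, mul_smul,
        smul_neg_of_mem_Rg (hy.1.sq hh) h2, smul_neg, smul_neg_of_mem_Rg (hx.1.sq hh) h1, neg_neg]
  · by_contra hne
    obtain ⟨u, hu, hu0⟩ := (Rg V x).bot_or_exists_ne_zero.resolve_left (Rg_ne_bot hx.1.ne_one)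
    exact hu0 (hdis hx hu (hmeet y z hy hz hne ▸
      AddSubgroup.mem_inf.2 ⟨hx.1.comm_le hh hy.1 cy hxy hu, hx.1.comm_le hh hz.1 cz hxz hu⟩))

namespace PData

variable {T : AddSubgroup V} {q : ℕ} (D : PData H p T q)
include D

theorem rg_T {x : H} (hx : IsMem T x) {v : V} (h1 : v ∈ Rg V x) (h2 : v ∈ T) : v = 0 := by
  have := AddSubgroup.mem_inf.2 ⟨Rg_le_Mov hx h1, h2⟩
  rwa [D.span, AddSubgroup.mem_bot] at this

theorem mov_T {v : V} (h1 : v ∈ Mov V H T) (h2 : v ∈ T) : v = 0 := by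
  have := AddSubgroup.mem_inf.2 ⟨h1, h2⟩
  rwa [D.span, AddSubgroup.mem_bot] at this

theorem card_Mov : Nat.card (Mov V H T) = q * q := by
  obtain ⟨x, y, hx, hy, hc⟩ := D.exists_noncomm
  have hne : x ≠ y := fun e => hc (e ▸ Commute.refl x)
  have h1 := card_prod_le (Rg_le_Mov hx) (Rg_le_Mov hy) (D.disj x y hx hy hne)
  rw [D.rg x hx, D.rg y hy] at h1
  have h2 := card_prod_le (le_top : T ≤ ⊤) (le_top : Mov V H T ≤ ⊤) (by rw [inf_comm]; exact D.span)
  rw [AddSubgroup.card_top, D.card] at h2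
  exact le_antisymm (Nat.le_of_mul_le_mul_left h2 Nat.card_pos) h1

theorem exists_split (v : V) : ∃ a ∈ T, ∃ m ∈ Mov V H T, v = a + m := by
  have hinj : Function.Injective (fun x : T × Mov V H T => (x.1 : V) + x.2) := by
    intro x y e
    have h0 : (x.1 : V) - y.1 = 0 := D.mov_T (by
      rw [show (x.1 : V) - y.1 = y.2 - x.2 by rw [sub_eq_sub_iff_add_eq_add, add_comm (y.2 : V)]; exact e]
      exact sub_mem y.2.2 x.2.2) (sub_mem x.1.2 y.1.2)
    rw [sub_eq_zero] at h0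
    have e' : (x.1 : V) + x.2 = y.1 + y.2 := e
    rw [h0, add_right_inj] at e'
    exact Prod.ext (Subtype.ext h0) (Subtype.ext e')
  have hb := (Nat.bijective_iff_injective_and_card _).2
    ⟨hinj, by rw [Nat.card_prod, D.card_Mov, D.card]⟩
  obtain ⟨⟨a, m⟩, e⟩ := hb.2 v
  exact ⟨a, a.2, m, m.2, e.symm⟩

/-- An element fixing `T` and `Mov` pointwise is trivial. -/
theorem eq_one {g : H} (h1 : T ≤ Fx V g) (h2 : Mov V H T ≤ Fx V g) : g = 1 :=
  (eq_one_iff_smul (V := V)).2 fun v => by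
    obtain ⟨a, ha, m, hm, rfl⟩ := D.exists_split v
    rw [smul_add, mem_Fx.1 (h1 ha), mem_Fx.1 (h2 hm)]

/-- The two root spaces of distinct members exhaust `Mov`. -/
theorem Mov_eq {x y : H} (hx : IsMem T x) (hy : IsMem T y) (hne : x ≠ y) :
    Mov V H T = Rg V x ⊔ Rg V y := by
  refine (AddSubgroup.eq_of_le_of_card_ge (sup_le (Rg_le_Mov hx) (Rg_le_Mov hy)) ?_).symm
  have h1 := card_prod_le (M := Rg V x ⊔ Rg V y) le_sup_left le_sup_right (D.disj x y hx hy hne)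
  rw [D.rg x hx, D.rg y hy] at h1
  rw [D.card_Mov]
  exact h1

end PData

end Cfsg.Agent.BinAff
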