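import Cfsg.Agent.Lib.BinAff.Pair
import Mathlib.GroupTheory.Transfer
import Mathlib.GroupTheory.FixedPointFree
import Mathlib.Data.Nat.Factorization.Basic

/-!
# Binary affine groups in characteristic two: a normal odd complement, and pencils
-/

set_option autoImplicit false
set_option linter.unusedSectionVars false

namespace Cfsg.Agent.BinAff

variable {V : Type*} [AddCommGroup V] [Finite V] {H : Type*} [Group H] [Finite H] [DistribMulAction H V]
  [FaithfulSMul H V] {p : ℕ}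

theorem le_Fx_iff_mem_fixing {T : AddSubgroup V} {g : H} :
    g ∈ fixingSubgroup H (T : Set V) ↔ T ≤ Fx V g := by
  rw [mem_fixingSubgroup_iff]
  exact ⟨fun h v hv => mem_Fx.2 (h v hv), fun h v hv => mem_Fx.1 (h hv)⟩

theorem commute_of_sq {x y : H} (hx : x * x = 1) (hy : y * y = 1) (hxy : x * y * (x * y) = 1) :
    Commute x y := by
  have := eq_inv_of_mul_eq_one_left hxy
  rwa [mul_inv_rev, inv_eq_of_mul_eq_one_right hx, inv_eq_of_mul_eq_one_right hy] at this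

theorem eq_one_of_sq_of_odd {a : H} (h : a * a = 1) (ho : Odd (orderOf a)) : a = 1 := by
  rw [← pow_two] at h
  have h1 := orderOf_dvd_of_pow_eq_one h
  rcases (Nat.dvd_prime Nat.prime_two).1 h1 with h2 | h2
  · exact orderOf_eq_one_iff.1 h2
  · rw [h2] at ho
    exact absurd ho (by decide)

theorem eq_neg_one_pow {a : H} (ho : Odd (orderOf a)) (h2 : p = 2) : (orderOf a).Coprime p := by
  rw [h2]
  exact ho.coprime_two_right

variable (hh : Hyp V H p)
include hh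

/-- Burnside transfer at a point of a root space whose stabiliser is elementary abelian. -/
theorem Hyp.complement_two [Fact p.Prime] (h2 : p = 2) {T : AddSubgroup V} {x : H} (hx : IsMir V x)
    (hxT : T ≤ Fx V x) {u : V} (hu : u ∈ Rg V x)
    (hel : ∀ g : H, T ≤ Fx V g → g • u = u → g * g = 1) :
    ∃ A : Subgroup H, (∀ a ∈ A, T ≤ Fx V a ∧ x * a * x = a⁻¹ ∧ Odd (orderOf a)) ∧
      (∀ a ∈ A, ∀ b ∈ A, a * b = b * a) ∧ (∀ g : H, T ≤ Fx V g → ∀ a ∈ A, g * a * g⁻¹ ∈ A) ∧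
      ∀ g : H, T ≤ Fx V g → ∃ a ∈ A, ∃ s : H, T ≤ Fx V s ∧ s • u = u ∧ g = a * s := by
  classical
  haveI : Fact (Nat.Prime 2) := ⟨Nat.prime_two⟩
  let K : Subgroup H := fixingSubgroup H (T : Set V)
  have hK : ∀ g : K, T ≤ Fx V (g : H) := fun g => le_Fx_iff_mem_fixing.1 g.2
  let xK : K := ⟨x, le_Fx_iff_mem_fixing.2 hxT⟩
  let S : Subgroup K := (MulAction.stabilizer H u).subgroupOf K
  have hmem : ∀ g : K, g ∈ S ↔ (g : H) • u = u := fun g => by
    rw [Subgroup.mem_subgroupOf, MulAction.mem_stabilizer_iff]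
  have hsq : ∀ g : K, g ∈ S → g * g = 1 := fun g hg =>
    Subtype.ext (hel g (hK g) ((hmem g).1 hg))
  have hxS : xK ∈ S := (hmem xK).2 (mem_Fx.1 (hh.Rg_le_Fx h2 (hx.sq hh) hu))
  have hC : ∀ g : K, Commute g xK → g ∈ S := fun g hg => by
    rcases hx.sign hh (c := (g : H)) (congrArg Subtype.val hg.eq) with h | ⟨h, -⟩
    · exact (hmem g).2 (h u hu)
    · exact absurd h2 h
  have hcom : ∀ g ∈ S, ∀ k ∈ S, g * k = k * g := fun g hg k hk => by
    have h := eq_inv_of_mul_eq_one_left (hsq _ (S.mul_mem hg hk))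
    rw [mul_inv_rev, inv_eq_of_mul_eq_one_right (hsq g hg), inv_eq_of_mul_eq_one_right (hsq k hk)] at h
    exact h
  have hS2 : IsPGroup 2 S := fun g => ⟨1, by
    rw [pow_one, pow_two]; exact Subtype.ext (hsq g g.2)⟩
  obtain ⟨P, hSP⟩ := hS2.exists_le_sylow
  have hPsq : ∀ g : K, g ∈ P → g * g = 1 := fun g hg => by
    obtain ⟨k, hk⟩ := P.isPGroup' ⟨g, hg⟩
    have e : (g : H) ^ 2 ^ k = 1 := by
      have := congrArg (fun z : P => ((z : K) : H)) hk
      simpa using this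
    exact Subtype.ext (hh.sq_of_two_pow h2 e)
  have hPS : (P : Subgroup K) = S := le_antisymm (fun g hg => hC g (by
    have h := eq_inv_of_mul_eq_one_left (hPsq _ ((P : Subgroup K).mul_mem hg (hSP hxS)))
    rw [mul_inv_rev, inv_eq_of_mul_eq_one_right (hPsq g hg),
      inv_eq_of_mul_eq_one_right (hPsq xK (hSP hxS))] at h
    exact h)) hSP
  have hP : Subgroup.normalizer (P : Set K) ≤ Subgroup.centralizer (P : Set K) := by
    intro n hn
    rw [Subgroup.mem_centralizer_iff]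
    intro s hs
    refine hcom s (hPS ▸ hs) n ?_
    have hnS : ∀ k : K, k ∈ S ↔ n * k * n⁻¹ ∈ S := fun k => by
      have := Subgroup.mem_normalizer_iff.1 hn k
      simpa [← hPS] using this
    obtain ⟨σ, hσT, h1, h3⟩ := hh.swap (T : Set V) (g := (n : H)) n.2 u
    let σK : K := ⟨σ, hσT⟩
    have hσS : ∀ k : K, k ∈ S → σK * k * σK⁻¹ ∈ S := fun k hk => by
      have h := (hnS (n⁻¹ * (σK * k * σK⁻¹) * n)).1 ((hmem _).2 (by
        have e : ((n⁻¹ * (σK * k * σK⁻¹) * n : K) : H) = (n : H)⁻¹ * (σ * (k : H) * σ⁻¹) * (n : H) := by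
          simp [σK]
        rw [e, mul_smul, mul_smul, mul_smul, mul_smul,
          show σ⁻¹ • (n : H) • u = u by rw [inv_smul_eq_iff, h1], (hmem k).1 hk, h1, inv_smul_smul]))
      simpa [mul_assoc] using h
    have hσ2 : σK * σK ∈ S := (hmem _).2 (by
      show (σ * σ) • u = u
      rw [mul_smul, h1, h3])
    have hσsq : σK * σK = 1 := by
      refine Subtype.ext (hh.sq_of_pow_four h2 ?_)
      have := congrArg (fun z : K => (z : H)) (hsq _ hσ2)
      simpa [pow_succ, mul_assoc] using this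
    have hin : σK * xK * (σK * xK) ∈ S := by
      have h := hσS xK hxS
      rw [inv_eq_of_mul_eq_one_right hσsq] at h
      simpa [mul_assoc] using S.mul_mem h hxS
    have hσx : Commute σK xK := by
      refine commute_of_sq hσsq (hsq _ hxS) (Subtype.ext (hh.sq_of_pow_four h2 ?_))
      have := congrArg (fun z : K => (z : H)) (hsq _ hin)
      simpa [pow_succ, mul_assoc] using this
    refine (hmem n).2 ?_
    rw [← h1]
    exact (hmem σK).1 (hC σK hσx)
  obtain ⟨A, hAdef⟩ : ∃ A : Subgroup K, A = (MonoidHom.transferSylow P hP).ker := ⟨_, rfl⟩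
  have hAn : A.Normal := hAdef ▸ MonoidHom.normal_ker _
  have hcompl : Subgroup.IsComplement' A P := hAdef ▸ MonoidHom.ker_transferSylow_isComplement' P hP
  have hodd : ∀ a : K, a ∈ A → Odd (orderOf (a : H)) := fun a ha => by
    rw [← Nat.not_even_iff_odd, even_iff_two_dvd, Subgroup.orderOf_coe]
    exact fun hd => MonoidHom.not_dvd_card_ker_transferSylow P hP
      (hd.trans (Subgroup.orderOf_dvd_natCard _ (hAdef ▸ ha)))
  have hxx : xK * xK = 1 := hsq _ hxS
  let φ : A →* A :=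
    { toFun := fun a => ⟨xK * a * xK⁻¹, hAn.conj_mem _ a.2 _⟩
      map_one' := Subtype.ext (by simp)
      map_mul' := fun a b => Subtype.ext (by simp [mul_assoc]) }
  have hφ : MonoidHom.FixedPointFree φ := fun a ha => by
    have h : Commute (a : K) xK := by
      have := congrArg (fun z : A => (z : K)) ha
      simp only [φ, MonoidHom.coe_mk, OneHom.coe_mk] at this
      rw [mul_inv_eq_iff_eq_mul] at this
      exact this.symm
    have hs := hsq _ (hC _ h)
    have : (a : H) = 1 := eq_one_of_sq_of_odd (congrArg Subtype.val hs) (hodd _ a.2)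
    exact Subtype.ext (Subtype.ext this)
  have hφ2 : Function.Involutive φ := fun a => Subtype.ext (by
    simp only [φ, MonoidHom.coe_mk, OneHom.coe_mk]
    rw [← mul_assoc, ← mul_assoc, hxx, one_mul, mul_assoc, ← mul_inv_rev, hxx, inv_one, mul_one])
  have hxi : x⁻¹ = x := inv_eq_of_mul_eq_one_right (hx.sq hh)
  refine ⟨A.map K.subtype, ?_, ?_, ?_, ?_⟩
  · rintro - ⟨a, ha, rfl⟩
    refine ⟨hK a, ?_, hodd a ha⟩
    have := congrArg (fun z : A => ((z : K) : H)) (congrFun (hφ.coe_eq_inv_of_involutive hφ2) ⟨a, ha⟩)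
    simpa [φ, xK, hxi] using this
  · rintro - ⟨a, ha, rfl⟩ - ⟨b, hb, rfl⟩
    have := congrArg (fun z : A => ((z : K) : H)) (hφ.commute_all_of_involutive hφ2 ⟨a, ha⟩ ⟨b, hb⟩).eq
    simpa using this
  · rintro g hg - ⟨a, ha, rfl⟩
    let gK : K := ⟨g, le_Fx_iff_mem_fixing.2 hg⟩
    exact Subgroup.mem_map.2 ⟨gK * a * gK⁻¹, hAn.conj_mem a ha gK, by simp [gK]⟩
  · intro g hg
    obtain ⟨⟨⟨a, ha⟩, ⟨s, hs⟩⟩, e⟩ := hcompl.2 ⟨g, le_Fx_iff_mem_fixing.2 hg⟩
    exact ⟨a, ⟨a, ha, rfl⟩, s, hK s, (hmem s).1 (hPS ▸ hs), (congrArg Subtype.val e).symm⟩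

omit hh in
theorem Pencil.exists_odd (hh : Hyp V H p) [Fact p.Prime] (h2 : p = 2) {T : AddSubgroup V}
    (hT : Pencil H T) : ∃ g : H, T ≤ Fx V g ∧ g ≠ 1 ∧ Odd (orderOf g) := by
  obtain ⟨g, hg, hg2⟩ := hT.ne
  obtain ⟨k, m, hm, hkm⟩ := Nat.exists_eq_two_pow_mul_odd (orderOf_pos g).ne'
  refine ⟨g ^ 2 ^ k, ?_, fun e => hg2 (hh.sq_of_two_pow h2 e), ?_⟩
  · exact le_Fx_iff_mem_fixing.1 (Subgroup.pow_mem _ (le_Fx_iff_mem_fixing.2 hg) _)
  · refine hm.of_dvd_nat (orderOf_dvd_of_pow_eq_one ?_)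
    rw [← pow_mul, ← hkm, pow_orderOf_eq_one]

/-- In a pencil the root space of a member is not contained in the base. -/
theorem Pencil.not_Rg_le [Fact p.Prime] (h2 : p = 2) {T : AddSubgroup V} (hT : Pencil H T) {m : H}
    (hm : IsMem T m) : ¬ Rg V m ≤ T := by
  intro hle
  obtain ⟨g, hg, hg1, hgo⟩ := hT.exists_odd hh h2
  have hFg : Fx V g = T := hT.Fx_eq hg fun e => hg1 (eq_one_of_sq_of_odd e hgo)
  have hms := hm.1.sq hh
  obtain ⟨n, hn⟩ : ∃ n, n = g * m * g⁻¹ := ⟨_, rfl⟩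
  have hnM : IsMir V n := hn ▸ hm.1.conj g
  have hUn : Rg V n = Rg V m := by rw [hn, Rg_conj', tr_eq_self (hle.trans hg)]
  have hW : ∀ y ∈ Fx V m, n • y = y := by
    intro y hy
    by_contra hne
    have hu0 : n • y - y ∈ Rg V m := hUn ▸ dl_mem_Rg n y
    obtain ⟨a, ha⟩ := hu0
    rw [dl_apply] at ha
    have haW : a ∉ Fx V m := fun h => hne (by
      rw [mem_Fx.1 h, sub_self, eq_comm, sub_eq_zero] at ha
      exact ha)
    refine hm.1.not_rel hh haW (b := a - y) (fun h => haW ?_) ⟨n, ?_⟩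
    · simpa using add_mem h hy
    · rw [sub_sub_cancel, sub_eq_iff_eq_add.1 ha]
      abel
  have hWeq : Fx V n = Fx V m := hm.1.2 n hnM.ne_one fun y hy => mem_Fx.2 (hW y hy)
  have hnm : n = m := by
    refine eq_of_smul_eq_smul fun y : V => ?_
    by_cases hy : y ∈ Fx V m
    · rw [hW y hy, mem_Fx.1 hy]
    · by_contra hne
      have hu0 : m • y - y ∈ Rg V m := dl_mem_Rg m y
      have hu' : n • y - y ∈ Rg V m := hUn ▸ dl_mem_Rg n y
      obtain ⟨a, ha⟩ := hu'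
      rw [dl_apply] at ha
      have haW : a ∉ Fx V m := fun h => by
        rw [mem_Fx.1 h, sub_self, eq_comm, sub_eq_zero] at ha
        exact hy (hWeq ▸ mem_Fx.2 ha)
      refine hm.1.not_rel hh haW (b := a - y) (fun h => hne ?_) ⟨n, ?_⟩
      · rw [mem_Fx, smul_sub, sub_eq_sub_iff_sub_eq_sub] at h
        rw [ha] at h
        exact sub_left_inj.1 h
      · rw [sub_sub_cancel, sub_eq_iff_eq_add.1 ha]
        abel
  refine hm.1.ne_one ((eq_one_iff_smul (V := V)).2 fun v => ?_)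
  obtain ⟨a, ha, w, hw, rfl⟩ := hh.exists_split (eq_neg_one_pow hgo h2) v
  obtain ⟨z, rfl⟩ := hw
  have hgm : g * m = m * g := mul_inv_eq_iff_eq_mul.1 (hn.symm.trans hnm)
  rw [smul_add, mem_Fx.1 (hm.2 (hFg ▸ ha)), dl_apply, smul_sub, ← mul_smul m g, ← hgm, mul_smul]
  have h3 := mem_Fx.1 (hg (hle (dl_mem_Rg m z)))
  rw [smul_sub, sub_eq_sub_iff_sub_eq_sub] at h3
  rw [h3]

/-- The shape of a pencil in characteristic two. -/
theorem Pencil.data_two [Fact p.Prime] (h2 : p = 2) {T : AddSubgroup V} (hT : Pencil H T) :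
    ∃ q, PData H p T q := by
  classical
  obtain ⟨k, hk⟩ := hT.exists_two hh
  obtain ⟨u, hu, huT⟩ := SetLike.not_le_iff_exists.1 (hT.not_Rg_le hh h2 hk)
  obtain ⟨A, hA, hAc, hAn, hAS⟩ :=
    hh.complement_two h2 hk.1 hk.2 hu fun g hg hgu => hT.step g u hg huT hgu
  have hki : k⁻¹ = k := inv_eq_of_mul_eq_one_right (hk.1.sq hh)
  have hFA : ∀ a ∈ A, a ≠ 1 → Fx V a = T := fun a ha ha1 =>
    hT.Fx_eq (hA a ha).1 fun e => ha1 (eq_one_of_sq_of_odd e (hA a ha).2.2)
  have hconj : ∀ a ∈ A, a * k * a⁻¹ = a * a * k := fun a ha => by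
    have e := (hA a⁻¹ (A.inv_mem ha)).2.1
    rw [inv_inv] at e
    have e' : k * a⁻¹ = a * k := by
      calc k * a⁻¹ = k * a⁻¹ * (k * k) := by rw [hk.1.sq hh, mul_one]
        _ = a * k := by rw [← mul_assoc, e]
    rw [mul_assoc, e', ← mul_assoc]
  have hfpf : ∀ s : H, T ≤ Fx V s → s • u = u → ∀ a ∈ A, a ≠ 1 → Commute s a → s = 1 := by
    intro s hs hsu a ha ha1 hsa
    have hsk : Commute s k :=
      commute_of_sq (hT.step s u hs huT hsu) (hk.1.sq hh) (hT.step _ u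
        ((le_inf hs hk.2).trans (Fx_inf_le s k)) huT
        (by rw [mul_smul, mem_Fx.1 (hh.Rg_le_Fx h2 (hk.1.sq hh) hu), hsu]))
    have hk' := hk.conj_self (hA a ha).1
    have hsk' : Commute s (a * k * a⁻¹) := (hsa.mul_right hsk).mul_right hsa.inv_right
    have hprod : a * k * a⁻¹ * k = a * a := by rw [hconj a ha, mul_assoc, hk.1.sq hh, mul_one]
    have ha2 : a * a ≠ 1 := fun e => ha1 (eq_one_of_sq_of_odd e (hA a ha).2.2)
    have hF2 : Fx V (a * k * a⁻¹ * k) = T := hprod ▸ hFA _ (A.mul_mem ha ha) ha2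
    have hco : (orderOf (a * k * a⁻¹ * k)).Coprime p :=
      hprod ▸ eq_neg_one_pow (hA _ (A.mul_mem ha ha)).2.2 h2
    obtain ⟨l1, l2, -, l4, l5, -, -⟩ :=
      hh.pair (hk'.1.sq hh) (hk.1.sq hh) hco (hF2.trans_le hk'.2) (hF2.trans_le hk.2)
    have hsup : Rg V (a * k * a⁻¹) ⊔ Rg V k = Rg V (a * k * a⁻¹ * k) :=
      AddSubgroup.eq_of_le_of_card_ge (sup_le l1 l2)
        (l5 ▸ card_prod_le le_sup_left le_sup_right l4)
    refine (eq_one_iff_smul (V := V)).2 fun v => ?_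
    obtain ⟨b, hb, m, hm, rfl⟩ := hh.exists_split hco v
    have hfix : Rg V (a * k * a⁻¹ * k) ≤ Fx V s := by
      rw [← hsup]
      refine sup_le (fun w hw => ?_) fun w hw => ?_
      · exact mem_Fx.2 (((hk'.1.sign hh hsk').resolve_right fun h => h.1 h2) w hw)
      · exact mem_Fx.2 (((hk.1.sign hh hsk).resolve_right fun h => h.1 h2) w hw)
    rw [smul_add, mem_Fx.1 (hs (hF2 ▸ hb)), mem_Fx.1 (hfix hm)]
  obtain ⟨a0, ha0, ha01⟩ : ∃ a ∈ A, a ≠ 1 := by
    obtain ⟨g, hg, hg2⟩ := hT.ne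
    obtain ⟨a, ha, s, hs, hsu, rfl⟩ := hAS g hg
    exact ⟨a, ha, fun e => hg2 (by rw [e, one_mul]; exact hT.step s u hs huT hsu)⟩
  have hS : ∀ s : H, T ≤ Fx V s → s • u = u → s = 1 ∨ s = k := by
    intro s hs hsu
    by_contra! hc
    have hss := hT.step s u hs huT hsu
    let φ : A →* A :=
      { toFun := fun a => ⟨s * a * s⁻¹, hAn s hs _ a.2⟩
        map_one' := Subtype.ext (by simp)
        map_mul' := fun a b => Subtype.ext (by simp [mul_assoc]) }
    have hφ : MonoidHom.FixedPointFree φ := fun a e => by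
      by_contra ha1
      have e' : s * (a : H) * s⁻¹ = a := congrArg (fun z : A => (z : H)) e
      exact hc.1 (hfpf s hs hsu a a.2 (fun h => ha1 (Subtype.ext h)) (mul_inv_eq_iff_eq_mul.1 e'))
    have hφ2 : Function.Involutive φ := fun a => Subtype.ext (by
      simp only [φ, MonoidHom.coe_mk, OneHom.coe_mk]
      rw [← mul_assoc, ← mul_assoc, hss, one_mul, mul_assoc, ← mul_inv_rev, hss, inv_one, mul_one])
    have h1 : s * a0 * s⁻¹ = a0⁻¹ :=
      congrArg (fun z : A => (z : H)) (congrFun (hφ.coe_eq_inv_of_involutive hφ2) ⟨a0, ha0⟩)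
    have h3 := (hA a0 ha0).2.1
    refine hc.2 ?_
    have hfix : k • u = u := mem_Fx.1 (hh.Rg_le_Fx h2 (hk.1.sq hh) hu)
    have h4 := hfpf (k * s) ((le_inf hk.2 hs).trans (Fx_inf_le k s)) (by rw [mul_smul, hsu, hfix])
      a0 ha0 ha01 (show k * s * a0 = a0 * (k * s) by
        calc k * s * a0 = k * (s * a0 * s⁻¹) * s := by group
          _ = k * a0⁻¹ * s := by rw [h1]
          _ = (k * k) * a0 * k * s := by rw [← h3]; group
          _ = a0 * (k * s) := by rw [hk.1.sq hh, one_mul, mul_assoc])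
    rw [mul_eq_one_iff_inv_eq, hki] at h4
    exact h4.symm
  have hmem : ∀ x : H, IsMem T x → ∃ a ∈ A, x = a * k := by
    intro x hx
    obtain ⟨a, ha, s, hs, hsu, rfl⟩ := hAS x hx.2
    rcases hS s hs hsu with rfl | rfl
    · refine absurd ?_ hx.1.ne_one
      rw [mul_one]
      exact eq_one_of_sq_of_odd (by simpa using hx.1.sq hh) (hA a ha).2.2
    · exact ⟨a, ha, rfl⟩
  have hpair : ∀ x y : H, IsMem T x → IsMem T y → x ≠ y →
      x * y ∈ A ∧ x * y ≠ 1 := by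
    intro x y hx hy hne
    obtain ⟨a, ha, rfl⟩ := hmem x hx
    obtain ⟨b, hb, rfl⟩ := hmem y hy
    have e : a * k * (b * k) = a * b⁻¹ := by
      rw [← (hA b hb).2.1]; group
    rw [e]
    exact ⟨A.mul_mem ha (A.inv_mem hb), fun h => hne (by rw [mul_inv_eq_one.1 h])⟩
  have hdat : ∀ x y : H, IsMem T x → IsMem T y → x ≠ y →
      Fx V x ⊓ Fx V y = T ∧ Nat.card (Rg V x) = Nat.card (Rg V y) ∧
      Nat.card (Fx V x) = Nat.card T * Nat.card (Rg V x) ∧
      Nat.card V = Nat.card T * (Nat.card (Rg V x) * Nat.card (Rg V x)) := by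
    intro x y hx hy hne
    obtain ⟨h1, h3⟩ := hpair x y hx hy hne
    have hco := eq_neg_one_pow (hA _ h1).2.2 h2
    have hF := hFA _ h1 h3
    obtain ⟨l1, l2, l3, -, l5, l6, l7⟩ :=
      hh.pair (hx.1.sq hh) (hy.1.sq hh) hco (hF.trans_le hx.2) (hF.trans_le hy.2)
    have hlow : ∀ z : H, IsMem T z → Rg V z ≤ Rg V (x * y) →
        Nat.card T * Nat.card (Rg V z) ≤ Nat.card (Fx V z) := fun z hz hzM =>
      card_prod_le hz.2 (hh.Rg_le_Fx h2 (hz.1.sq hh)) ((AddSubgroup.eq_bot_iff_forall _).2 fun v hv =>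
        hh.disjoint_of_coprime hco (hF.symm ▸ (AddSubgroup.mem_inf.1 hv).1 : v ∈ Fx V (x * y))
          (hzM (AddSubgroup.mem_inf.1 hv).2))
    have i1 := hlow x hx l1
    have i2 := hlow y hy l2
    rw [l6, hF] at i1
    rw [l7, hF] at i2
    have he := le_antisymm (Nat.le_of_mul_le_mul_left i1 Nat.card_pos)
      (Nat.le_of_mul_le_mul_left i2 Nat.card_pos)
    refine ⟨l3.trans hF, he, by rw [l6, hF, he], ?_⟩
    rw [← card_Fx_mul_Rg (V := V) (x * y), hF, ← l5, he]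
  have hk' := hk.conj_self (hA a0 ha0).1
  have hkne : a0 * k * a0⁻¹ ≠ k := fun e => by
    rw [hconj a0 ha0, mul_eq_right] at e
    exact ha01 (eq_one_of_sq_of_odd e (hA a0 ha0).2.2)
  have hq : ∀ x : H, IsMem T x → Nat.card (Rg V x) = Nat.card (Rg V k) := fun x hx => by
    by_cases hxk : x = k
    · rw [hxk]
    · exact (hdat x k hx hk hxk).2.1
  refine ⟨Nat.card (Rg V k), PData.mk' hh hT (hdat k _ hk hk' hkne.symm).2.2.2 hq (fun x hx => ?_)
    (fun x y hx hy hne => (hdat x y hx hy hne).1) ?_ (fun _ x y hx hy hc => ?_) (fun h => absurd h2 h)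
    ⟨k, _, hk, hk', fun hc => hkne.symm ?_⟩⟩
  · by_cases hxk : x = k
    · rw [hxk]; exact (hdat k _ hk hk' hkne.symm).2.2.1
    · rw [(hdat x k hx hk hxk).2.2.1, (hdat x k hx hk hxk).2.1]
  · have hle : Mov V H T ≤ Rg V a0 := iSup₂_le fun x hx => by
      obtain ⟨a, ha, rfl⟩ := hmem x hx
      refine (hh.split_fix (eq_neg_one_pow (hA a0 ha0).2.2 h2) ((hFA a0 ha0 ha01).trans_le hx.2)
        fun m hm => smul_mem_Rg_of_inverts ?_ hm).1
      rw [← (hA a0 ha0).2.1]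
      calc a * k * a0 = a * (k * a0 * k) * k⁻¹ := by group
        _ = (k * a0 * k) * a * k := by
          rw [hki, hAc a ha _ (by rw [(hA a0 ha0).2.1]; exact A.inv_mem ha0)]
        _ = k * a0 * k * (a * k) := by group
    exact (AddSubgroup.eq_bot_iff_forall _).2 fun v hv => hh.disjoint_of_coprime
      (eq_neg_one_pow (hA a0 ha0).2.2 h2)
      ((hFA a0 ha0 ha01).symm ▸ (AddSubgroup.mem_inf.1 hv).2 : v ∈ Fx V a0)
      (hle (AddSubgroup.mem_inf.1 hv).1)
  · by_contra hne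
    obtain ⟨h1, h3⟩ := hpair x y hx hy hne
    exact h3 (eq_one_of_sq_of_odd (by
      rw [mul_assoc, ← mul_assoc y, ← hc.eq, mul_assoc x y y, hy.1.sq hh, mul_one, hx.1.sq hh]) (hA _ h1).2.2)
  · obtain ⟨h1, h3⟩ := hpair k _ hk hk' hkne.symm
    exact absurd (eq_one_of_sq_of_odd (by
      rw [mul_assoc, ← mul_assoc (a0 * k * a0⁻¹), ← hc.eq, mul_assoc k (a0 * k * a0⁻¹) (a0 * k * a0⁻¹),
        hk'.1.sq hh, mul_one, hk.1.sq hh]) (hA _ h1).2.2) h3

end Cfsg.Agent.BinAff
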